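import Mathlib

/-!
Characteristically simple finite groups are direct powers of a simple group, and conversely.
-/

namespace Cfsg.Agent.Lib.CharSimple

open Subgroup

/-- `N^(n+1) ≅ N × N^n`. -/
def piFinSuccMulEquiv (N : Type*) [Group N] (n : ℕ) : (Fin (n + 1) → N) ≃* N × (Fin n → N) where
  toFun f := (f 0, fun i => f i.succ)
  invFun p := Fin.cons p.1 p.2
  left_inv f := by funext i; refine Fin.cases ?_ ?_ i <;> simp
  right_inv p := by simp
  map_mul' _ _ := rfl

theorem exists_mulEquiv_pi_of_charSimple (G : Type*) [Group G] [Finite G] [Nontrivial G]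
    (h : ∀ H : Subgroup G, H.Characteristic → H = ⊥ ∨ H = ⊤) :
    ∃ (N : Subgroup G) (n : ℕ), N.Normal ∧ IsSimpleGroup N ∧ 1 ≤ n ∧ Nonempty (G ≃* (Fin n → N)) := by
  classical
  have := Fintype.ofFinite G
  obtain ⟨N, hN, hNmin⟩ := Finset.exists_min_image
    (Finset.univ.filter fun N : Subgroup G => N.Normal ∧ N ≠ ⊥) (fun N => Nat.card N)
    ⟨⊤, by simp⟩
  simp only [Finset.mem_filter, Finset.mem_univ, true_and] at hN hNmin
  obtain ⟨hNn, hNb⟩ := hN
  let P : Subgroup G → Prop := fun H => H.Normal ∧ ∃ n, Nonempty ((Fin n → N) ≃* H)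
  obtain ⟨H, hH, hHmax⟩ := Finset.exists_max_image
    (Finset.univ.filter P) (fun H => Nat.card H) ⟨⊥, by
      simp only [Finset.mem_filter, Finset.mem_univ, true_and, P]
      exact ⟨inferInstance, 0, ⟨MulEquiv.ofUnique⟩⟩⟩
  simp only [Finset.mem_filter, Finset.mem_univ, true_and] at hH hHmax
  obtain ⟨hHn, n, ⟨e⟩⟩ := hH
  have hle : ∀ φ : G ≃* G, N.map φ.toMonoidHom ≤ H := by
    intro φ
    by_contra hc
    let N' := N.map φ.toMonoidHom
    have hN'n : N'.Normal := hNn.map _ φ.surjective
    have hinf : N' ⊓ H = ⊥ := by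
      by_contra hb
      have h1 := hNmin _ ⟨inferInstance, hb⟩
      have h2 : Nat.card N' = Nat.card N :=
        (Nat.card_congr (N.equivMapOfInjective φ.toMonoidHom φ.injective).toEquiv).symm
      have h3 : N' ⊓ H = N' := Subgroup.eq_of_le_of_card_ge inf_le_left (h2.le.trans h1)
      exact hc (inf_eq_left.mp h3)
    have hdisj : Disjoint N' H := disjoint_iff.mpr hinf
    have hcomm : ∀ (a : N') (b : H), Commute (N'.subtype a) (H.subtype b) := fun a b =>
      Subgroup.commute_of_normal_of_disjoint _ _ hN'n hHn hdisj _ _ a.2 b.2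
    let f := N'.subtype.noncommCoprod H.subtype hcomm
    have hf : Function.Injective f :=
      (MonoidHom.noncommCoprod_injective _ _ _).mpr
        ⟨Subtype.val_injective, Subtype.val_injective, by simpa using hdisj⟩
    have hrange : f.range = N' ⊔ H := by
      simp [f, MonoidHom.noncommCoprod_range]
    let g : (Fin (n + 1) → N) ≃* (N' ⊔ H : Subgroup G) :=
      ((piFinSuccMulEquiv N n).trans
        ((N.equivMapOfInjective φ.toMonoidHom φ.injective).prodCongr e)).trans
        ((MonoidHom.ofInjective hf).trans (MulEquiv.subgroupCongr hrange))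
    have h4 := hHmax (N' ⊔ H) ⟨inferInstance, n + 1, ⟨g⟩⟩
    have h5 : H = N' ⊔ H := Subgroup.eq_of_le_of_card_ge le_sup_right h4
    exact hc (le_sup_left.trans h5.symm.le)
  have hHtop : H = ⊤ := by
    let M := ⨆ φ : G ≃* G, N.map φ.toMonoidHom
    have hM : M.Characteristic := by
      rw [Subgroup.characteristic_iff_map_le]
      intro ψ
      rw [Subgroup.map_iSup]
      refine iSup_le fun φ => ?_
      rw [Subgroup.map_map]
      exact le_iSup (fun φ : G ≃* G => N.map φ.toMonoidHom) (φ.trans ψ)
    have hMH : M ≤ H := iSup_le hle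
    rcases h M hM with h' | h'
    · exfalso
      have : N.map (MulEquiv.refl G).toMonoidHom ≤ M :=
        le_iSup (fun φ : G ≃* G => N.map φ.toMonoidHom) _
      rw [h', le_bot_iff] at this
      exact hNb ((Subgroup.map_eq_bot_iff_of_injective _ (MulEquiv.refl G).injective).mp this)
    · exact top_le_iff.mp (h' ▸ hMH)
  subst hHtop
  let eG : G ≃* (Fin n → N) := (e.trans Subgroup.topEquiv).symm
  have hn : 1 ≤ n := by
    by_contra hn
    obtain rfl : n = 0 := by omega
    exact not_subsingleton G eG.toEquiv.subsingleton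
  haveI : Nontrivial N := (Subgroup.nontrivial_iff_ne_bot N).mpr hNb
  refine ⟨N, n, hNn, ⟨fun M hM => ?_⟩, hn, ⟨eG⟩⟩
  let i : Fin n := ⟨0, hn⟩
  let M' : Subgroup G :=
    (M.map (MonoidHom.mulSingle (fun _ : Fin n => (N : Type _)) i)).comap eG.toMonoidHom
  have hMsingle : (M.map (MonoidHom.mulSingle (fun _ : Fin n => (N : Type _)) i)).Normal := by
    constructor
    rintro x ⟨m, hm, rfl⟩ y
    refine ⟨y i * m * (y i)⁻¹, hM.conj_mem m hm _, ?_⟩
    funext j
    by_cases hj : j = i
    · subst hj; simp
    · simp [Pi.mulSingle_eq_of_ne hj]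
  have hcard : Nat.card M' = Nat.card M := by
    rw [show M' = (M.map _).map eG.symm.toMonoidHom from
      Subgroup.comap_equiv_eq_map_symm eG _]
    rw [Subgroup.card_map_of_injective eG.symm.injective,
      Subgroup.card_map_of_injective (f := MonoidHom.mulSingle (fun _ : Fin n => (N : Type _)) i)
        (fun a b hab => by simpa using congrFun hab i)]
  rcases eq_or_ne M' ⊥ with h' | h'
  · left
    rw [h', Subgroup.card_bot] at hcard
    exact Subgroup.eq_bot_of_card_eq _ hcard.symm
  · right
    have := hNmin M' ⟨hMsingle.comap _, h'⟩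
    rw [hcard] at this
    exact Subgroup.eq_top_of_le_card _ this

/-- A direct power of a simple group is characteristically simple. -/
theorem charSimple_pi {S : Type*} [Group S] [IsSimpleGroup S] (n : ℕ)
    (H : Subgroup (Fin n → S)) [hH : H.Characteristic] : H = ⊥ ∨ H = ⊤ := by
  classical
  rcases eq_or_ne H ⊥ with hb | hb
  · exact Or.inl hb
  right
  obtain ⟨x, hx, hx1⟩ := H.bot_or_exists_ne_one.resolve_left hb
  obtain ⟨i, hi⟩ : ∃ i, x i ≠ 1 := by
    by_contra hc
    push Not at hc
    exact hx1 (funext hc)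
  suffices hkey : ∃ j : Fin n, ∃ s : S, s ≠ 1 ∧ Pi.mulSingle j s ∈ H by
    obtain ⟨j, s, hs, hsH⟩ := hkey
    let M : Subgroup S := H.comap (MonoidHom.mulSingle (fun _ : Fin n => S) j)
    have hM : ∀ t : S, Pi.mulSingle j t ∈ H := by
      rcases (inferInstance : M.Normal).eq_bot_or_eq_top with h' | h'
      · exact absurd (show s ∈ M from hsH) (by simp [h', hs])
      · exact fun t => (h'.symm.le (Subgroup.mem_top t) : t ∈ M)
    refine eq_top_iff.mpr fun y _ => Subgroup.pi_mem_of_mulSingle_mem y fun k => ?_
    let σ : (Fin n → S) ≃* (Fin n → S) :=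
      { Equiv.piCongrLeft' (fun _ => S) (Equiv.swap j k) with map_mul' := fun _ _ => rfl }
    have hσ : σ (Pi.mulSingle j (y k)) = Pi.mulSingle k (y k) := by
      funext l
      show (Pi.mulSingle j (y k) : Fin n → S) ((Equiv.swap j k).symm l) = _
      rw [Equiv.symm_swap]
      by_cases hl : l = k
      · subst hl; simp
      · rw [Pi.mulSingle_eq_of_ne hl, Pi.mulSingle_eq_of_ne]
        intro h'
        apply hl
        simpa [Equiv.swap_apply_left] using congrArg (Equiv.swap j k) h'
    rw [← hσ]
    have := Subgroup.characteristic_iff_le_comap.mp hH σ (hM (y k))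
    simpa using this
  by_cases hab : ∀ a b : S, a * b = b * a
  · by_cases hone : ∀ j, j = i
    · exact ⟨i, x i, hi, by
        have : Pi.mulSingle i (x i) = x := by funext j; obtain rfl := hone j; simp
        rwa [this]⟩
    · push Not at hone
      obtain ⟨j, hj⟩ := hone
      let g : (Fin n → S) → (Fin n → S) := fun y => y * Pi.mulSingle j (y i)
      let T : (Fin n → S) ≃* (Fin n → S) :=
        { toFun := g
          invFun := fun y => y * Pi.mulSingle j (y i)⁻¹
          left_inv := fun y => by
            funext l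
            by_cases hl : l = j
            · subst hl; simp [g, Ne.symm hj]
            · simp [g, Pi.mulSingle_eq_of_ne hl]
          right_inv := fun y => by
            funext l
            by_cases hl : l = j
            · subst hl; simp [g, Ne.symm hj]
            · simp [g, Pi.mulSingle_eq_of_ne hl]
          map_mul' := fun y z => by
            funext l
            by_cases hl : l = j
            · subst hl
              simp only [g, Pi.mul_apply, Pi.mulSingle_eq_same]
              rw [mul_assoc, mul_assoc, ← mul_assoc (z _) (y i), hab (z _) (y i), mul_assoc]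
            · simp [g, Pi.mulSingle_eq_of_ne hl] }
      refine ⟨j, x i, hi, ?_⟩
      have h1 : T x ∈ H := Subgroup.characteristic_iff_le_comap.mp hH T hx
      have h2 : x⁻¹ * T x = Pi.mulSingle j (x i) := inv_mul_cancel_left _ _
      rw [← h2]
      exact H.mul_mem (H.inv_mem hx) h1
  · have hne : ∃ t, x i * t ≠ t * x i := by
      by_contra hc
      push Not at hc
      have hmem : x i ∈ Subgroup.center S := Subgroup.mem_center_iff.mpr fun g => (hc g).symm
      rcases (inferInstance : (Subgroup.center S).Normal).eq_bot_or_eq_top with h' | h'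
      · exact hi (by simpa [h'] using hmem)
      · exact hab fun a b => by
          have ha : a ∈ Subgroup.center S := h'.symm.le (Subgroup.mem_top a)
          exact ((Subgroup.mem_center_iff.mp ha) b).symm
    obtain ⟨t, ht⟩ := hne
    refine ⟨i, x i * (t * (x i)⁻¹ * t⁻¹), fun h3 => ht ?_, ?_⟩
    · calc x i * t = x i * (t * (x i)⁻¹ * t⁻¹) * (t * x i) := by group
        _ = t * x i := by rw [h3, one_mul]
    · have h1 : x * (Pi.mulSingle i t * x⁻¹ * (Pi.mulSingle i t)⁻¹) ∈ H :=
        H.mul_mem hx ((inferInstance : H.Normal).conj_mem _ (H.inv_mem hx) _)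
      convert h1 using 1
      funext j
      by_cases hj : j = i
      · subst hj; simp
      · simp [Pi.mulSingle_eq_of_ne hj]

end Cfsg.Agent.Lib.CharSimple
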