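import Cfsg.Agent.Lib.OrthStd.Models

/-!
# Quadratic forms over the field of two elements with a given polar form

The forms polarizing to the polar form `bil` of `Σ xᵢ yᵢ` are the functions `shift m w`, `w` in
the space; the type of `shift m w` is decided by the value of the plus form at `w` (Arf invariant).
-/

set_option autoImplicit false

namespace Cfsg.Agent.Lib.ArfTwo
open Cfsg

local notation "V" m:max => (Fin m ⊕ Fin m → ZMod 2)

theorem sq_add : ∀ a b : ZMod 2, a * a = a ∧ a + a = 0 ∧ a - b = a + b := by decide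

theorem bin_eq : ∀ a b : ZMod 2, a ^ 2 + 1 * a * b + 1 * b ^ 2 = a * b + (a + b) := by decide

theorem two_cases : ∀ a : ZMod 2, a = 0 ∨ a = 1 := by decide

theorem bin_aniso : ∀ a b : ZMod 2, a ^ 2 + 1 * a * b + 1 * b ^ 2 = 0 → a = 0 ∧ b = 0 := by decide

/-- The polar form of the plus form. -/
def bil (m : ℕ) (u v : V m) : ZMod 2 :=
  quadFormPlus m (ZMod 2) (u + v) - quadFormPlus m (ZMod 2) u - quadFormPlus m (ZMod 2) v

theorem bil_eq (m : ℕ) (u v : V m) :
    bil m u v = ∑ i : Fin m, (u (.inl i) * v (.inr i) + u (.inr i) * v (.inl i)) := by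
  simp only [bil, quadFormPlus, Pi.add_apply, ← Finset.sum_sub_distrib]
  exact Finset.sum_congr rfl fun i _ => by ring

theorem bil_comm (m : ℕ) (u v : V m) : bil m u v = bil m v u := by
  simp only [bil, add_comm u v]; ring

theorem bil_add_left (m : ℕ) (u v w : V m) : bil m (u + v) w = bil m u w + bil m v w := by
  simp only [bil_eq, ← Finset.sum_add_distrib, Pi.add_apply]
  exact Finset.sum_congr rfl fun i _ => by ring

theorem bil_add_right (m : ℕ) (u v w : V m) : bil m u (v + w) = bil m u v + bil m u w := by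
  rw [bil_comm, bil_add_left, bil_comm m v u, bil_comm m w u]

theorem bil_smul_left (m : ℕ) (c : ZMod 2) (u w : V m) : bil m (c • u) w = c * bil m u w := by
  simp only [bil_eq, Finset.mul_sum, Pi.smul_apply, smul_eq_mul]
  exact Finset.sum_congr rfl fun i _ => by ring

theorem bil_self (m : ℕ) (v : V m) : bil m v v = 0 := by
  rw [bil_eq]
  exact Finset.sum_eq_zero fun i _ => by rw [mul_comm (v (.inr i))]; exact (sq_add _ 0).2.1

theorem plus_add (m : ℕ) (u v : V m) :
    quadFormPlus m (ZMod 2) (u + v) =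
      quadFormPlus m (ZMod 2) u + quadFormPlus m (ZMod 2) v + bil m u v := by
  simp only [bil]; ring

/-- `Q₀ + bil(·, w)`. -/
def shift (m : ℕ) (w v : V m) : ZMod 2 := quadFormPlus m (ZMod 2) v + bil m v w

/-- The polarization condition. -/
def Polar (m : ℕ) (q : V m → ZMod 2) : Prop := ∀ u v, q (u + v) = q u + q v + bil m u v

theorem shift_polar (m : ℕ) (w : V m) : Polar m (shift m w) := fun u v => by
  simp only [shift, plus_add, bil_add_left]; ring

theorem polar_add_bil {m : ℕ} {q : V m → ZMod 2} (hq : Polar m q) (w : V m) :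
    Polar m (fun v => q v + bil m v w) := fun u v => by
  show q (u + v) + bil m (u + v) w = _
  rw [hq, bil_add_left]; ring

theorem exists_shift {m : ℕ} {q : V m → ZMod 2} (hq : Polar m q) : ∃ w, q = shift m w := by
  let φ : V m →+ ZMod 2 :=
    AddMonoidHom.mk' (fun v => q v - quadFormPlus m (ZMod 2) v) fun u v => by
      rw [hq, plus_add]; ring
  let ψ : V m →ₗ[ZMod 2] ZMod 2 := φ.toZModLinearMap 2
  refine ⟨Sum.elim (fun i => ψ (Pi.single (.inr i) 1)) (fun i => ψ (Pi.single (.inl i) 1)), ?_⟩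
  funext v
  have hψ : ψ v = bil m v
      (Sum.elim (fun i => ψ (Pi.single (.inr i) 1)) (fun i => ψ (Pi.single (.inl i) 1))) := by
    rw [bil_eq, LinearMap.pi_apply_eq_sum_univ ψ v, Fintype.sum_sum_type, Finset.sum_add_distrib]
    have h : ∀ (j : Fin m ⊕ Fin m), (fun k => if j = k then (1 : ZMod 2) else 0) = Pi.single j 1 := by
      intro j; funext k; simp [Pi.single_apply, eq_comm]
    simp only [h, smul_eq_mul, Sum.elim_inl, Sum.elim_inr]
  have hv : ψ v = q v - quadFormPlus m (ZMod 2) v := rfl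
  rw [shift, ← hψ, hv]; ring

theorem shift_injective (m : ℕ) : Function.Injective (shift m) := by
  intro w w' h
  funext j
  rcases j with i | i
  · simpa [shift, bil_eq, Pi.single_apply, Finset.sum_add_distrib] using
      congrFun h (Pi.single (Sum.inr i) 1)
  · simpa [shift, bil_eq, Pi.single_apply, Finset.sum_add_distrib] using
      congrFun h (Pi.single (Sum.inl i) 1)

/-- Forms polarizing to `bil` correspond to vectors. -/
noncomputable def equivPolar (m : ℕ) : (V m) ≃ {q : V m → ZMod 2 // Polar m q} :=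
  Equiv.ofBijective (fun w => ⟨shift m w, shift_polar m w⟩)
    ⟨fun _ _ h => shift_injective m (congrArg Subtype.val h),
      fun q => (exists_shift q.2).elim fun w hw => ⟨w, Subtype.ext hw.symm⟩⟩

/-- The transvection at `w`. -/
def transv (m : ℕ) (w : V m) : V m ≃ₗ[ZMod 2] V m :=
  LinearEquiv.ofInvolutive
    { toFun := fun v => v + bil m v w • w
      map_add' := fun u v => by rw [bil_add_left, add_smul]; abel
      map_smul' := fun c v => by rw [bil_smul_left, smul_add, RingHom.id_apply, mul_smul] }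
    (fun v => by
      show (v + bil m v w • w) + bil m (v + bil m v w • w) w • w = v
      rw [bil_add_left, bil_smul_left, bil_self, mul_zero, add_zero, add_assoc, ← add_smul,
        (sq_add _ 0).2.1, zero_smul, add_zero])

theorem transv_apply {m : ℕ} {q : V m → ZMod 2} (hq : Polar m q) {w : V m} (hw : q w = 0)
    (v : V m) : q (transv m w v) = q v + bil m v w := by
  show q (v + bil m v w • w) = _
  rcases two_cases (bil m v w) with h | h
  · rw [h, zero_smul, add_zero]; exact (add_zero _).symm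
  · rw [h, one_smul, hq, hw, add_zero, h]

/-- The number of zeros of the plus form. -/
def zerosPlus (m : ℕ) : ℕ := 2 ^ (2 * m - 1) + 2 ^ (m - 1)

theorem card_zeros (m : ℕ) (hm : 1 ≤ m) :
    Nat.card {v : V m // quadFormPlus m (ZMod 2) v = 0} = zerosPlus m := by
  rw [OrthStd.card_zeros_plus (q := 2) (ZMod.card 2) m hm, zerosPlus]
  obtain ⟨k, rfl⟩ : ∃ k, m = k + 1 := ⟨m - 1, by omega⟩
  rw [Nat.add_sub_cancel, pow_succ 2 k]
  have := Nat.two_pow_pos k
  have := Nat.two_pow_pos (2 * (k + 1) - 1)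
  omega

theorem card_space (m : ℕ) : Nat.card (V m) = 2 ^ (2 * m) := by
  rw [Nat.card_fun, Nat.card_zmod, Nat.card_eq_fintype_card, Fintype.card_sum, Fintype.card_fin,
    two_mul]

theorem card_ones (m : ℕ) (hm : 1 ≤ m) :
    Nat.card {v : V m // quadFormPlus m (ZMod 2) v = 1} = 2 ^ (2 * m - 1) - 2 ^ (m - 1) := by
  classical
  have h := card_space m
  rw [← Nat.card_congr (Equiv.sumCompl (fun v : V m => quadFormPlus m (ZMod 2) v = 0)),
    Nat.card_sum, card_zeros m hm] at h
  have key : ∀ a : ZMod 2, a = 1 ↔ ¬ a = 0 := by decide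
  simp only [key]
  have h2 : 2 ^ (2 * m) = 2 * 2 ^ (2 * m - 1) := by
    rw [← pow_succ', show 2 * m - 1 + 1 = 2 * m by omega]
  rw [zerosPlus, h2] at h
  omega

theorem card_zeros_shift (m : ℕ) (hm : 1 ≤ m) (w : V m) :
    Nat.card {v : V m // shift m w v = 0} =
      if quadFormPlus m (ZMod 2) w = 0 then zerosPlus m else 2 ^ (2 * m - 1) - 2 ^ (m - 1) := by
  have key : ∀ v, shift m w v = 0 ↔ quadFormPlus m (ZMod 2) (v + w) = quadFormPlus m (ZMod 2) w := by
    intro v
    rw [plus_add, shift]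
    generalize quadFormPlus m (ZMod 2) v = a
    generalize quadFormPlus m (ZMod 2) w = b
    generalize bil m v w = c
    revert a b c
    decide
  rw [Nat.card_congr (Equiv.subtypeEquiv (q := fun v => quadFormPlus m (ZMod 2) v = quadFormPlus m (ZMod 2) w)
    (Equiv.addRight w) fun v => key v)]
  rcases two_cases (quadFormPlus m (ZMod 2) w) with h | h
  · rw [if_pos h]; simp only [h]; exact card_zeros m hm
  · have h0 : ¬ quadFormPlus m (ZMod 2) w = 0 := by rw [h]; decide
    rw [if_neg h0]; simp only [h]; exact card_ones m hm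

theorem zeros_ne (m : ℕ) : zerosPlus m ≠ 2 ^ (2 * m - 1) - 2 ^ (m - 1) := by
  have := Nat.two_pow_pos (m - 1)
  have := Nat.two_pow_pos (2 * m - 1)
  unfold zerosPlus
  omega

theorem card_zeros_congr {α β : Type} [AddCommMonoid α] [AddCommMonoid β] [Module (ZMod 2) α]
    [Module (ZMod 2) β] {f : α → ZMod 2} {h : β → ZMod 2} (g : α ≃ₗ[ZMod 2] β)
    (hg : ∀ v, f v = h (g v)) : Nat.card {v // f v = 0} = Nat.card {v // h v = 0} :=
  Nat.card_congr (Equiv.subtypeEquiv g.toEquiv fun v => by rw [hg]; rfl)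

theorem shift_plus_iff (m : ℕ) (hm : 1 ≤ m) (w : V m) :
    (∃ g : V m ≃ₗ[ZMod 2] V m, ∀ v, shift m w v = quadFormPlus m (ZMod 2) (g v)) ↔
      quadFormPlus m (ZMod 2) w = 0 := by
  refine ⟨fun ⟨g, hg⟩ => ?_, fun h => ⟨transv m w, fun v => ?_⟩⟩
  · have := card_zeros_congr g hg
    rw [card_zeros_shift m hm, card_zeros m hm] at this
    by_contra h
    rw [if_neg h] at this
    exact zeros_ne m this.symm
  · exact (transv_apply (q := quadFormPlus m (ZMod 2)) (plus_add m) h v).symm

/-- Coordinates separating the last hyperbolic pair. -/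
def lastSplit (k : ℕ) :
    V (k + 1) ≃ₗ[ZMod 2] ((Fin k ⊕ Fin k) ⊕ Fin 2 → ZMod 2) where
  toFun v := Sum.elim (Sum.elim (fun i => v (.inl i.castSucc)) (fun i => v (.inr i.castSucc)))
    ![v (.inl (Fin.last k)), v (.inr (Fin.last k))]
  map_add' u v := by
    funext j; rcases j with (i | i) | j <;> first | rfl | (fin_cases j <;> rfl)
  map_smul' c v := by
    funext j; rcases j with (i | i) | j <;> first | rfl | (fin_cases j <;> rfl)
  invFun u := Sum.elim (Fin.snoc (fun i => u (.inl (.inl i))) (u (.inr 0)))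
    (Fin.snoc (fun i => u (.inl (.inr i))) (u (.inr 1)))
  left_inv v := by
    funext j; rcases j with i | i <;> refine Fin.lastCases ?_ (fun i => ?_) i <;> simp
  right_inv u := by
    funext j; rcases j with (i | i) | j <;> [simp; simp; (fin_cases j <;> simp)]

theorem shift_minus (m : ℕ) (hm : 1 ≤ m) (w : V m) (hw : quadFormPlus m (ZMod 2) w = 1) :
    ∃ g : V m ≃ₗ[ZMod 2] ((Fin (m - 1) ⊕ Fin (m - 1)) ⊕ Fin 2 → ZMod 2),
      ∀ v, shift m w v = quadFormMinus (m - 1) (ZMod 2) 1 1 (g v) := by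
  obtain ⟨k, rfl⟩ : ∃ k, m = k + 1 := ⟨m - 1, by omega⟩
  haveI : Fact (Nat.Prime 2) := ⟨Nat.prime_two⟩
  let w₀ : V (k + 1) := Sum.elim (Pi.single (Fin.last k) 1) (Pi.single (Fin.last k) 1)
  have hw₀ : quadFormPlus (k + 1) (ZMod 2) w₀ = 1 := by
    simp [quadFormPlus, w₀, Pi.single_apply]
  have ne0 : ∀ x : V (k + 1), quadFormPlus (k + 1) (ZMod 2) x = 1 → x ≠ 0 := by
    rintro x hx rfl
    simp [quadFormPlus] at hx
  obtain ⟨h, hh, hhw⟩ := Forms.witt_one (Forms.qPlus_nondeg (F := ZMod 2) (k + 1)) (ne0 w hw)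
    (ne0 w₀ hw₀) (by rw [← OrthStd.quadFormPlus_eq, ← OrthStd.quadFormPlus_eq, hw, hw₀])
  have hQ : ∀ x, quadFormPlus (k + 1) (ZMod 2) (h x) = quadFormPlus (k + 1) (ZMod 2) x := fun x => by
    rw [OrthStd.quadFormPlus_eq, OrthStd.quadFormPlus_eq]; exact hh x
  refine ⟨h.trans (lastSplit k), fun v => ?_⟩
  have hB : bil (k + 1) v w = bil (k + 1) (h v) w₀ := by
    rw [← hhw]
    simp only [bil, ← map_add, hQ]
  rw [shift, hB, ← hQ v, LinearEquiv.trans_apply]
  generalize h v = u
  show _ = quadFormMinus k (ZMod 2) 1 1 (lastSplit k u)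
  simp only [quadFormMinus, bin_eq]
  rw [quadFormPlus, Fin.sum_univ_castSucc, bil_eq, Fin.sum_univ_castSucc]
  simp [lastSplit, w₀, Pi.single_apply, Fin.ext_iff, Fin.val_last]
  have : ∀ i : Fin k, (i : ℕ) ≠ k := fun i => i.isLt.ne
  simp [this]
  ring

theorem shift_minus_iff (m : ℕ) (hm : 1 ≤ m) (w : V m) :
    (∃ g : V m ≃ₗ[ZMod 2] ((Fin (m - 1) ⊕ Fin (m - 1)) ⊕ Fin 2 → ZMod 2),
      ∀ v, shift m w v = quadFormMinus (m - 1) (ZMod 2) 1 1 (g v)) ↔
      quadFormPlus m (ZMod 2) w = 1 := by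
  refine ⟨fun ⟨g, hg⟩ => ?_, shift_minus m hm w⟩
  by_contra h
  have h0 : quadFormPlus m (ZMod 2) w = 0 :=
    (show ∀ a : ZMod 2, a ≠ 1 → a = 0 by decide) _ h
  have := card_zeros_congr g hg
  rw [card_zeros_shift m hm, if_pos h0,
    OrthStd.card_zeros_minus (q := 2) (ZMod.card 2) m hm bin_aniso] at this
  obtain ⟨k, rfl⟩ : ∃ k, m = k + 1 := ⟨m - 1, by omega⟩
  rw [zerosPlus, Nat.add_sub_cancel, pow_succ 2 k] at this
  have := Nat.two_pow_pos k
  have := Nat.two_pow_pos (2 * (k + 1) - 1)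
  omega

end Cfsg.Agent.Lib.ArfTwo
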