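import Cfsg.Agent.Lib.ZJ.Control
import Cfsg.Agent.Lib.SFourFree.Normal
import Cfsg.Agent.Lib.Induced.Burnside
import Cfsg.Agent.Lib.PLocal.PPrimeQuotient
import Cfsg.Agent.Lib.Coprime.Glauberman
import Cfsg.Agent.Lib.PSolvable.HallHigman
import Cfsg.Agent.Lib.Hall.Basic

/-!
# Prime divisors of automizers of `p`-subgroups

If all automizers of `p`-subgroups are `p`-solvable and `{p, q} ≠ {2, 3}`, a `q`-element acting
nontrivially on some `p`-subgroup yields one acting nontrivially on a subgroup normal in a Sylow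
`p`-subgroup.

Owner: helper76.
-/

set_option autoImplicit false
set_option linter.style.haveILetI false

namespace Cfsg.Agent.Lib.AutomizerControl76

open Subgroup

universe u v

/-- A `q`-element normalizes `K` without centralizing it. -/
def Moves {A : Type u} [Group A] (q : ℕ) (K : Subgroup A) : Prop :=
  ∃ y : A, (∃ j : ℕ, y ^ q ^ j = 1) ∧ y ∈ normalizer (K : Set A) ∧ y ∉ centralizer (K : Set A)

/-- `K` is a subgroup of `P` invariant under every automorphism of `P`. -/
def CharIn {A : Type u} [Group A] (K P : Subgroup A) : Prop :=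
  K ≤ P ∧ ∀ (e : P ≃* P) (x : P), (x : A) ∈ K → (e x : A) ∈ K

/-- `P` has a characteristic subgroup moved by a `q`-element. -/
def Good {A : Type u} [Group A] (q : ℕ) (P : Subgroup A) : Prop :=
  ∃ K : Subgroup A, CharIn K P ∧ Moves q K

section Basic

variable {A : Type u} [Group A] {B : Type v} [Group B] {q : ℕ}

theorem exists_pow_isQElt [Finite A] [hq : Fact q.Prime] (y : A) :
    ∃ m : ℕ, m.Coprime q ∧ ∃ j : ℕ, (y ^ m) ^ q ^ j = 1 := by
  obtain ⟨j, m, hm, he⟩ :=
    Nat.exists_eq_pow_mul_and_not_dvd (orderOf_pos y).ne' q hq.out.ne_one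
  refine ⟨m, ((hq.out.coprime_iff_not_dvd).mpr hm).symm, j, ?_⟩
  rw [← pow_mul, mul_comm, ← he, pow_orderOf_eq_one]

theorem mem_of_pow_mem (S : Subgroup A) {x : A} {j m : ℕ} (hx : x ^ q ^ j = 1)
    (hm : m.Coprime q) (h : x ^ m ∈ S) : x ∈ S := by
  have hc : m.Coprime (orderOf x) :=
    Nat.Coprime.of_dvd_right (orderOf_dvd_of_pow_eq_one hx) (hm.pow_right j)
  obtain ⟨n, hn⟩ := exists_pow_eq_self_of_coprime hc
  rw [← hn]
  exact pow_mem h n

theorem eq_one_of_pow_eq_one {p i j : ℕ} (hpq : p.Coprime q) {x : A} (hp : x ^ p ^ i = 1)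
    (hq : x ^ q ^ j = 1) : x = 1 :=
  orderOf_eq_one_iff.mp (Nat.eq_one_of_dvd_coprimes ((hpq.pow_left i).pow_right j)
    (orderOf_dvd_of_pow_eq_one hp) (orderOf_dvd_of_pow_eq_one hq))

theorem moves_map {f : A →* B} (hf : Function.Injective f) {K : Subgroup A} (h : Moves q K) :
    Moves q (K.map f) := by
  obtain ⟨y, ⟨j, hj⟩, hN, hC⟩ := h
  refine ⟨f y, ⟨j, by rw [← map_pow, hj, map_one]⟩,
    Subgroup.le_normalizer_map f ⟨y, hN, rfl⟩, fun hc => hC ?_⟩
  exact Subgroup.mem_centralizer_iff.mpr fun k hk => hf (by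
    rw [map_mul, map_mul]
    exact Subgroup.mem_centralizer_iff.mp hc (f k) ⟨k, hk, rfl⟩)

theorem charIn_map {f : A →* B} (hf : Function.Injective f) {K P : Subgroup A} (h : CharIn K P) :
    CharIn (K.map f) (P.map f) := by
  refine ⟨Subgroup.map_mono h.1, fun e x hx => ?_⟩
  let i := P.equivMapOfInjective f hf
  obtain ⟨k, hk, hkx⟩ := hx
  have hi : ∀ z : P, ((i z : P.map f) : B) = f z := fun z => coe_equivMapOfInjective_apply P f hf z
  have hkP := h.1 hk
  have hxk : i ⟨k, hkP⟩ = x := Subtype.ext ((hi _).trans hkx)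
  have h2 := h.2 (i.trans (e.trans i.symm)) ⟨k, hkP⟩ hk
  refine ⟨_, h2, ?_⟩
  rw [← hi]
  simp only [MulEquiv.trans_apply, MulEquiv.apply_symm_apply, hxk]

theorem good_map {f : A →* B} (hf : Function.Injective f) {P : Subgroup A} (h : Good q P) :
    Good q (P.map f) :=
  let ⟨K, h1, h2⟩ := h
  ⟨K.map f, charIn_map hf h1, moves_map hf h2⟩

/-- Pullback of a characteristic subgroup along a homomorphism with invariant kernel. -/
theorem charIn_comap [Finite A] (f : A →* B) {P : Subgroup A} {K : Subgroup B}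
    (h : CharIn K (P.map f))
    (hker : ∀ (e : P ≃* P) (x : P), f (x : A) = 1 → f (e x : A) = 1) :
    CharIn (P ⊓ K.comap f) P := by
  refine ⟨inf_le_left, fun e x hx => ⟨(e x).2, ?_⟩⟩
  let φ := f.subgroupMap P
  have hφ : Function.Surjective φ := f.subgroupMap_surjective P
  let h0 : ↥(P.map f) →* ↥(P.map f) := φ.liftOfSurjective hφ ⟨φ.comp e.toMonoidHom, fun z hz =>
    Subtype.ext (hker e z (congrArg Subtype.val hz))⟩
  have hh0 : ∀ z, h0 (φ z) = φ (e z) := fun z =>
    MonoidHom.liftOfRightInverse_comp_apply φ _ _ _ z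
  have hs : Function.Surjective h0 := fun z => by
    obtain ⟨w, rfl⟩ := hφ z
    exact ⟨φ (e.symm w), by rw [hh0, e.apply_symm_apply]⟩
  haveI : Finite ↥(P.map f) := Finite.of_surjective _ hφ
  have := h.2 (MulEquiv.ofBijective h0 ⟨Finite.injective_iff_surjective.mpr hs, hs⟩) (φ x) hx.2
  change ((h0 (φ x) : P.map f) : B) ∈ K at this
  rw [hh0] at this
  exact this

theorem map_inf_comap (f : A →* B) {P : Subgroup A} {K : Subgroup B} (h : K ≤ P.map f) :
    (P ⊓ K.comap f).map f = K := by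
  refine le_antisymm ?_ fun k hk => ?_
  · rintro _ ⟨x, hx, rfl⟩; exact hx.2
  · obtain ⟨x, hx, rfl⟩ := h hk
    exact ⟨x, ⟨hx, hk⟩, rfl⟩

theorem normalizer_le_of_charIn {K P : Subgroup A} (h : CharIn K P) :
    normalizer (P : Set A) ≤ normalizer (K : Set A) := by
  have key : ∀ g ∈ normalizer (P : Set A), ∀ x ∈ K, g * x * g⁻¹ ∈ K := fun g hg x hx =>
    h.2 (P.normalizerMonoidHom ⟨g, hg⟩) ⟨x, h.1 hx⟩ hx
  intro g hg
  refine Subgroup.mem_normalizer_iff.mpr fun x => ⟨key g hg x, fun hx => ?_⟩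
  have := key g⁻¹ (inv_mem hg) _ hx
  rwa [show g⁻¹ * (g * x * g⁻¹) * g⁻¹⁻¹ = x by group] at this

/-- An operator on subgroups commuting with injective maps gives characteristic subgroups. -/
theorem charIn_of_functor (F : ∀ {X : Type u} [Group X], Subgroup X → Subgroup X)
    (hF : ∀ {X Y : Type u} [Group X] [Group Y] (f : X →* Y), Function.Injective f →
      ∀ S : Subgroup X, (F S).map f = F (S.map f))
    (hle : ∀ {X : Type u} [Group X] (S : Subgroup X), F S ≤ S) (P : Subgroup A) :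
    CharIn (F P) P := by
  have h0 : F P = (F (⊤ : Subgroup P)).map P.subtype := by
    rw [hF P.subtype P.subtype_injective, ← MonoidHom.range_eq_map, Subgroup.range_subtype]
  refine ⟨hle P, fun e x hx => ?_⟩
  rw [h0] at hx ⊢
  have hx' : x ∈ F (⊤ : Subgroup P) := (Subgroup.mem_map_iff_mem P.subtype_injective).mp hx
  refine ⟨e x, ?_, rfl⟩
  have := Subgroup.mem_map_of_mem e.toMonoidHom hx'
  rwa [hF e.toMonoidHom e.injective, Subgroup.map_top_of_surjective _ e.surjective] at this

end Basic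

/-! ### Two-prime groups -/

theorem sl2_two_dvd {p : ℕ} [hp : Fact p.Prime] (h2 : p ≠ 2) :
    2 ∣ Nat.card (Matrix.SpecialLinearGroup (Fin 2) (ZMod p)) ∧
      3 ∣ Nat.card (Matrix.SpecialLinearGroup (Fin 2) (ZMod p)) := by
  haveI : Fact (Nat.Prime 2) := ⟨Nat.prime_two⟩
  haveI : Fact (Nat.Prime 3) := ⟨Nat.prime_three⟩
  constructor
  · let x : Matrix.SpecialLinearGroup (Fin 2) (ZMod p) :=
      ⟨!![-1, 0; 0, -1], by simp [Matrix.det_fin_two]⟩
    have hx : orderOf x = 2 := by
      refine orderOf_eq_prime ?_ fun h => ?_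
      · apply Subtype.ext
        rw [Matrix.SpecialLinearGroup.coe_pow, Matrix.SpecialLinearGroup.coe_one, pow_two]
        simp [x, Matrix.one_fin_two]
      · have := congrArg (fun m : Matrix.SpecialLinearGroup (Fin 2) (ZMod p) => m 0 0) h
        simp [x] at this
        haveI hlt : Fact (2 < p) := ⟨lt_of_le_of_ne hp.out.two_le (Ne.symm h2)⟩
        exact ZMod.neg_one_ne_one this
    exact (dvd_of_eq hx.symm).trans (_root_.orderOf_dvd_natCard x)
  · let x : Matrix.SpecialLinearGroup (Fin 2) (ZMod p) :=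
      ⟨!![0, -1; 1, -1], by simp [Matrix.det_fin_two]⟩
    have hx : orderOf x = 3 := by
      refine orderOf_eq_prime ?_ fun h => ?_
      · apply Subtype.ext
        rw [Matrix.SpecialLinearGroup.coe_pow, Matrix.SpecialLinearGroup.coe_one, pow_succ, pow_two]
        simp [x, Matrix.one_fin_two]
      · have := congrArg (fun m : Matrix.SpecialLinearGroup (Fin 2) (ZMod p) => m 1 0) h
        simp [x] at this
    exact (dvd_of_eq hx.symm).trans (_root_.orderOf_dvd_natCard x)

theorem eq_or_eq_of_dvd_pq {r p q a b : ℕ} (hr : r.Prime) (hp : p.Prime) (hq : q.Prime)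
    (h : r ∣ p ^ a * q ^ b) : r = p ∨ r = q :=
  (hr.dvd_mul.mp h).imp (fun h => (Nat.prime_dvd_prime_iff_eq hr hp).mp (hr.dvd_of_dvd_pow h))
    (fun h => (Nat.prime_dvd_prime_iff_eq hr hq).mp (hr.dvd_of_dvd_pow h))

variable {p q : ℕ} [hp : Fact p.Prime] [hq : Fact q.Prime]

theorem qElt_centralizes_normal {Γ : Type u} [Group Γ] [Finite Γ] {W : Subgroup Γ} [W.Normal]
    (hW : ¬ Moves q W) {y : Γ} {j : ℕ} (hy : y ^ q ^ j = 1) : y ∈ centralizer (W : Set Γ) :=
  by_contra fun h => hW ⟨y, ⟨j, hy⟩,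
    (Subgroup.normalizer_eq_top W).symm ▸ Subgroup.mem_top y, h⟩

theorem good_two_prime (hpq : p ≠ q) (h23 : ¬ ((p = 2 ∧ q = 3) ∨ (p = 3 ∧ q = 2))) :
    ∀ (n : ℕ) (Γ : Type u) [Group Γ] [Finite Γ], Nat.card Γ = n →
      (∃ a b, Nat.card Γ = p ^ a * q ^ b) → q ∣ Nat.card Γ →
      centralizer (Cfsg.pCore p Γ : Set Γ) ≤ Cfsg.pCore p Γ →
      ∀ P : Sylow p Γ, Good q (P : Subgroup Γ) := by
  intro n
  induction n using Nat.strong_induction_on with
  | _ n ih =>
  intro Γ _ _ hn hab hqd hc P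
  by_contra hbad
  obtain ⟨a, b, hab⟩ := hab
  haveI hsolv : Group.IsSolvable Γ :=
    Lib.Induced.Burnside.isSolvable_of_card_eq p q a b hp.out hq.out hab
  have hcpq : p.Coprime q := (Nat.coprime_primes hp.out hq.out).mpr hpq
  have hPne : (P : Subgroup Γ) ≠ ⊥ := by
    intro h
    have hO : Cfsg.pCore p Γ = ⊥ := le_bot_iff.mp ((Lib.Cores.pCore_le_sylow P).trans h.le)
    rw [hO] at hc
    have htop : (⊤ : Subgroup Γ) ≤ ⊥ := fun x _ => hc (Subgroup.mem_centralizer_iff.mpr
      fun h hh => by rw [Subgroup.mem_bot.mp hh, one_mul, mul_one])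
    have h1 : Nat.card Γ = 1 := by
      rw [← Subgroup.card_top (G := Γ), le_bot_iff.mp htop, Subgroup.card_bot]
    exact hq.out.one_lt.ne' (Nat.dvd_one.mp (h1 ▸ hqd))
  -- a normal characteristic subgroup centralized by all `q`-elements
  obtain ⟨W, hWc, hWn, hW1, hWq⟩ : ∃ W : Subgroup Γ, CharIn W (P : Subgroup Γ) ∧ W.Normal ∧
      W ≠ ⊥ ∧ ∀ (y : Γ) (j : ℕ), y ^ q ^ j = 1 → y ∈ centralizer (W : Set Γ) := by
    by_cases hp2 : p = 2
    · subst hp2
      have hs4 : ¬ Cfsg.Involves (Equiv.Perm (Fin 4)) Γ := by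
        rintro ⟨K, R, hR, ⟨e⟩⟩
        have h24 : Nat.card (K ⧸ R.subgroupOf K) = 24 := by
          rw [Nat.card_congr e.toEquiv, Nat.card_eq_fintype_card, Fintype.card_perm,
            Fintype.card_fin]
          rfl
        have : 3 ∣ Nat.card Γ := by
          refine dvd_trans ?_ ((Subgroup.card_quotient_dvd_card (R.subgroupOf K)).trans
            (Subgroup.card_subgroup_dvd_card K))
          rw [h24]; norm_num
        rcases eq_or_eq_of_dvd_pq Nat.prime_three hp.out hq.out (hab ▸ this) with h | h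
        · norm_num at h
        · exact h23 (Or.inl ⟨rfl, h.symm⟩)
      set J := Cfsg.thompsonSubgroupOf 2 (P : Subgroup Γ) with hJ
      set W := Lib.PLocal.omegaCenterOf 2 (P : Subgroup Γ) with hW
      have hJc : CharIn J (P : Subgroup Γ) := charIn_of_functor
        (fun {X} _ S => Cfsg.thompsonSubgroupOf 2 S)
        (fun f hf S => Lib.PGroups.map_thompsonSubgroupOf f hf S)
        (fun S => Lib.PGroups.thompsonSubgroupOf_le 2 S) _
      have hWc : CharIn W (P : Subgroup Γ) := charIn_of_functor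
        (fun {X} _ S => Lib.PLocal.omegaCenterOf 2 S)
        (fun f hf S => Lib.PLocal.map_omegaCenterOf f hf S)
        (fun S => Lib.PLocal.omegaCenterOf_le S) _
      have hWJ : W ≤ J := fun x hx => by
        obtain ⟨A, hA⟩ := Lib.PGroups.maxElemAbIn_nonempty 2 (P : Subgroup Γ)
        refine Lib.PGroups.le_thompsonSubgroupOf hA (Lib.ZJ.mem_of_maxElemAbIn hA
          (Lib.PLocal.omegaCenterOf_le _ hx) ((Lib.PLocal.omegaCenterOf_elemAb _).2 x hx)
          fun a ha => ?_)
        exact (Subgroup.mem_centralizer_iff.mp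
          (Lib.PLocal.le_centralizer_omegaCenterOf _ (hA.1 ha)) x hx).symm
      have hNJ : normalizer (J : Set Γ) ≤ centralizer (W : Set Γ) := by
        set M := centralizer (W : Set Γ) ⊓ normalizer (J : Set Γ) with hM
        have hPM : (P : Subgroup Γ) ≤ M := le_inf (Lib.PLocal.le_centralizer_omegaCenterOf _)
          (Subgroup.le_normalizer.trans (normalizer_le_of_charIn hJc))
        have hqM : ∀ Q : Sylow q ↥(normalizer (J : Set Γ)),
            (Q : Subgroup ↥(normalizer (J : Set Γ))).map (Subgroup.subtype _) ≤ M := by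
          rintro Q _ ⟨y, hy, rfl⟩
          obtain ⟨j, hj⟩ := Q.isPGroup' ⟨y, hy⟩
          refine ⟨?_, y.2⟩
          by_contra hnc
          refine hbad ⟨J, hJc, (y : Γ), ⟨j, ?_⟩, y.2, fun hcy => hnc ?_⟩
          · simpa using congrArg Subtype.val (congrArg Subtype.val hj)
          · exact Subgroup.mem_centralizer_iff.mpr fun w hw =>
              Subgroup.mem_centralizer_iff.mp hcy w (hWJ hw)
        intro x hx
        obtain ⟨Q⟩ : Nonempty (Sylow q ↥(normalizer (J : Set Γ))) := Sylow.nonempty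
        have hidx : (M.subgroupOf (normalizer (J : Set Γ))).index = 1 := by
          have h1 : ¬ q ∣ (M.subgroupOf (normalizer (J : Set Γ))).index := fun h =>
            Q.not_dvd_index (h.trans (Subgroup.index_dvd_of_le
              (Subgroup.map_le_iff_le_comap.mp (hqM Q))))
          have h2 : ¬ 2 ∣ (M.subgroupOf (normalizer (J : Set Γ))).index := fun h =>
            P.not_dvd_index ((h.trans (Subgroup.index_dvd_of_le (Subgroup.comap_mono hPM))).trans
              (Subgroup.relIndex_mul_index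
                (show (P : Subgroup Γ) ≤ normalizer (J : Set Γ) from hPM.trans inf_le_right)
                ▸ dvd_mul_right _ _))
          have h3 : (M.subgroupOf (normalizer (J : Set Γ))).index ∣ 2 ^ a * q ^ b :=
            hab ▸ ((Subgroup.index_dvd_card _).trans (Subgroup.card_subgroup_dvd_card _))
          by_contra h
          obtain ⟨r, hr, hrd⟩ := Nat.exists_prime_and_dvd h
          rcases eq_or_eq_of_dvd_pq hr hp.out hq.out (hrd.trans h3) with rfl | rfl
          · exact h2 hrd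
          · exact h1 hrd
        have : (⟨x, hx⟩ : ↥(normalizer (J : Set Γ))) ∈ M.subgroupOf (normalizer (J : Set Γ)) := by
          rw [Subgroup.index_eq_one.mp hidx]; trivial
        exact this.1
      have htop : ∀ g : Γ, g ∈ centralizer (W : Set Γ) := fun g => by
        obtain ⟨c, hcc, m, hm, rfl⟩ := Lib.SFourFree.exists_factorization hs4 hc P g
        exact mul_mem hcc (hNJ hm)
      refine ⟨W, hWc, ⟨fun w hw g => ?_⟩, Lib.SFourFree.omegaCenterOf_ne_bot P.2 hPne,
        fun y _ _ => htop y⟩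
      rw [← Subgroup.mem_centralizer_iff.mp (htop g) w hw, mul_inv_cancel_right]
      exact hw
    · have hns : Lib.PLocal.NoSLTwo p Γ := fun K f hf => by
        obtain ⟨h2, h3⟩ := sl2_two_dvd (p := p) hp2
        have hd := (Subgroup.card_dvd_of_surjective f hf).trans (Subgroup.card_subgroup_dvd_card K)
        have e2 := eq_or_eq_of_dvd_pq Nat.prime_two hp.out hq.out (hab ▸ h2.trans hd)
        have e3 := eq_or_eq_of_dvd_pq Nat.prime_three hp.out hq.out (hab ▸ h3.trans hd)
        omega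
      have hn' := Lib.ZJ.centerThompsonAOf_normal hp2 hc (Lib.ZJ.stable_of_noSLTwo hp2 hns) P
      have hc' : CharIn (Cfsg.centerThompsonAOf (P : Subgroup Γ)) (P : Subgroup Γ) :=
        charIn_of_functor (fun {X} _ S => Cfsg.centerThompsonAOf S)
          (fun f hf S => Lib.ZJ.map_centerThompsonAOf f hf S)
          (fun S => inf_le_left.trans (Subgroup.map_subtype_le _)) _
      refine ⟨_, hc', hn', fun hbot => ?_, fun y j hy => qElt_centralizes_normal (q := q)
        (fun hm => hbad ⟨_, hc', hm⟩) hy⟩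
      haveI : Nontrivial (P : Subgroup Γ) := (Subgroup.nontrivial_iff_ne_bot _).mpr hPne
      have hne := (Lib.ZJ.isCharPFunctor_zjA (p := p)).1 (P : Subgroup Γ) P.2 inferInstance
      beta_reduce at hne
      refine hne ((Subgroup.map_eq_bot_iff_of_injective _
        (P : Subgroup Γ).subtype_injective).mp ?_)
      rw [Lib.ZJ.zjA_eq, Lib.ZJ.map_centerThompsonAOf _ (P : Subgroup Γ).subtype_injective,
        ← MonoidHom.range_eq_map, Subgroup.range_subtype, hbot]
  haveI := hWn
  have hWp : IsPGroup p W := P.2.to_le hWc.1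
  let π := QuotientGroup.mk' W
  have hπ : Function.Surjective π := QuotientGroup.mk'_surjective W
  have key : ∀ (x : Γ) (j : ℕ), x ^ q ^ j = 1 →
      π x ∈ Cfsg.pPrimeCore p (Γ ⧸ W) → x = 1 := by
    intro x j hx hxQ
    have hxC : x ∈ centralizer (W : Set Γ) := hWq x j hx
    suffices x ∈ centralizer (Cfsg.pCore p Γ : Set Γ) by
      obtain ⟨i, hi⟩ := Lib.Cores.pCore_isPGroup p ⟨x, hc this⟩
      exact eq_one_of_pow_eq_one hcpq (congrArg Subtype.val hi) hx
    refine Subgroup.mem_centralizer_iff.mpr fun z hz => ?_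
    have hz1 : π z ∈ Cfsg.pCore p (Γ ⧸ W) :=
      Lib.PSolvable.map_pCore_le π hπ ⟨z, hz, rfl⟩
    have hcomm : π z * π x = π x * π z :=
      Subgroup.commute_of_normal_of_disjoint _ _ inferInstance inferInstance
        (disjoint_iff.mpr (Lib.Hall.inf_eq_bot_of_coprime (by
          obtain ⟨k, hk⟩ := (Lib.Cores.pCore_isPGroup (G := Γ ⧸ W) p).exists_card_eq
          rw [hk]
          exact (Lib.PSolvable.card_pPrimeCore_coprime.pow_right k).symm))) _ _ hz1 hxQ
    have hw : x * z * x⁻¹ * z⁻¹ ∈ W := by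
      refine (QuotientGroup.eq_one_iff _).mp ?_
      show π (x * z * x⁻¹ * z⁻¹) = 1
      rw [map_mul, map_mul, map_mul, map_inv, map_inv, ← hcomm, mul_inv_cancel_right,
        mul_inv_cancel]
    have hit : ∀ m : ℕ, x ^ m * z * (x ^ m)⁻¹ = (x * z * x⁻¹ * z⁻¹) ^ m * z := by
      intro m
      induction m with
      | zero => simp
      | succ m ihm =>
        have hcw : x * (x * z * x⁻¹ * z⁻¹) ^ m = (x * z * x⁻¹ * z⁻¹) ^ m * x :=
          (Subgroup.mem_centralizer_iff.mp hxC _ (pow_mem hw m)).symm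
        calc x ^ (m + 1) * z * (x ^ (m + 1))⁻¹ = x * (x ^ m * z * (x ^ m)⁻¹) * x⁻¹ := by
              simp only [pow_succ', mul_inv_rev, mul_assoc]
          _ = x * (x * z * x⁻¹ * z⁻¹) ^ m * z * x⁻¹ := by rw [ihm]; simp only [mul_assoc]
          _ = (x * z * x⁻¹ * z⁻¹) ^ m * (x * z * x⁻¹ * z⁻¹) * z := by
              rw [hcw]; generalize (x * z * x⁻¹ * z⁻¹) ^ m = d; group
          _ = (x * z * x⁻¹ * z⁻¹) ^ (m + 1) * z := by rw [pow_succ]
    have h1 := hit (q ^ j)
    rw [hx, one_mul, inv_one, mul_one] at h1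
    obtain ⟨i, hi⟩ := hWp ⟨_, hw⟩
    have h2 : x * z * x⁻¹ * z⁻¹ = 1 :=
      eq_one_of_pow_eq_one hcpq (congrArg Subtype.val hi) (mul_eq_right.mp h1.symm)
    exact (mul_inv_eq_iff_eq_mul.mp (mul_inv_eq_one.mp h2)).symm
  have hcore : Cfsg.pPrimeCore p (Γ ⧸ W) = ⊥ := by
    by_contra hne
    obtain ⟨r, hr, hrd⟩ := Nat.exists_prime_and_dvd
      (fun h => hne (Subgroup.eq_bot_of_card_eq _ h))
    haveI : Fact r.Prime := ⟨hr⟩
    rcases eq_or_eq_of_dvd_pq hr hp.out hq.out (hab ▸ (hrd.trans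
      (Subgroup.card_subgroup_dvd_card _)).trans (Subgroup.card_quotient_dvd_card W)) with rfl | rfl
    · exact (Nat.Prime.coprime_iff_not_dvd hr).mp Lib.PSolvable.card_pPrimeCore_coprime.symm hrd
    obtain ⟨z, hz⟩ := exists_prime_orderOf_dvd_card' r hrd
    obtain ⟨x, hx⟩ := hπ (z : Γ ⧸ W)
    obtain ⟨m, hm, j, hj⟩ := exists_pow_isQElt (q := r) x
    have h1 : x ^ m = 1 := key _ j hj (by rw [map_pow, hx]; exact pow_mem z.2 m)
    have h2 : z ^ m = 1 := Subtype.ext (by
      rw [SubmonoidClass.coe_pow, ← hx, ← map_pow, h1, map_one]; rfl)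
    have h3 := orderOf_dvd_of_pow_eq_one h2
    rw [hz] at h3
    exact (Nat.Prime.coprime_iff_not_dvd hr).mp hm.symm h3
  have hc' : centralizer (Cfsg.pCore p (Γ ⧸ W) : Set (Γ ⧸ W)) ≤ Cfsg.pCore p (Γ ⧸ W) :=
    Lib.PSolvable.centralizer_pCore_le Lib.PSolvable.isPSolvable_of_isSolvable hcore
  have hlt : Nat.card (Γ ⧸ W) < n := hn ▸ Lib.Hall.card_quotient_lt hW1
  have hmul := Subgroup.card_eq_card_quotient_mul_card_subgroup W
  obtain ⟨k, hk⟩ := hWp.exists_card_eq
  have hab' : ∃ a' b', Nat.card (Γ ⧸ W) = p ^ a' * q ^ b' := by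
    have : Nat.card (Γ ⧸ W) ∣ p ^ a * q ^ b := hab ▸ Subgroup.card_quotient_dvd_card W
    obtain ⟨m₁, m₂, h₁, h₂, he⟩ := Nat.dvd_mul.mp this
    obtain ⟨c, -, rfl⟩ := (Nat.dvd_prime_pow hp.out).mp h₁
    obtain ⟨d, -, rfl⟩ := (Nat.dvd_prime_pow hq.out).mp h₂
    exact ⟨c, d, he.symm⟩
  have hqd' : q ∣ Nat.card (Γ ⧸ W) := by
    rw [hmul, hk] at hqd
    exact (hq.out.dvd_mul.mp hqd).resolve_right fun h =>
      hpq ((Nat.prime_dvd_prime_iff_eq hq.out hp.out).mp (hq.out.dvd_of_dvd_pow h)).symm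
  obtain ⟨K, hKc, y, ⟨j, hj⟩, hyN, hyC⟩ := ih _ hlt (Γ ⧸ W) rfl hab' hqd' hc' (P.mapSurjective hπ)
  rw [Sylow.coe_mapSurjective] at hKc
  obtain ⟨y0, rfl⟩ := hπ y
  obtain ⟨m, hm, i, hi⟩ := exists_pow_isQElt (q := q) y0
  have hKP : K.comap π ≤ (P : Subgroup Γ) := by
    refine (Subgroup.comap_mono hKc.1).trans ?_
    rw [Subgroup.comap_map_eq, QuotientGroup.ker_mk', sup_le_iff]
    exact ⟨le_rfl, hWc.1⟩
  refine hbad ⟨(P : Subgroup Γ) ⊓ K.comap π, charIn_comap π hKc (fun e x hx => ?_), y0 ^ m,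
    ⟨i, hi⟩, ?_, fun hcy => hyC ?_⟩
  · exact (QuotientGroup.eq_one_iff _).mpr (hWc.2 e x ((QuotientGroup.eq_one_iff _).mp hx))
  · rw [inf_eq_right.mpr hKP]
    refine pow_mem (Subgroup.mem_normalizer_iff.mpr fun x => ?_) m
    simp only [Subgroup.mem_comap, map_mul, map_inv]
    exact Subgroup.mem_normalizer_iff.mp hyN (π x)
  · refine mem_of_pow_mem _ hj hm (Subgroup.mem_centralizer_iff.mpr fun k hk => ?_)
    obtain ⟨k0, rfl⟩ := hπ k
    rw [← map_pow, ← map_mul, ← map_mul,
      Subgroup.mem_centralizer_iff.mp hcy k0 ⟨hKP hk, hk⟩]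

/-- A `p`-solvable group has a `{p, q}`-subgroup containing a Sylow `p`-subgroup and a
nontrivial `q`-element, if `q` divides its order. -/
theorem exists_two_prime_overgroup (hpq : p ≠ q) :
    ∀ (n : ℕ) (Z : Type u) [Group Z] [Finite Z], Nat.card Z = n → Cfsg.IsPSolvable p Z →
      q ∣ Nat.card Z → ∀ P : Sylow p Z, ∃ U : Subgroup Z, (P : Subgroup Z) ≤ U ∧
        (∃ a b, Nat.card U = p ^ a * q ^ b) ∧ q ∣ Nat.card U := by
  intro n
  induction n using Nat.strong_induction_on with
  | _ n ih =>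
  intro Z _ _ hn hZ hqd P
  have hcpq : p.Coprime q := (Nat.coprime_primes hp.out hq.out).mpr hpq
  haveI : Nontrivial Z := by
    rw [← Finite.one_lt_card_iff_nontrivial]
    exact lt_of_lt_of_le hq.out.one_lt (Nat.le_of_dvd Nat.card_pos hqd)
  by_cases hO : Cfsg.pCore p Z = ⊥
  · have hN := (Lib.PSolvable.cores_ne_bot hZ).resolve_left (fun h => h hO)
    set N := Cfsg.pPrimeCore p Z with hNdef
    have hNp : (Nat.card N).Coprime p := Lib.PSolvable.card_pPrimeCore_coprime
    obtain ⟨i, hi⟩ := P.2.exists_card_eq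
    by_cases hqN : q ∣ Nat.card N
    · have hcop : (Nat.card (P : Subgroup Z)).Coprime (Nat.card N) := by
        rw [hi]; exact (hNp.pow_right i).symm
      haveI : Group.IsNilpotent (P : Subgroup Z) := P.2.isNilpotent
      obtain ⟨Q, hQ⟩ := Lib.Coprime.exists_invariant_sylow
        ((Subgroup.normalizer_eq_top N).symm ▸ le_top : (P : Subgroup Z) ≤ normalizer (N : Set Z))
        hcop (Or.inl inferInstance) q
      set Q0 := (Q : Subgroup N).map N.subtype with hQ0
      have hcQ : Nat.card Q0 = q ^ (Nat.card N).factorization q := by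
        rw [hQ0, Subgroup.card_map_of_injective N.subtype_injective, Q.card_eq_multiplicity]
      refine ⟨Q0 ⊔ (P : Subgroup Z), le_sup_right, ⟨i, (Nat.card N).factorization q, ?_⟩, ?_⟩
      · have h1 := Lib.PLocal.card_sup_mul_card_inf (H := (P : Subgroup Z)) (K := Q0) hQ
        have h2 : (P : Subgroup Z) ⊓ Q0 = ⊥ := Lib.Hall.inf_eq_bot_of_coprime (by
          rw [hi, hcQ]; exact (hcpq.pow_left i).pow_right _)
        rw [h2, Subgroup.card_bot, mul_one, sup_comm, hi, hcQ] at h1
        exact h1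
      · refine dvd_trans ?_ (Subgroup.card_dvd_of_le (le_sup_left : Q0 ≤ Q0 ⊔ (P : Subgroup Z)))
        rw [hcQ]
        exact dvd_pow_self q (hq.out.factorization_pos_of_dvd Nat.card_pos.ne' hqN).ne'
    · let π := QuotientGroup.mk' N
      have hπ : Function.Surjective π := QuotientGroup.mk'_surjective N
      have hmul := Subgroup.card_eq_card_quotient_mul_card_subgroup N
      obtain ⟨U, hPU, ⟨a, b, hU⟩, hqU⟩ := ih _ (hn ▸ Lib.Hall.card_quotient_lt hN) (Z ⧸ N) rfl
        (Lib.PSolvable.isPSolvable_quotient hZ N)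
        (by rw [hmul] at hqd; exact (hq.out.dvd_mul.mp hqd).resolve_right hqN)
        (P.mapSurjective hπ)
      set M := U.comap π with hM
      have hNM : N ≤ M := QuotientGroup.le_comap_mk' N U
      have hPM : (P : Subgroup Z) ≤ M := Subgroup.map_le_iff_le_comap.mp hPU
      have hidx : (N.subgroupOf M).index = Nat.card U := by
        show N.relIndex M = _
        have hk := Subgroup.relIndex_ker (K := M) π
        rw [QuotientGroup.ker_mk', hM,
          Subgroup.map_comap_eq_self_of_surjective hπ U] at hk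
        exact hk
      have hcN : Nat.card (N.subgroupOf M) = Nat.card N :=
        Nat.card_congr (Subgroup.subgroupOfEquivOfLe hNM).toEquiv
      obtain ⟨R, hR⟩ := Subgroup.exists_right_complement'_of_coprime (N := N.subgroupOf M) (by
        rw [hidx, hcN, hU]
        exact Nat.Coprime.mul_right (hNp.pow_right a)
          ((hq.out.coprime_iff_not_dvd.mpr hqN).symm.pow_right b))
      have hcR : Nat.card R = Nat.card U := by
        have h1 := hR.symm.index_eq_card
        rw [hidx] at h1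
        exact h1.symm
      obtain ⟨T⟩ : Nonempty (Sylow p R) := Sylow.nonempty
      -- move the complement so that it contains `P`
      have hTM : IsPGroup p ((T : Subgroup R).map (M.subtype.comp R.subtype)) := T.2.map _
      have hcard : Nat.card (P : Subgroup Z) = Nat.card ((T : Subgroup R).map
          (M.subtype.comp R.subtype)) := by
        rw [Subgroup.card_map_of_injective (f := M.subtype.comp R.subtype)
          (M.subtype_injective.comp R.subtype_injective), P.card_eq_multiplicity,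
          T.card_eq_multiplicity, hcR]
        congr 1
        rw [hmul, Nat.factorization_mul Nat.card_pos.ne' Nat.card_pos.ne', Finsupp.add_apply,
          Nat.factorization_eq_zero_of_not_dvd
            (fun h => (hp.out.coprime_iff_not_dvd.mp hNp.symm) h), add_zero]
        refine le_antisymm ?_ ?_
        · have h1 := (Subgroup.card_dvd_of_le hPU)
          rw [(P.mapSurjective hπ).card_eq_multiplicity] at h1
          exact (Nat.Prime.pow_dvd_iff_le_factorization hp.out Nat.card_pos.ne').mp h1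
        · exact (Nat.factorization_le_iff_dvd Nat.card_pos.ne' Nat.card_pos.ne').mpr
            (Subgroup.card_subgroup_dvd_card U) p
      obtain ⟨S, hS⟩ := hTM.exists_le_sylow
      have hSeq : (T : Subgroup R).map (M.subtype.comp R.subtype) = (S : Subgroup Z) :=
        Subgroup.eq_of_le_of_card_ge hS (by
          rw [← hcard, S.card_eq_multiplicity, P.card_eq_multiplicity])
      obtain ⟨g, hg⟩ := MulAction.exists_smul_eq Z S P
      refine ⟨(R.map M.subtype).map (MulAut.conj g).toMonoidHom, ?_, ⟨a, b, ?_⟩, ?_⟩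
      · rw [← hg, Sylow.coe_subgroup_smul, ← hSeq]
        rintro _ ⟨_, ⟨t, -, rfl⟩, rfl⟩
        exact ⟨_, ⟨_, t.2, rfl⟩, rfl⟩
      · rw [Subgroup.card_map_of_injective (MulEquiv.injective _),
          Subgroup.card_map_of_injective M.subtype_injective, hcR, hU]
      · rwa [Subgroup.card_map_of_injective (MulEquiv.injective _),
          Subgroup.card_map_of_injective M.subtype_injective, hcR]
  · set N := Cfsg.pCore p Z with hNdef
    let π := QuotientGroup.mk' N
    have hπ : Function.Surjective π := QuotientGroup.mk'_surjective N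
    have hmul := Subgroup.card_eq_card_quotient_mul_card_subgroup N
    obtain ⟨k, hk⟩ := (Lib.PSolvable.isPGroup_pCore (G := Z) (p := p)).exists_card_eq
    obtain ⟨U, hPU, ⟨a, b, hU⟩, hqU⟩ := ih _ (hn ▸ Lib.Hall.card_quotient_lt hO) (Z ⧸ N) rfl
      (Lib.PSolvable.isPSolvable_quotient hZ N)
      (by
        rw [hmul, hk] at hqd
        exact (hq.out.dvd_mul.mp hqd).resolve_right fun h =>
          hpq ((Nat.prime_dvd_prime_iff_eq hq.out hp.out).mp (hq.out.dvd_of_dvd_pow h)).symm)
      (P.mapSurjective hπ)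
    have hcard := Lib.PSolvable.card_comap_mk' N U
    refine ⟨U.comap π, Subgroup.map_le_iff_le_comap.mp hPU, ⟨k + a, b, ?_⟩, ?_⟩
    · rw [hcard, hk, hU, pow_add]; ring
    · rw [hcard]
      exact hqU.mul_left _

theorem good_of_index (hpq : p ≠ q) (h23 : ¬ ((p = 2 ∧ q = 3) ∨ (p = 3 ∧ q = 2)))
    {Z : Type u} [Group Z] [Finite Z] (L : Subgroup Z) [L.Normal] (hL : IsPGroup p L)
    (P : Sylow p Z) (h0 : (P : Subgroup Z) ⊓ centralizer (L : Set Z) ≤ L) {a b : ℕ}
    (hidx : (centralizer (L : Set Z)).index = p ^ a * q ^ b)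
    (hqd : q ∣ (centralizer (L : Set Z)).index) : Good q (P : Subgroup Z) := by
  set D := centralizer (L : Set Z) with hD
  haveI : D.Normal := Subgroup.normal_centralizer
  set O := Cfsg.pPrimeCore p Z with hO
  have hOp : (Nat.card O).Coprime p := Lib.PSolvable.card_pPrimeCore_coprime
  have hOL : ∀ o ∈ O, ∀ l ∈ L, l * o = o * l := fun o ho l hl =>
    Subgroup.commute_of_normal_of_disjoint L O inferInstance inferInstance
      (disjoint_iff.mpr (Lib.Hall.inf_eq_bot_of_coprime (by
        obtain ⟨k, hk⟩ := hL.exists_card_eq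
        rw [hk]; exact (hOp.pow_right k).symm))) l o hl ho
  have hOD : O ≤ D := fun o ho => Subgroup.mem_centralizer_iff.mpr (hOL o ho)
  -- `D` is generated modulo `O` by a central Sylow subgroup
  obtain ⟨S, hS⟩ := Lib.PLocal.exists_sylow_inf P D
  have hScen : ∀ s ∈ (S : Subgroup D), ∀ d : D, d * s = s * d := fun s hs d => by
    have hsL : (s : Z) ∈ L := h0 (by rw [← hS]; exact ⟨s, hs, rfl⟩)
    exact Subtype.ext (Subgroup.mem_centralizer_iff.mp d.2 _ hsL).symm
  have hNS : normalizer ((S : Subgroup D) : Set D) ≤ centralizer ((S : Subgroup D) : Set D) :=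
    fun d _ => Subgroup.mem_centralizer_iff.mpr fun s hs => (hScen s hs d).symm
  have hcompl := MonoidHom.ker_transferSylow_isComplement' S hNS
  let π := QuotientGroup.mk' O
  have hπ : Function.Surjective π := QuotientGroup.mk'_surjective O
  haveI : (D.map π).Normal := Subgroup.Normal.map inferInstance π hπ
  have hker : (MonoidHom.transferSylow S hNS).ker.map D.subtype ≤ O := by
    refine (Subgroup.map_mono (Lib.PSolvable.le_pPrimeCore (p := p) inferInstance ?_)).trans
      (Lib.PSolvable.pPrimeCore_map_le_of_normal D)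
    rw [← hcompl.index_eq_card]
    exact (hp.out.coprime_iff_not_dvd.mpr S.not_dvd_index).symm
  have hDp : IsPGroup p (D.map π) := by
    have hle : D.map π ≤ ((S : Subgroup D).map D.subtype).map π := by
      rintro _ ⟨d, hd, rfl⟩
      have htop : (⟨d, hd⟩ : D) ∈ (MonoidHom.transferSylow S hNS).ker ⊔ (S : Subgroup D) := by
        rw [hcompl.sup_eq_top]; trivial
      obtain ⟨o, ho, s, hs, he⟩ := Subgroup.mem_sup_of_normal_left.mp htop
      refine ⟨(s : Z), ⟨s, hs, rfl⟩, ?_⟩
      have ho' : π (o : Z) = 1 := (QuotientGroup.eq_one_iff _).mpr (hker ⟨o, ho, rfl⟩)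
      rw [← show (o : Z) * (s : Z) = d from congrArg Subtype.val he, map_mul, ho', one_mul]
    exact ((S.2.map _).map π).to_le hle
  have hab : ∃ a' b', Nat.card (Z ⧸ O) = p ^ a' * q ^ b' := by
    obtain ⟨k, hk⟩ := hDp.exists_card_eq
    refine ⟨k + a, b, ?_⟩
    rw [← Subgroup.card_mul_index (D.map π), hk, Subgroup.index_map_eq _ hπ (by
      rw [QuotientGroup.ker_mk']; exact hOD), hidx, pow_add]
    ring
  have hqΓ : q ∣ Nat.card (Z ⧸ O) := by
    rw [← Subgroup.card_mul_index (D.map π), Subgroup.index_map_eq _ hπ (by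
      rw [QuotientGroup.ker_mk']; exact hOD)]
    exact hqd.mul_left _
  have hcΓ : centralizer (Cfsg.pCore p (Z ⧸ O) : Set (Z ⧸ O)) ≤ Cfsg.pCore p (Z ⧸ O) := by
    refine le_trans ?_ (Lib.PSolvable.le_pCore inferInstance hDp)
    intro γ hγ
    obtain ⟨g, rfl⟩ := hπ γ
    refine ⟨g, Subgroup.mem_centralizer_iff.mpr fun l hl => ?_, rfl⟩
    have h1 := Subgroup.mem_centralizer_iff.mp hγ (π l) (Lib.PSolvable.le_pCore
      (Subgroup.Normal.map inferInstance π hπ) (hL.map π) ⟨l, hl, rfl⟩)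
    have h2 : g * l * g⁻¹ * l⁻¹ ∈ O := by
      refine (QuotientGroup.eq_one_iff _).mp ?_
      show π (g * l * g⁻¹ * l⁻¹) = 1
      rw [map_mul, map_mul, map_mul, map_inv, map_inv, ← h1, mul_inv_cancel_right, mul_inv_cancel]
    have h3 : g * l * g⁻¹ * l⁻¹ ∈ L :=
      mul_mem (Subgroup.Normal.conj_mem inferInstance l hl g) (inv_mem hl)
    obtain ⟨i, hi⟩ := hL ⟨_, h3⟩
    have h4 : g * l * g⁻¹ * l⁻¹ = 1 := by
      refine orderOf_eq_one_iff.mp (Nat.eq_one_of_dvd_coprimes (hOp.symm.pow_left i)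
        (orderOf_dvd_of_pow_eq_one (congrArg Subtype.val hi)) (Subgroup.orderOf_dvd_natCard _ h2))
    exact (mul_inv_eq_iff_eq_mul.mp (mul_inv_eq_one.mp h4)).symm
  obtain ⟨K, hKc, y, ⟨j, hj⟩, hyN, hyC⟩ :=
    good_two_prime hpq h23 _ (Z ⧸ O) rfl hab hqΓ hcΓ (P.mapSurjective hπ)
  rw [Sylow.coe_mapSurjective] at hKc
  set K0 := (P : Subgroup Z) ⊓ K.comap π with hK0
  have hK0K : K0.map π = K := map_inf_comap π hKc.1
  rw [← hK0K] at hyN hyC
  obtain ⟨n, hn, rfl⟩ := Lib.PLocal.normalizer_map_le_map_normalizer O K0 hOp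
    (P.2.to_le inf_le_left) hyN
  obtain ⟨m, hm, i, hi⟩ := exists_pow_isQElt (q := q) n
  refine ⟨K0, charIn_comap π hKc (fun e x hx => ?_), n ^ m, ⟨i, hi⟩, pow_mem hn m,
    fun hc => hyC ?_⟩
  · have hx1 : (x : Z) = 1 := by
      obtain ⟨i, hi⟩ := P.2 x
      exact orderOf_eq_one_iff.mp (Nat.eq_one_of_dvd_coprimes (hOp.symm.pow_left i)
        (orderOf_dvd_of_pow_eq_one (congrArg Subtype.val hi))
        (Subgroup.orderOf_dvd_natCard _ ((QuotientGroup.eq_one_iff _).mp hx)))
    rw [show x = 1 from Subtype.ext hx1, map_one]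
    exact map_one π
  · refine mem_of_pow_mem _ hj hm (Subgroup.mem_centralizer_iff.mpr ?_)
    rintro _ ⟨k, hk, rfl⟩
    rw [← map_pow, ← map_mul, ← map_mul, Subgroup.mem_centralizer_iff.mp hc k hk]

end Cfsg.Agent.Lib.AutomizerControl76
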