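import Cfsg.Agent.Lib.Coprime.Action
import Cfsg.Prelude.Def_Transfer

/-!
Elementary abelian groups of order 8 of automorphisms of a `p`-group, `p` odd, and their broad
elements.
-/

set_option autoImplicit false
set_option linter.style.haveILetI false

namespace Cfsg.Agent.Lib.BroadInvolutions76

variable {P : Type*} [Group P]

/-- Broad: the fixed points do not form a cyclic subgroup. -/
abbrev Broad (T : MulAut P) : Prop := ¬ ∃ g : P, ∀ x : P, (T x = x ↔ x ∈ Subgroup.zpowers g)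

/-- The fixed points of an automorphism. -/
def fx (T : MulAut P) : Subgroup P where
  carrier := {x | T x = x}
  one_mem' := map_one T
  mul_mem' {a b} ha hb := show T (a * b) = a * b by rw [map_mul, ha, hb]
  inv_mem' {a} ha := show T a⁻¹ = a⁻¹ by rw [map_inv, ha]

theorem mem_fx {T : MulAut P} {x : P} : x ∈ fx T ↔ T x = x := Iff.rfl

variable (I : Subgroup (MulAut P))

/-- Fixed or inverted by every element of `I`. -/
def Eigen (x : P) : Prop := ∀ T ∈ I, T x = x ∨ T x = x⁻¹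

variable {I} (hc : ∀ S ∈ I, ∀ T ∈ I, S * T = T * S) (hs : ∀ T ∈ I, ∀ x, T (T x) = x)

include hs in
theorem mul_self {T : MulAut P} (hT : T ∈ I) : T * T = 1 :=
  MulEquiv.ext fun x => by simpa using hs T hT x

include hc in
theorem apply_comm {S T : MulAut P} (hS : S ∈ I) (hT : T ∈ I) (x : P) : S (T x) = T (S x) :=
  DFunLike.congr_fun (hc S hS T hT) x

include hc in
theorem fx_invariant {W : Subgroup P} (hW : ∀ T ∈ I, ∀ x ∈ W, T x ∈ W) {S : MulAut P} (hS : S ∈ I) :
    ∀ T ∈ I, ∀ x ∈ W ⊓ fx S, T x ∈ W ⊓ fx S := fun T hT x hx =>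
  ⟨hW T hT x hx.1, by
    show S (T x) = T x
    rw [apply_comm hc hS hT, mem_fx.1 hx.2]⟩

variable {p : ℕ} [hp : Fact p.Prime] [Finite P] (hp2 : p ≠ 2) (hP : IsPGroup p P)

include hP hp2 in
theorem ne_inv {x : P} (hx : x ≠ 1) : x⁻¹ ≠ x := by
  intro h
  have h2 : x ^ 2 = 1 := by rw [pow_two]; exact inv_eq_iff_mul_eq_one.1 h
  obtain ⟨k, hk⟩ := IsPGroup.iff_orderOf.1 hP x
  have h1 : orderOf x ∣ 2 := orderOf_dvd_of_pow_eq_one h2
  rcases (Nat.dvd_prime Nat.prime_two).1 h1 with h1 | h1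
  · exact hx (orderOf_eq_one_iff.1 h1)
  · have h3 : 2 ∣ p ^ k := by rw [← hk, h1]
    exact hp2 ((Nat.prime_dvd_prime_iff_eq Nat.prime_two hp.out).1
      (Nat.prime_two.dvd_of_dvd_pow h3)).symm

include hc hs hp2 hP in
/-- If `t` moves `W`, it moves the fixed points of `u` or those of `t * u` in `W`. -/
theorem exists_moved_step {W : Subgroup P} (hW : ∀ T ∈ I, ∀ x ∈ W, T x ∈ W) {t u : MulAut P}
    (ht : t ∈ I) (hu : u ∈ I) (hmov : ∃ x ∈ W, t x ≠ x) :
    ∃ v, (v = u ∨ v = t * u) ∧ ∃ x ∈ W ⊓ fx v, t x ≠ x := by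
  obtain ⟨x₀, hx₀, hmx⟩ := hmov
  by_cases hu1 : u = 1
  · exact ⟨u, Or.inl rfl, x₀, ⟨hx₀, by subst hu1; rfl⟩, hmx⟩
  by_cases hut : u = t
  · refine ⟨t * u, Or.inr rfl, x₀, ⟨hx₀, ?_⟩, hmx⟩
    subst hut
    show (u * u) x₀ = x₀
    rw [mul_self hs ht]; rfl
  by_contra hno
  simp only [not_exists, not_and] at hno
  let A : Subgroup (MulAut P) := Subgroup.closure {t, u}
  have hAI : A ≤ I := (Subgroup.closure_le I).2 (Set.insert_subset ht (Set.singleton_subset_iff.2 hu))
  have hAmem : ∀ a ∈ A, a = 1 ∨ a = t ∨ a = u ∨ a = t * u := by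
    intro a ha
    have htt := mul_self hs ht
    have huu := mul_self hs hu
    have hut' : u * t = t * u := hc u hu t ht
    induction ha using Subgroup.closure_induction with
    | mem a ha => rcases ha with rfl | rfl <;> simp
    | one => simp
    | inv a ha ih =>
      have haI : a ∈ I := hAI ha
      rwa [inv_eq_of_mul_eq_one_right (mul_self hs haI)]
    | mul a b _ _ iha ihb =>
      rcases iha with rfl | rfl | rfl | rfl <;> rcases ihb with rfl | rfl | rfl | rfl <;>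
        simp [htt, huu, hut', ← mul_assoc] <;> simp [htt, huu, hut', mul_assoc] <;>
        simp [htt, huu, hut', ← mul_assoc]
  letI : MulDistribMulAction A W :=
    { smul := fun a x => ⟨(a : MulAut P) x, hW _ (hAI a.2) _ x.2⟩
      one_smul := fun x => Subtype.ext rfl
      mul_smul := fun a b x => Subtype.ext rfl
      smul_mul := fun a x y => Subtype.ext (map_mul (a : MulAut P) _ _)
      smul_one := fun a => Subtype.ext (map_one (a : MulAut P)) }
  haveI : Finite (MulAut P) := Finite.of_injective _ DFunLike.coe_injective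
  have hA : ∀ a b : A, a * b = b * a := fun a b =>
    Subtype.ext (hc _ (hAI a.2) _ (hAI b.2))
  have ht1 : t ≠ 1 := fun h => hmx (by subst h; rfl)
  have hA2 : IsPGroup 2 A := fun a => ⟨1, Subtype.ext (by
    rw [pow_one, pow_two]; exact mul_self hs (hAI a.2))⟩
  have hnc : ¬ IsCyclic A := by
    intro h
    obtain ⟨g, hg⟩ := IsCyclic.exists_zpow_surjective (G := A)
    have hg2 : (g : MulAut P) * g = 1 := mul_self hs (hAI g.2)
    have key : ∀ a : A, (a : MulAut P) = 1 ∨ (a : MulAut P) = g := by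
      intro a
      obtain ⟨n, rfl⟩ := hg a
      have hg2' : g ^ (2 : ℤ) = 1 := Subtype.ext (by rw [zpow_two]; exact hg2)
      rcases Int.even_or_odd' n with ⟨k, rfl | rfl⟩
      · left; show ((g ^ (2 * k) : A) : MulAut P) = 1
        rw [zpow_mul, hg2', one_zpow]; rfl
      · right; show ((g ^ (2 * k + 1) : A) : MulAut P) = g
        rw [zpow_add, zpow_mul, hg2', one_zpow, one_mul, zpow_one]
    have e1 := (key ⟨t, Subgroup.subset_closure (Set.mem_insert _ _)⟩).resolve_left ht1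
    have e2 := (key ⟨u, Subgroup.subset_closure (Set.mem_insert_of_mem _ rfl)⟩).resolve_left hu1
    exact hut (e2.trans e1.symm)
  have hcop : (Nat.card A).Coprime (Nat.card W) := by
    obtain ⟨a, ha⟩ := IsPGroup.iff_card.1 hA2
    obtain ⟨b, hb⟩ := IsPGroup.iff_card.1 (hP.to_subgroup W)
    rw [ha, hb]
    exact Nat.Coprime.pow _ _ ((Nat.coprime_primes Nat.prime_two hp.out).2 (Ne.symm hp2))
  have htop := Cfsg.Agent.Lib.Coprime.Action.closure_fixed_eq_top (A := A) (G := W) hA hnc hcop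
  have hle : Subgroup.closure {g : W | ∃ a : A, a ≠ 1 ∧ a • g = g} ≤ (fx t).subgroupOf W := by
    rw [Subgroup.closure_le]
    rintro g ⟨⟨a, ha⟩, hane, hag⟩
    have hag' : a (g : P) = g := congrArg Subtype.val hag
    show t (g : P) = g
    rcases hAmem a ha with rfl | rfl | rfl | rfl
    · exact absurd rfl hane
    · exact hag'
    · exact of_not_not (hno a (Or.inl rfl) g ⟨g.2, hag'⟩)
    · exact of_not_not (hno _ (Or.inr rfl) g ⟨g.2, hag'⟩)
  exact hmx (hle (htop.ge (Subgroup.mem_top (⟨x₀, hx₀⟩ : W))))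

include hc hs hp2 hP in
/-- Every nontrivial element of `I` inverts a nontrivial eigen element. -/
theorem exists_eigen_inverted {t : MulAut P} (ht : t ∈ I) (ht1 : t ≠ 1) :
    ∃ y : P, y ≠ 1 ∧ y ^ p = 1 ∧ t y = y⁻¹ ∧ Eigen I y := by
  classical
  haveI : Finite (MulAut P) := Finite.of_injective _ DFunLike.coe_injective
  haveI := Fintype.ofFinite (MulAut P)
  have main : ∀ s : Finset (MulAut P), (∀ u ∈ s, u ∈ I) →
      ∃ W : Subgroup P, (∀ T ∈ I, ∀ x ∈ W, T x ∈ W) ∧ (∃ x ∈ W, t x ≠ x) ∧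
        ∀ u ∈ s, W ≤ fx u ∨ W ≤ fx (t * u) := by
    intro s
    induction s using Finset.induction_on with
    | empty =>
      intro _
      obtain ⟨x, hx⟩ : ∃ x, t x ≠ x := by
        by_contra h
        simp only [not_exists, not_not] at h
        exact ht1 (MulEquiv.ext h)
      exact ⟨⊤, fun _ _ _ _ => trivial, ⟨x, trivial, hx⟩, fun u hu => by simp at hu⟩
    | insert u s _ ih =>
      intro hsI
      obtain ⟨W, hW, hmov, hall⟩ := ih fun v hv => hsI v (Finset.mem_insert_of_mem hv)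
      have huI := hsI u (Finset.mem_insert_self u s)
      obtain ⟨v, hv, x, hx, hxm⟩ := exists_moved_step hc hs hp2 hP hW ht huI hmov
      have hvI : v ∈ I := by rcases hv with rfl | rfl; exacts [huI, mul_mem ht huI]
      refine ⟨W ⊓ fx v, fx_invariant hc hW hvI, ⟨x, hx, hxm⟩, fun w hw => ?_⟩
      rcases Finset.mem_insert.1 hw with rfl | hw
      · rcases hv with rfl | rfl
        · exact Or.inl inf_le_right
        · exact Or.inr inf_le_right
      · exact (hall w hw).imp (fun h => inf_le_left.trans h) (fun h => inf_le_left.trans h)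
  obtain ⟨W, hW, ⟨x, hxW, hx⟩, hall⟩ := main (Finset.univ.filter (· ∈ I)) (fun u hu => by simpa using hu)
  set y := x⁻¹ * t x with hy
  have hyW : y ∈ W := mul_mem (inv_mem hxW) (hW t ht x hxW)
  have hty : t y = y⁻¹ := by rw [hy, map_mul, map_inv, hs t ht, mul_inv_rev, inv_inv]
  have hy1 : y ≠ 1 := fun h => hx (inv_mul_eq_one.1 h).symm
  obtain ⟨k, hk⟩ := IsPGroup.iff_orderOf.1 hP y
  obtain ⟨j, rfl⟩ : ∃ j, k = j + 1 := Nat.exists_eq_succ_of_ne_zero fun h0 => hy1
    (orderOf_eq_one_iff.1 (by rw [hk, h0, pow_zero]))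
  refine ⟨y ^ p ^ j, ?_, ?_, ?_, ?_⟩
  · intro h
    have h2 := orderOf_dvd_of_pow_eq_one h
    rw [hk, Nat.pow_dvd_pow_iff_le_right hp.out.one_lt] at h2
    omega
  · rw [← pow_mul, ← pow_succ, ← hk, pow_orderOf_eq_one]
  · rw [map_pow, hty, inv_pow]
  · intro u hu
    rcases hall u (by simpa using hu) with h | h
    · exact Or.inl (by rw [map_pow, mem_fx.1 (h hyW)])
    · right
      have h1 : t (u y) = y := h hyW
      have h2 : u y = y⁻¹ := by rw [← hty, ← hs t ht (u y), h1]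
      rw [map_pow, h2, inv_pow]

omit hp [Finite P] in
include hc hs in
/-- A nontrivial invariant subgroup contains one on which all elements of `s` are scalar. -/
theorem exists_scalar [Finite P] {W : Subgroup P} (hW : ∀ T ∈ I, ∀ x ∈ W, T x ∈ W) (hW1 : W ≠ ⊥)
    (s : Finset (MulAut P)) (hsI : ∀ u ∈ s, u ∈ I) :
    ∃ V ≤ W, V ≠ ⊥ ∧ (∀ T ∈ I, ∀ x ∈ V, T x ∈ V) ∧
      ∀ u ∈ s, (∀ x ∈ V, u x = x) ∨ (∀ x ∈ V, u x = x⁻¹) := by
  classical
  induction s using Finset.induction_on with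
  | empty => exact ⟨W, le_rfl, hW1, hW, fun u hu => by simp at hu⟩
  | insert u s _ ih =>
    obtain ⟨V, hVW, hV1, hV, hall⟩ := ih fun v hv => hsI v (Finset.mem_insert_of_mem hv)
    have huI := hsI u (Finset.mem_insert_self u s)
    by_cases hb : V ⊓ fx u = ⊥
    · refine ⟨V, hVW, hV1, hV, fun w hw => ?_⟩
      rcases Finset.mem_insert.1 hw with rfl | hw
      · right
        let φ : V →* V := ((w : P ≃* P).toMonoidHom.comp V.subtype).codRestrict V
          (fun x => hV w huI x x.2)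
        have hfpf : MonoidHom.FixedPointFree φ := by
          intro g hg
          have h1 : (g : P) ∈ V ⊓ fx w := ⟨g.2, congrArg Subtype.val hg⟩
          rw [hb] at h1
          exact Subtype.ext (Subgroup.mem_bot.1 h1)
        have h2 : Function.Involutive φ := fun g => Subtype.ext (hs w huI g)
        intro x hx
        exact congrArg Subtype.val (congr_fun (hfpf.coe_eq_inv_of_involutive h2) ⟨x, hx⟩)
      · exact hall w hw
    · refine ⟨V ⊓ fx u, inf_le_left.trans hVW, hb, fx_invariant hc hV huI, fun w hw => ?_⟩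
      rcases Finset.mem_insert.1 hw with rfl | hw
      · exact Or.inl fun x hx => hx.2
      · exact (hall w hw).imp (fun h x hx => h x hx.1) (fun h x hx => h x hx.1)

include hp2 hP in
omit hc hs in
/-- Eigen elements of order `p` in a common cyclic subgroup have the same signs. -/
theorem same_sign {y z g : P} (hy1 : y ≠ 1) (hyp : y ^ p = 1) (hzp : z ^ p = 1)
    (hy : y ∈ Subgroup.zpowers g) (hz : z ∈ Subgroup.zpowers g) {U : MulAut P}
    (hUy : U y = y) (hUz : U z = z⁻¹) : z = 1 := by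
  classical
  haveI := Fintype.ofFinite (Subgroup.zpowers g)
  by_contra hz1
  have hzy : z ∈ Subgroup.zpowers y := by
    by_contra hn
    have hy' : orderOf (⟨y, hy⟩ : Subgroup.zpowers g) = p := by
      rw [← Subgroup.orderOf_coe]; exact orderOf_eq_prime hyp hy1
    let S : Finset (Subgroup.zpowers g) :=
      insert ⟨z, hz⟩ ((Finset.range p).image fun i => (⟨y, hy⟩ : Subgroup.zpowers g) ^ i)
    have hcard : S.card = p + 1 := by
      rw [Finset.card_insert_of_notMem, Finset.card_image_of_injOn, Finset.card_range]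
      · intro a ha b hb h
        exact pow_injOn_Iio_orderOf (by rw [hy']; simpa using ha) (by rw [hy']; simpa using hb) h
      · simp only [Finset.mem_image, not_exists, not_and]
        intro i _ h
        exact hn ⟨i, by simpa using congrArg Subtype.val h⟩
    have hsub : S ⊆ Finset.univ.filter fun a => a ^ p = 1 := by
      intro a ha
      simp only [S, Finset.mem_insert, Finset.mem_image] at ha
      rw [Finset.mem_filter]
      refine ⟨Finset.mem_univ _, Subtype.ext ?_⟩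
      rcases ha with rfl | ⟨i, -, rfl⟩
      · simpa using hzp
      · rw [← pow_mul, mul_comm, pow_mul]; simp [hyp]
    have := (Finset.card_le_card hsub).trans (IsCyclic.card_pow_eq_one_le hp.out.pos)
    omega
  obtain ⟨n, rfl⟩ := hzy
  rw [map_zpow, hUy] at hUz
  exact ne_inv hp2 hP hz1 hUz.symm

omit [Finite P] hp in
include hs in
theorem exists_pair {α : Type*} [Finite α] (hI8 : Nat.card I = 8) (f : I → α) (hα : Nat.card α < 8) :
    ∃ a b : I, a ≠ b ∧ f a = f b ∧ (a : MulAut P) * b ≠ 1 := by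
  haveI : Finite I := Nat.finite_of_card_ne_zero (by omega)
  obtain ⟨a, b, hab, hne⟩ : ∃ a b, f a = f b ∧ a ≠ b := by
    by_contra h
    simp only [not_exists, not_and, not_not] at h
    have := Nat.card_le_card_of_injective f fun a b => h a b
    omega
  refine ⟨a, b, hne, hab, fun h => hne (Subtype.ext ?_)⟩
  calc (a : MulAut P) = a * ((b : MulAut P) * b) := by rw [mul_self hs b.2, mul_one]
    _ = b := by rw [← mul_assoc, h, one_mul]

omit hp in
include hs in
theorem exists_fixing_two (hI8 : Nat.card I = 8) {y z : P} (hy : Eigen I y) (hz : Eigen I z) :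
    ∃ T ∈ I, T ≠ 1 ∧ T y = y ∧ T z = z := by
  classical
  obtain ⟨a, b, -, hab, hne⟩ := exists_pair hs hI8
    (fun T : I => (decide ((T : MulAut P) y = y), decide ((T : MulAut P) z = z))) (by simp)
  simp only [Prod.mk.injEq, decide_eq_decide] at hab
  refine ⟨a * b, mul_mem a.2 b.2, hne, ?_, ?_⟩
  · show (a : MulAut P) ((b : MulAut P) y) = y
    rcases hy b b.2 with h | h
    · rw [h]; exact hab.1.2 h
    · rcases hy a a.2 with h' | h'
      · rw [hab.1.1 h']; exact h'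
      · rw [h, map_inv, h', inv_inv]
  · show (a : MulAut P) ((b : MulAut P) z) = z
    rcases hz b b.2 with h | h
    · rw [h]; exact hab.2.2 h
    · rcases hz a a.2 with h' | h'
      · rw [hab.2.1 h']; exact h'
      · rw [h, map_inv, h', inv_inv]

include hc hs hp2 hP in
/-- An independent frame: three involutions and three eigen elements with diagonal signs. -/
theorem exists_frame (hI8 : Nat.card I = 8) :
    ∃ e₁ e₂ e₃ : MulAut P, ∃ y₁ y₂ y₃ : P, e₁ ∈ I ∧ e₂ ∈ I ∧ e₃ ∈ I ∧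
      (y₁ ≠ 1 ∧ y₁ ^ p = 1 ∧ Eigen I y₁) ∧ (y₂ ≠ 1 ∧ y₂ ^ p = 1 ∧ Eigen I y₂) ∧
      (y₃ ≠ 1 ∧ y₃ ^ p = 1 ∧ Eigen I y₃) ∧
      (e₁ y₁ = y₁⁻¹ ∧ e₁ y₂ = y₂ ∧ e₁ y₃ = y₃) ∧ (e₂ y₁ = y₁ ∧ e₂ y₂ = y₂⁻¹ ∧ e₂ y₃ = y₃) ∧
      (e₃ y₁ = y₁ ∧ e₃ y₂ = y₂ ∧ e₃ y₃ = y₃⁻¹) := by
  obtain ⟨t₁, ht₁, ht₁1⟩ : ∃ t ∈ I, t ≠ (1 : MulAut P) := by
    by_contra h
    simp only [not_exists, not_and, not_not] at h
    rw [(Subgroup.eq_bot_iff_forall I).2 h, Subgroup.card_bot] at hI8
    omega
  obtain ⟨y₁, a1, b1, c1, d1⟩ := exists_eigen_inverted hc hs hp2 hP ht₁ ht₁1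
  obtain ⟨T₂, hT₂, hT₂1, f21, -⟩ := exists_fixing_two hs hI8 d1 d1
  obtain ⟨y₂, a2, b2, c2, d2⟩ := exists_eigen_inverted hc hs hp2 hP hT₂ hT₂1
  obtain ⟨e₃, he₃, he₃1, f31, f32⟩ := exists_fixing_two hs hI8 d1 d2
  obtain ⟨y₃, a3, b3, c3, d3⟩ := exists_eigen_inverted hc hs hp2 hP he₃ he₃1
  obtain ⟨e₂, he₂, g1, g2, g3⟩ : ∃ e ∈ I, e y₁ = y₁ ∧ e y₂ = y₂⁻¹ ∧ e y₃ = y₃ := by
    rcases d3 T₂ hT₂ with h | h
    · exact ⟨T₂, hT₂, f21, c2, h⟩
    · exact ⟨T₂ * e₃, mul_mem hT₂ he₃, by rw [MulAut.mul_apply, f31, f21],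
        by rw [MulAut.mul_apply, f32, c2],
        by rw [MulAut.mul_apply, c3, map_inv, h, inv_inv]⟩
  obtain ⟨e', he', k1, k2⟩ : ∃ e ∈ I, e y₁ = y₁⁻¹ ∧ e y₂ = y₂ := by
    rcases d2 t₁ ht₁ with h | h
    · exact ⟨t₁, ht₁, c1, h⟩
    · exact ⟨t₁ * e₂, mul_mem ht₁ he₂, by rw [MulAut.mul_apply, g1, c1],
        by rw [MulAut.mul_apply, g2, map_inv, h, inv_inv]⟩
  obtain ⟨e₁, he₁, l1, l2, l3⟩ : ∃ e ∈ I, e y₁ = y₁⁻¹ ∧ e y₂ = y₂ ∧ e y₃ = y₃ := by
    rcases d3 e' he' with h | h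
    · exact ⟨e', he', k1, k2, h⟩
    · exact ⟨e' * e₃, mul_mem he' he₃, by rw [MulAut.mul_apply, f31, k1],
        by rw [MulAut.mul_apply, f32, k2],
        by rw [MulAut.mul_apply, c3, map_inv, h, inv_inv]⟩
  exact ⟨e₁, e₂, e₃, y₁, y₂, y₃, he₁, he₂, he₃, ⟨a1, b1, d1⟩, ⟨a2, b2, d2⟩, ⟨a3, b3, d3⟩,
    ⟨l1, l2, l3⟩, ⟨g1, g2, g3⟩, ⟨f31, f32, c3⟩⟩

end Cfsg.Agent.Lib.BroadInvolutions76
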