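import Mathlib

/-!
# Factorised groups `G = HK`

A factorisation is written `∀ g : G, ∃ h ∈ H, ∃ k ∈ K, g = h * k`.
-/

set_option autoImplicit false
set_option linter.style.haveILetI false

namespace Cfsg.Agent.Lib.Products

open scoped Pointwise

universe u v

variable {G : Type u} [Group G]

theorem swap {H K : Subgroup G} (h : ∀ g : G, ∃ a ∈ H, ∃ b ∈ K, g = a * b) (g : G) :
    ∃ b ∈ K, ∃ a ∈ H, g = b * a := by
  obtain ⟨a, ha, b, hb, hg⟩ := h g⁻¹
  exact ⟨b⁻¹, inv_mem hb, a⁻¹, inv_mem ha, by rw [← mul_inv_rev, ← hg, inv_inv]⟩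

theorem map_factor {G' : Type v} [Group G'] (f : G →* G') (hf : Function.Surjective f)
    {H K : Subgroup G} (h : ∀ g : G, ∃ a ∈ H, ∃ b ∈ K, g = a * b) (g : G') :
    ∃ a ∈ H.map f, ∃ b ∈ K.map f, g = a * b := by
  obtain ⟨g, rfl⟩ := hf g
  obtain ⟨a, ha, b, hb, rfl⟩ := h g
  exact ⟨f a, Subgroup.mem_map_of_mem f ha, f b, Subgroup.mem_map_of_mem f hb, map_mul f a b⟩

/-- A subgroup containing one factor is factorised. -/
theorem factor_of_le {H K X : Subgroup G} (h : ∀ g : G, ∃ a ∈ H, ∃ b ∈ K, g = a * b) (hX : H ≤ X) :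
    ∀ g : X, ∃ a ∈ H.subgroupOf X, ∃ b ∈ (X ⊓ K).subgroupOf X, g = a * b := by
  rintro ⟨g, hg⟩
  obtain ⟨a, ha, b, hb, rfl⟩ := h g
  have hbX : b ∈ X := by simpa using mul_mem (inv_mem (hX ha)) hg
  exact ⟨⟨a, hX ha⟩, ha, ⟨b, hbX⟩, Subgroup.mem_inf.mpr ⟨hbX, hb⟩, rfl⟩

/-- Conjugate factors still factorise, by one conjugating element. -/
theorem exists_conj {H K : Subgroup G} (h : ∀ g : G, ∃ a ∈ H, ∃ b ∈ K, g = a * b) (x y : G) :
    ∃ g : G, MulAut.conj x • H = MulAut.conj g • H ∧ MulAut.conj y • K = MulAut.conj g • K := by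
  obtain ⟨a, ha, b, hb, he⟩ := h (x⁻¹ * y)
  refine ⟨x * a, ?_, ?_⟩
  · rw [map_mul, mul_smul, Subgroup.conj_smul_eq_self_of_mem ha]
  · rw [show y = x * a * b by rw [mul_assoc, ← he, mul_inv_cancel_left],
      map_mul, mul_smul, Subgroup.conj_smul_eq_self_of_mem hb]

theorem factor_conj {H K : Subgroup G} (h : ∀ g : G, ∃ a ∈ H, ∃ b ∈ K, g = a * b) (x y : G)
    (g : G) : ∃ a ∈ MulAut.conj x • H, ∃ b ∈ MulAut.conj y • K, g = a * b := by
  obtain ⟨t, hH, hK⟩ := exists_conj h x y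
  rw [hH, hK]
  obtain ⟨a, ha, b, hb, he⟩ := h ((MulAut.conj t)⁻¹ g)
  refine ⟨_, Subgroup.smul_mem_pointwise_smul _ (MulAut.conj t) H ha, _,
    Subgroup.smul_mem_pointwise_smul _ (MulAut.conj t) K hb, ?_⟩
  show g = MulAut.conj t a * MulAut.conj t b
  rw [← map_mul, ← he, MulAut.apply_inv_self]

/-- `K.relIndex H ≤ K.relIndex T` for `H ≤ T`. -/
theorem relIndex_le_of_le [Finite G] (K : Subgroup G) {H T : Subgroup G} (hT : H ≤ T) :
    K.relIndex H ≤ K.relIndex T :=
  Nat.card_le_card_of_injective _ (Subgroup.quotientSubgroupOfEmbeddingOfLE K hT).injective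

/-- `T ⊆ H K` iff the relative indices agree. -/
theorem factor_iff_relIndex_eq [Finite G] (K : Subgroup G) {H T : Subgroup G} (hT : H ≤ T) :
    (∀ t ∈ T, ∃ h ∈ H, ∃ k ∈ K, t = h * k) ↔ K.relIndex H = K.relIndex T := by
  set e := Subgroup.quotientSubgroupOfEmbeddingOfLE K hT
  constructor
  · intro h
    refine Nat.card_eq_of_bijective e ⟨e.injective, fun q => ?_⟩
    induction q using QuotientGroup.induction_on with
    | H t =>
      obtain ⟨a, ha, b, hb, he⟩ := h t t.2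
      refine ⟨(⟨a, ha⟩ : H), ?_⟩
      show (QuotientGroup.mk (Subgroup.inclusion hT ⟨a, ha⟩) : T ⧸ K.subgroupOf T) = _
      rw [QuotientGroup.eq, Subgroup.mem_subgroupOf]
      show a⁻¹ * (t : G) ∈ K
      rw [he, inv_mul_cancel_left]
      exact hb
  · intro h t ht
    obtain ⟨q, hq⟩ := ((Nat.bijective_iff_injective_and_card e).mpr ⟨e.injective, h⟩).2
      (QuotientGroup.mk ⟨t, ht⟩)
    induction q using QuotientGroup.induction_on with
    | H a =>
      have hq' : (QuotientGroup.mk (Subgroup.inclusion hT a) : T ⧸ K.subgroupOf T) =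
        QuotientGroup.mk ⟨t, ht⟩ := hq
      rw [QuotientGroup.eq, Subgroup.mem_subgroupOf] at hq'
      exact ⟨a, a.2, _, hq', (mul_inv_cancel_left (a : G) t).symm⟩

/-- The order formula for a factorised group. -/
theorem card_mul_card [Finite G] {H K : Subgroup G} (h : ∀ g : G, ∃ a ∈ H, ∃ b ∈ K, g = a * b) :
    Nat.card H * Nat.card K = Nat.card G * Nat.card ↥(H ⊓ K) := by
  have h1 : K.relIndex H = K.index := by
    rw [← Subgroup.relIndex_top_right]
    exact (factor_iff_relIndex_eq K le_top).mp fun t _ => h t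
  have h2 := Subgroup.relIndex_mul_relIndex ⊥ (H ⊓ K) H bot_le inf_le_left
  rw [Subgroup.relIndex_bot_left, Subgroup.relIndex_bot_left, Subgroup.inf_relIndex_left, h1] at h2
  rw [← h2, ← Subgroup.card_mul_index K]
  ring

/-- Criterion for a product of two subgroups of a subgroup to be that whole subgroup. -/
theorem coe_eq_mul {H K T : Subgroup G} (hH : H ≤ T) (hK : K ≤ T)
    (h : ∀ t ∈ T, ∃ a ∈ H, ∃ b ∈ K, t = a * b) : (T : Set G) = (H : Set G) * (K : Set G) := by
  ext t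
  constructor
  · intro ht
    obtain ⟨a, ha, b, hb, rfl⟩ := h t ht
    exact Set.mul_mem_mul ha hb
  · rintro ⟨a, ha, b, hb, rfl⟩
    exact mul_mem (hH ha) (hK hb)

/-- If the product set of two subgroups is a subgroup, they commute. -/
theorem mul_comm_of_coe_eq {H K T : Subgroup G} (h : (T : Set G) = (H : Set G) * (K : Set G)) :
    (T : Set G) = (K : Set G) * (H : Set G) := by
  calc (T : Set G) = (T : Set G)⁻¹ := by ext; simp
    _ = _ := by rw [h, mul_inv_rev, inv_coe_set, inv_coe_set]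

theorem eq_sup_of_coe_eq {H K T : Subgroup G} (h : (T : Set G) = (H : Set G) * (K : Set G)) :
    T = H ⊔ K := by
  refine le_antisymm (fun t ht => ?_) (sup_le (fun a ha => ?_) (fun b hb => ?_))
  · rw [← SetLike.mem_coe, h] at ht
    obtain ⟨a, ha, b, hb, rfl⟩ := ht
    exact mul_mem (Subgroup.mem_sup_left ha) (Subgroup.mem_sup_right hb)
  · rw [← SetLike.mem_coe, h]; exact ⟨a, ha, 1, K.one_mem, mul_one a⟩
  · rw [← SetLike.mem_coe, h]; exact ⟨1, H.one_mem, b, hb, one_mul b⟩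

end Cfsg.Agent.Lib.Products
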