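import Mathlib

/-!
# Groups in which every 2-element is 2-central

If every 2-element of a finite group centralises a Sylow 2-subgroup, the Sylow 2-subgroups are abelian.

The proof: real 2-elements square to 1, so involutions in a 2-group commute and every 2-group `P` has an
elementary abelian subgroup `Ω P` of all its elements with square 1. An induction on intersections of
Sylow subgroups `S`, `T` shows `S ∩ T ∩ C(Ω T) ≤ C(Ω S)`; so `Ω S` is central in `S`, and then `S` is
abelian.
-/

set_option autoImplicit false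
set_option linter.dupNamespace false

open scoped Pointwise

namespace Cfsg.Agent.Lib.CentralTwoElements

universe u

variable {G : Type u} [Group G]

/-- Every element of 2-power order centralises a Sylow 2-subgroup. -/
def AllCentral (G : Type u) [Group G] : Prop :=
  ∀ x : G, (∃ k : ℕ, orderOf x = 2 ^ k) → ∃ Q : Sylow 2 G,
    (Q : Subgroup G) ≤ Subgroup.centralizer ({x} : Set G)

theorem mem_cent {x y : G} : y ∈ Subgroup.centralizer ({x} : Set G) ↔ Commute y x := by
  rw [Subgroup.mem_centralizer_singleton_iff]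
  rfl

theorem twoPower [Finite G] (S : Sylow 2 G) {x : G} (hx : x ∈ S) :
    ∃ k : ℕ, orderOf x = 2 ^ k := by
  have : Fact (Nat.Prime 2) := ⟨Nat.prime_two⟩
  obtain ⟨k, hk⟩ := IsPGroup.iff_orderOf.1 S.2 ⟨x, hx⟩
  exact ⟨k, by rw [← hk, Subgroup.orderOf_mk]⟩

/-- A 2-element normalising a subgroup containing a Sylow 2-subgroup lies in it. -/
theorem mem_of_normalizes [Finite G] (T : Sylow 2 G) {H : Subgroup G} (hT : (T : Subgroup G) ≤ H)
    {y : G} (hy : ∃ k : ℕ, orderOf y = 2 ^ k)
    (hn : y ∈ Subgroup.normalizer (H : Set G)) : y ∈ H := by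
  have : Fact (Nat.Prime 2) := ⟨Nat.prime_two⟩
  obtain ⟨k, hk⟩ := hy
  set N := Subgroup.normalizer (H : Set G) with hN
  have hHN : H ≤ N := Subgroup.le_normalizer
  have : (H.subgroupOf N).Normal := Subgroup.normal_subgroupOf_iff_le_normalizer hHN |>.2 le_rfl
  set q := QuotientGroup.mk' (H.subgroupOf N) ⟨y, hn⟩ with hq
  have h1 : orderOf q ∣ 2 ^ k := by
    rw [← hk]
    exact (orderOf_map_dvd _ _).trans (dvd_of_eq (Subgroup.orderOf_coe (⟨y, hn⟩ : N)).symm)
  have hodd : ¬ 2 ∣ (H.subgroupOf N).index := fun h => T.not_dvd_index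
    (h.trans (dvd_trans (show H.relIndex N ∣ H.index from Subgroup.relIndex_dvd_index_of_le hHN)
      (Subgroup.index_dvd_of_le hT)))
  have h2 : orderOf q ∣ (H.subgroupOf N).index := by
    rw [Subgroup.index_eq_card]
    exact orderOf_dvd_natCard _
  have h3 : orderOf q = 1 :=
    Nat.eq_one_of_dvd_coprimes ((Nat.prime_two.coprime_iff_not_dvd.2 hodd).pow_left k) h1 h2
  exact Subgroup.mem_subgroupOf.1 ((QuotientGroup.eq_one_iff _).1 (orderOf_eq_one_iff.1 h3))

theorem mem_normalizer_centralizer {x g : G} (h : g * x * g⁻¹ = x⁻¹) :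
    g ∈ Subgroup.normalizer (Subgroup.centralizer ({x} : Set G) : Set G) := by
  refine Subgroup.mem_normalizer_iff.2 fun c => ?_
  rw [mem_cent, mem_cent]
  have key : Commute (g * c * g⁻¹) (g * x * g⁻¹) ↔ Commute c x :=
    Commute.conj_iff (a := c) (b := x) g
  rw [← key, h, Commute.inv_right_iff]

variable [Finite G]

/-- A real 2-element squares to 1. -/
theorem sq_eq_one_of_real (hG : AllCentral G) {x g : G} (hx : ∃ k : ℕ, orderOf x = 2 ^ k)
    (hg : g * x * g⁻¹ = x⁻¹) : x * x = 1 := by
  obtain ⟨T, hT⟩ := hG x hx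
  -- a 2-element among the odd powers of `g` inverts `x`
  obtain ⟨a, m, hodd, hm⟩ := Nat.exists_eq_pow_mul_and_not_dvd (orderOf_pos g).ne' 2 (by norm_num)
  have hinv : g ^ m * x * (g ^ m)⁻¹ = x⁻¹ := by
    have hodd' : Odd m := Nat.odd_iff.2 (by omega)
    have h : ∀ j : ℕ, g ^ (2 * j + 1) * x * (g ^ (2 * j + 1))⁻¹ = x⁻¹ := by
      intro j
      induction j with
      | zero => simpa using hg
      | succ j ih =>
        have e : g ^ (2 * (j + 1) + 1) * x * (g ^ (2 * (j + 1) + 1))⁻¹ =
            g * (g * (g ^ (2 * j + 1) * x * (g ^ (2 * j + 1))⁻¹) * g⁻¹) * g⁻¹ := by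
          rw [show 2 * (j + 1) + 1 = (2 * j + 1) + 1 + 1 by ring, pow_succ', pow_succ']
          group
        have hg' : g * x⁻¹ * g⁻¹ = x := by
          rw [show g * x⁻¹ * g⁻¹ = (g * x * g⁻¹)⁻¹ by group, hg, inv_inv]
        rw [e, ih, hg', hg]
    obtain ⟨j, rfl⟩ := hodd'
    exact h j
  have hy : ∃ k : ℕ, orderOf (g ^ m) = 2 ^ k := by
    have hd : orderOf (g ^ m) ∣ 2 ^ a := orderOf_dvd_of_pow_eq_one
      (by rw [← pow_mul, mul_comm m, ← hm, pow_orderOf_eq_one])
    obtain ⟨k, -, hk⟩ := (Nat.dvd_prime_pow Nat.prime_two).1 hd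
    exact ⟨k, hk⟩
  have hc := mem_cent.1 (mem_of_normalizes T hT hy (mem_normalizer_centralizer hinv))
  rw [hc.eq, mul_inv_cancel_right] at hinv
  nth_rewrite 1 [hinv]
  exact inv_mul_cancel x

theorem commute_of_sq (hG : AllCentral G) (S : Sylow 2 G) {u v : G} (hu : u ∈ S) (hv : v ∈ S)
    (hu2 : u * u = 1) (hv2 : v * v = 1) : Commute u v := by
  have hu' : u⁻¹ = u := inv_eq_of_mul_eq_one_right hu2
  have hv' : v⁻¹ = v := inv_eq_of_mul_eq_one_right hv2
  have h : (u * v) * (u * v) = 1 := by
    refine sq_eq_one_of_real hG (twoPower S (mul_mem hu hv)) (g := u) ?_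
    rw [mul_inv_rev, hu', hv', ← mul_assoc, hu2, one_mul]
  show u * v = v * u
  calc u * v = (u * v)⁻¹ := (inv_eq_of_mul_eq_one_right h).symm
    _ = v * u := by rw [mul_inv_rev, hu', hv']

/-- The subgroup of elements of a Sylow 2-subgroup with square 1. -/
def omega (hG : AllCentral G) (S : Sylow 2 G) : Subgroup G where
  carrier := {u | u ∈ S ∧ u * u = 1}
  one_mem' := ⟨one_mem _, one_mul 1⟩
  mul_mem' := by
    rintro u v ⟨hu, hu2⟩ ⟨hv, hv2⟩
    refine ⟨mul_mem hu hv, ?_⟩
    have hc := commute_of_sq hG S hu hv hu2 hv2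
    calc u * v * (u * v) = u * (v * u) * v := by group
      _ = u * u * (v * v) := by rw [← hc.eq]; group
      _ = 1 := by rw [hu2, hv2, one_mul]
  inv_mem' := by
    rintro u ⟨hu, hu2⟩
    exact ⟨inv_mem hu, by rw [← mul_inv_rev, hu2, inv_one]⟩

theorem omega_le (hG : AllCentral G) (S : Sylow 2 G) : omega hG S ≤ S := fun _ h => h.1

theorem omega_comm (hG : AllCentral G) (S : Sylow 2 G) {u v : G} (hu : u ∈ omega hG S)
    (hv : v ∈ omega hG S) : Commute u v :=
  commute_of_sq hG S hu.1 hv.1 hu.2 hv.2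

/-- Conjugation invariance of `omega`. -/
theorem mem_omega_conj (hG : AllCentral G) (S : Sylow 2 G) {g u : G} (hg : g ∈ S)
    (hu : u ∈ omega hG S) : g * u * g⁻¹ ∈ omega hG S :=
  ⟨mul_mem (mul_mem hg hu.1) (inv_mem hg), by
    rw [show g * u * g⁻¹ * (g * u * g⁻¹) = g * (u * u) * g⁻¹ by group, hu.2, mul_one,
      mul_inv_cancel]⟩

/-- Elements centralising `omega`. -/
abbrev centOmega (hG : AllCentral G) (S : Sylow 2 G) : Subgroup G :=
  Subgroup.centralizer (omega hG S : Set G)

theorem mem_centOmega_of_le (hG : AllCentral G) {S T : Sylow 2 G}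
    (hle : omega hG S ≤ omega hG T) : centOmega hG T ≤ centOmega hG S :=
  Subgroup.centralizer_le hle

theorem omega_mono (hG : AllCentral G) {S T : Sylow 2 G}
    (h : omega hG S ≤ T) : omega hG S ≤ omega hG T := fun _ hu => ⟨h hu, hu.2⟩

theorem inter_le (hG : AllCentral G) : ∀ (n : ℕ) (S T : Sylow 2 G),
    Nat.card (S : Subgroup G) ≤ Nat.card ((S : Subgroup G) ⊓ T : Subgroup G) + n →
      ∀ x : G, x ∈ S → x ∈ T → x ∈ centOmega hG T → x ∈ centOmega hG S := by
  have : Fact (Nat.Prime 2) := ⟨Nat.prime_two⟩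
  intro n
  induction n with
  | zero =>
    intro S T hn x _ _ hxc
    have hST : (S : Subgroup G) ⊓ T = S := Subgroup.eq_of_le_of_card_ge inf_le_left (by omega)
    exact mem_centOmega_of_le hG (omega_mono hG ((omega_le hG S).trans (inf_eq_left.1 hST))) hxc
  | succ n ih =>
    intro S T hn x hxS hxT hxc
    by_cases hsub : omega hG S ≤ T
    · exact mem_centOmega_of_le hG (omega_mono hG hsub) hxc
    set D : Subgroup G := (S : Subgroup G) ⊓ T with hD
    have hxD : x ∈ D := ⟨hxS, hxT⟩
    have hDT : D < (T : Subgroup G) := by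
      refine lt_of_le_of_ne inf_le_right fun e => hsub ?_
      have hle : (T : Subgroup G) ≤ S := e ▸ inf_le_left
      exact (omega_le hG S).trans (le_of_eq (T.3 S.2 hle))
    -- an element of `omega S` outside `D` normalising `D`
    obtain ⟨u, huA, huD, huN⟩ : ∃ u ∈ omega hG S, u ∉ D ∧ u ∈ Subgroup.normalizer (D : Set G) := by
      set B := omega hG S ⊔ D with hB
      have hBS : B ≤ S := sup_le (omega_le hG S) inf_le_left
      have : Group.IsNilpotent B := (S.2.to_le hBS).isNilpotent
      have hne : D.subgroupOf B ≠ ⊤ := fun e =>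
        hsub ((le_sup_left.trans (Subgroup.subgroupOf_eq_top.1 e)).trans inf_le_right)
      obtain ⟨⟨b, hbB⟩, hbN, hbD⟩ := SetLike.exists_of_lt
        (Group.normalizerCondition_of_isNilpotent (G := B) _ (lt_top_iff_ne_top.2 hne))
      have hbN' : b ∈ Subgroup.normalizer (D : Set G) := by
        refine Subgroup.mem_normalizer_iff.2 fun d => ?_
        constructor
        · intro hd
          have := (Subgroup.mem_normalizer_iff.1 hbN ⟨d, le_sup_right (a := omega hG S) hd⟩).1 hd
          exact this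
        · intro hd
          have hdB : d ∈ B := by
            have h' : b * d * b⁻¹ ∈ B := le_sup_right (a := omega hG S) hd
            have := mul_mem (mul_mem (inv_mem hbB) h') hbB
            simpa [mul_assoc] using this
          exact (Subgroup.mem_normalizer_iff.1 hbN ⟨d, hdB⟩).2 hd
      have hnorm : D ≤ Subgroup.normalizer (omega hG S : Set G) := by
        intro d hd
        refine Subgroup.mem_normalizer_iff.2 fun a => ⟨mem_omega_conj hG S hd.1, fun h => ?_⟩
        have := mem_omega_conj hG S (inv_mem hd.1) h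
        simpa [mul_assoc] using this
      have hb : b ∈ ((omega hG S : Set G) * (D : Set G)) := by
        rw [← Subgroup.coe_mul_of_right_le_normalizer_left _ _ hnorm]
        exact hbB
      obtain ⟨a, ha, d, hd, rfl⟩ := hb
      have hbD' : a * d ∉ D := hbD
      refine ⟨a, ha, fun h => hbD' (mul_mem h hd), ?_⟩
      have := mul_mem hbN' (inv_mem (Subgroup.le_normalizer (H := D) hd))
      simpa [mul_assoc] using this
    set N := Subgroup.normalizer (D : Set G) with hN
    -- the elements stabilising the chain `D > D ∩ omega S > 1`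
    let K : Subgroup N :=
      { carrier := {k | ∀ d ∈ D, (d⁻¹ * ((k : G) * d * (k : G)⁻¹) ∈ omega hG S) ∧
          (d * d = 1 → (k : G) * d * (k : G)⁻¹ = d)}
        one_mem' := fun d _ => ⟨by simpa using one_mem (omega hG S), fun _ => by simp⟩
        mul_mem' := by
          intro k l hk hl d hd
          have hld : (l : G) * d * (l : G)⁻¹ ∈ D := (Subgroup.mem_normalizer_iff.1 l.2 d).1 hd
          refine ⟨?_, fun h2 => ?_⟩
          · have h := mul_mem (hl d hd).1 (hk _ hld).1
            convert h using 1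
            push_cast
            group
          · rw [Subgroup.coe_mul, show (k : G) * l * d * ((k : G) * l)⁻¹ =
              (k : G) * ((l : G) * d * (l : G)⁻¹) * (k : G)⁻¹ by group, (hl d hd).2 h2, (hk d hd).2 h2]
        inv_mem' := by
          intro k hk d hd
          have hkd : (k : G)⁻¹ * d * (k : G) ∈ D := by
            have := (Subgroup.mem_normalizer_iff.1 (inv_mem k.2) d).1 hd
            simpa using this
          refine ⟨?_, fun h2 => ?_⟩
          · have h := inv_mem (hk _ hkd).1
            convert h using 1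
            push_cast
            group
          · have h' := (hk _ hkd).2 (by
              rw [show (k : G)⁻¹ * d * k * ((k : G)⁻¹ * d * k) = (k : G)⁻¹ * (d * d) * k by group, h2,
                mul_one, inv_mul_cancel])
            rw [Subgroup.coe_inv, inv_inv]
            refine h'.symm.trans ?_
            group }
    have hKn : K.Normal := by
      refine ⟨fun k hk g d hd => ?_⟩
      have hgd : (g : G)⁻¹ * d * (g : G) ∈ D := by
        have := (Subgroup.mem_normalizer_iff.1 (inv_mem g.2) d).1 hd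
        simpa using this
      refine ⟨?_, fun h2 => ?_⟩
      · have h := (hk _ hgd).1
        have hDc : ((g : G)⁻¹ * d * (g : G))⁻¹ * ((k : G) * ((g : G)⁻¹ * d * g) * (k : G)⁻¹) ∈ D :=
          mul_mem (inv_mem hgd) ((Subgroup.mem_normalizer_iff.1 k.2 _).1 hgd)
        have h' := (Subgroup.mem_normalizer_iff.1 g.2 _).1 hDc
        refine ⟨?_, ?_⟩
        · show _ ∈ (S : Subgroup G)
          convert (show _ ∈ (S : Subgroup G) from h'.1) using 1
          push_cast
          group
        · have e := h.2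
          have e' : (g : G) * (((g : G)⁻¹ * d * g)⁻¹ * ((k : G) * ((g : G)⁻¹ * d * g) * (k : G)⁻¹) *
              (((g : G)⁻¹ * d * g)⁻¹ * ((k : G) * ((g : G)⁻¹ * d * g) * (k : G)⁻¹))) * (g : G)⁻¹ = 1 := by
            rw [e, mul_one, mul_inv_cancel]
          refine Eq.trans ?_ e'
          push_cast
          group
      · have h' := (hk _ hgd).2 (by
          rw [show (g : G)⁻¹ * d * g * ((g : G)⁻¹ * d * g) = (g : G)⁻¹ * (d * d) * g by group, h2,
            mul_one, inv_mul_cancel])
        calc ((g * k * g⁻¹ : N) : G) * d * ((g * k * g⁻¹ : N) : G)⁻¹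
            = (g : G) * ((k : G) * ((g : G)⁻¹ * d * g) * (k : G)⁻¹) * (g : G)⁻¹ := by push_cast; group
          _ = d := by rw [h']; group
    let C0 : Subgroup N := (Subgroup.centralizer (D : Set G)).subgroupOf N
    have hsq : ∀ k ∈ K, k * k ∈ C0 := by
      intro k hk
      refine Subgroup.mem_subgroupOf.2 (Subgroup.mem_centralizer_iff.2 fun d hd => ?_)
      set f := d⁻¹ * ((k : G) * d * (k : G)⁻¹) with hf
      have hfA : f ∈ omega hG S := (hk d hd).1
      have hfD : f ∈ D := mul_mem (inv_mem hd) ((Subgroup.mem_normalizer_iff.1 k.2 d).1 hd)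
      have h3 : (k : G) * f * (k : G)⁻¹ = f := (hk f hfD).2 hfA.2
      have h2 : (k : G) * k * d * ((k : G) * k)⁻¹ = d := by
        calc (k : G) * k * d * ((k : G) * k)⁻¹
            = ((k : G) * d * (k : G)⁻¹) * ((k : G) * f * (k : G)⁻¹) := by rw [hf]; group
          _ = d * (f * f) := by rw [h3, hf]; group
          _ = d := by rw [hfA.2, mul_one]
      rw [Subgroup.coe_mul]
      exact (mul_inv_eq_iff_eq_mul.1 h2).symm
    have huK : (⟨u, huN⟩ : N) ∈ K := by
      intro d hd
      refine ⟨?_, fun h2 => ?_⟩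
      · have h := mul_mem (mem_omega_conj hG S (inv_mem hd.1) huA) (inv_mem huA)
        convert h using 1
        group
      · show u * d * u⁻¹ = d
        rw [(omega_comm hG S huA (show d ∈ omega hG S from ⟨hd.1, h2⟩)).eq, mul_inv_cancel_right]
    -- Sylow subgroups of `N`
    obtain ⟨W, hW⟩ := ((T.2.to_le (inf_le_left (b := N))).comap_of_injective N.subtype
      N.subtype_injective).exists_le_sylow
    obtain ⟨R, hR⟩ := ((S.2.to_le (omega_le hG S)).comap_of_injective N.subtype
      N.subtype_injective).exists_le_sylow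
    obtain ⟨g, hg⟩ := MulAction.exists_smul_eq N W R
    obtain ⟨c, hcC, hcu⟩ : ∃ c : N, (c : G) ∈ Subgroup.centralizer (D : Set G) ∧
        (⟨u, huN⟩ : N) ∈ MulAut.conj c • (W : Subgroup N) := by
      obtain ⟨WK, hWK⟩ : ∃ WK : Sylow 2 K, ∀ w : K, w ∈ WK → (w : N) ∈ W := by
        obtain ⟨P1⟩ := (inferInstance : Nonempty (Sylow 2 K))
        obtain ⟨V, hV⟩ := (P1.2.map K.subtype).exists_le_sylow
        obtain ⟨g, rfl⟩ := MulAction.exists_smul_eq N W V
        have hp : IsPGroup 2 ((W : Subgroup N).comap K.subtype) :=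
          W.2.comap_of_injective _ K.subtype_injective
        obtain ⟨Q, hQ⟩ := hp.exists_le_sylow
        refine ⟨Q, fun w hw => ?_⟩
        let f : ↥(P1 : Subgroup K) → ↥((W : Subgroup N).comap K.subtype) := fun p =>
          ⟨⟨g⁻¹ * (p : K) * g, by simpa using hKn.conj_mem _ (p : K).2 g⁻¹⟩, by
            obtain ⟨w', hw', e⟩ := Subgroup.mem_map.1 (hV (Subgroup.mem_map.2 ⟨p, p.2, rfl⟩))
            have e' : g * w' * g⁻¹ = ((p : K) : N) := e
            show g⁻¹ * ((p : K) : N) * g ∈ (W : Subgroup N)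
            rw [← e']
            simpa [mul_assoc] using hw'⟩
        have hf : Function.Injective f := by
          intro p p' e
          have e' : g⁻¹ * ((p : K) : N) * g = g⁻¹ * ((p' : K) : N) * g :=
            congrArg (fun q : (W : Subgroup N).comap K.subtype => ((q : K) : N)) e
          exact Subtype.ext (Subtype.ext (mul_left_cancel (mul_right_cancel e')))
        have hcard := Nat.card_le_card_of_injective f hf
        rw [P1.card_eq_multiplicity, ← Q.card_eq_multiplicity] at hcard
        exact (show w ∈ (W : Subgroup N).comap K.subtype from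
          (Subgroup.eq_of_le_of_card_ge hQ hcard).symm ▸ hw)
      let P0 : Subgroup K := Subgroup.zpowers ⟨⟨u, huN⟩, huK⟩
      have hP0 : IsPGroup 2 P0 := by
        refine IsPGroup.iff_orderOf.2 fun ⟨z, hz⟩ => ?_
        obtain ⟨k, hk⟩ := twoPower S huA.1
        have hd : orderOf z ∣ 2 ^ k := by
          rw [← hk]
          refine (orderOf_dvd_of_mem_zpowers hz).trans (dvd_of_eq ?_)
          rw [← orderOf_injective K.subtype K.subtype_injective,
            ← orderOf_injective N.subtype N.subtype_injective]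
          rfl
        obtain ⟨j, -, hj⟩ := (Nat.dvd_prime_pow Nat.prime_two).1 hd
        exact ⟨j, by rw [Subgroup.orderOf_mk, hj]⟩
      obtain ⟨P1, hP1⟩ := hP0.exists_le_sylow
      obtain ⟨k, hk⟩ := MulAction.exists_smul_eq K WK P1
      -- `K` is generated by `C0` and any of its Sylow 2-subgroups
      have hC0 : C0.Normal := by
        refine ⟨fun a ha b => ?_⟩
        refine Subgroup.mem_subgroupOf.2 (Subgroup.mem_centralizer_iff.2 fun d hd => ?_)
        have hbd : (b : G)⁻¹ * d * (b : G) ∈ D := by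
          have := (Subgroup.mem_normalizer_iff.1 (inv_mem b.2) d).1 hd
          simpa using this
        have h := Subgroup.mem_centralizer_iff.1 (Subgroup.mem_subgroupOf.1 ha) _ hbd
        calc d * ((b * a * b⁻¹ : N) : G)
            = (b : G) * (((b : G)⁻¹ * d * b) * (a : G)) * (b : G)⁻¹ := by push_cast; group
          _ = _ := by rw [h]; push_cast; group
      have hC0K : (C0.subgroupOf K).Normal := hC0.subgroupOf K
      have hgen : (⊤ : Subgroup K) ≤ (C0.subgroupOf K) ⊔ (WK : Subgroup K) := by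
        intro z _
        set L := C0.subgroupOf K ⊔ (WK : Subgroup K) with hL
        obtain ⟨a, m, hodd, hm⟩ :=
          Nat.exists_eq_pow_mul_and_not_dvd (orderOf_pos z).ne' 2 (by norm_num)
        have hodd' : Odd m := Nat.odd_iff.2 (by omega)
        have hnorm : (z : K) * z ∈ L :=
          le_sup_left (α := Subgroup K) (show z * z ∈ C0.subgroupOf K from hsq z z.2)
        have hLi : ¬ 2 ∣ L.index := fun h =>
          WK.not_dvd_index (h.trans (Subgroup.index_dvd_of_le le_sup_right))
        have hz2 : (QuotientGroup.mk' (C0.subgroupOf K) z) ^ 2 = 1 := by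
          rw [← map_pow, pow_two]
          exact (QuotientGroup.eq_one_iff _).2 (hsq z z.2)
        have hsurj := QuotientGroup.mk'_surjective (C0.subgroupOf K)
        have hLmap : (L.map (QuotientGroup.mk' (C0.subgroupOf K))) = ⊤ := by
          refine Subgroup.index_eq_one.1 ?_
          rw [Subgroup.index_map, QuotientGroup.ker_mk', sup_eq_left.2 (le_sup_left :
            C0.subgroupOf K ≤ L), MonoidHom.range_eq_top.2 hsurj, Subgroup.index_top, mul_one]
          have hp : IsPGroup 2 (K ⧸ C0.subgroupOf K) := by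
            intro w
            obtain ⟨w', rfl⟩ := hsurj w
            exact ⟨1, by
              rw [pow_one, pow_two]
              exact (QuotientGroup.eq_one_iff _).2 (hsq w' w'.2)⟩
          have hd : L.index ∣ (C0.subgroupOf K).index := Subgroup.index_dvd_of_le le_sup_left
          obtain ⟨j, hj⟩ := IsPGroup.iff_card.1 hp
          rw [Subgroup.index_eq_card (H := C0.subgroupOf K), hj] at hd
          exact Nat.eq_one_of_dvd_coprimes
            ((Nat.prime_two.coprime_iff_not_dvd.2 hLi).pow_left j) hd dvd_rfl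
        have : z ∈ (L.map (QuotientGroup.mk' (C0.subgroupOf K))).comap
            (QuotientGroup.mk' (C0.subgroupOf K)) := by
          rw [hLmap]; trivial
        rwa [Subgroup.comap_map_eq, QuotientGroup.ker_mk', sup_eq_left.2 le_sup_left] at this
      have hkmem : k ∈ (C0.subgroupOf K : Subgroup K) ⊔ (WK : Subgroup K) := hgen (Subgroup.mem_top k)
      obtain ⟨c, hc, w, hw, rfl⟩ := Subgroup.mem_sup_of_normal_left.1 hkmem
      refine ⟨(c : N), Subgroup.mem_subgroupOf.1 hc, ?_⟩
      have hfix : w • WK = WK :=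
        Sylow.smul_eq_iff_mem_normalizer.2 (Subgroup.le_normalizer hw)
      rw [mul_smul, hfix] at hk
      have hmem : (⟨⟨u, huN⟩, huK⟩ : K) ∈ (c • WK : Sylow 2 K) := hk ▸ hP1 (Subgroup.mem_zpowers _)
      obtain ⟨w', hw', hw''⟩ := Subgroup.mem_map.1 hmem
      exact Subgroup.mem_map.2 ⟨(w' : N), hWK w' hw', congrArg Subtype.val hw''⟩
    -- the new Sylow subgroups
    set T' : Sylow 2 G := (c : G) • T with hT'
    have hcx : ∀ d ∈ D, (c : G) * d * (c : G)⁻¹ = d := fun d hd => by
      rw [← Subgroup.mem_centralizer_iff.1 hcC d hd, mul_inv_cancel_right]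
    have hT'mem : ∀ t : G, t ∈ T → (c : G) * t * (c : G)⁻¹ ∈ T' := fun t ht =>
      Subgroup.mem_map.2 ⟨t, ht, rfl⟩
    have hDT' : D ≤ T' := fun d hd => hcx d hd ▸ hT'mem d hd.2
    have hxc' : x ∈ centOmega hG T' := by
      refine Subgroup.mem_centralizer_iff.2 fun a ha => ?_
      obtain ⟨t, ht, rfl⟩ := Subgroup.mem_map.1 ha.1
      have ht2 : t * t = 1 := by
        have e := ha.2
        simp only [MulDistribMulAction.toMonoidEnd_apply, MulDistribMulAction.toMonoidHom_apply,
          MulAut.smul_def, MulAut.conj_apply] at e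
        calc t * t = (c : G)⁻¹ * ((c : G) * t * (c : G)⁻¹ * ((c : G) * t * (c : G)⁻¹)) * c := by group
          _ = 1 := by rw [e]; group
      have h := Subgroup.mem_centralizer_iff.1 hxc t ⟨ht, ht2⟩
      show (c : G) * t * (c : G)⁻¹ * x = x * ((c : G) * t * (c : G)⁻¹)
      calc (c : G) * t * (c : G)⁻¹ * x = (c : G) * (t * x) * (c : G)⁻¹ := by
            nth_rewrite 1 [← hcx x hxD]; group
        _ = x * ((c : G) * t * (c : G)⁻¹) := by
            rw [h]; nth_rewrite 2 [← hcx x hxD]; group
    obtain ⟨U, hU⟩ := (((MulAut.conj c • W : Sylow 2 N)).2.map N.subtype).exists_le_sylow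
    have hDW : ∀ d : N, (d : G) ∈ D → d ∈ MulAut.conj c • (W : Subgroup N) := by
      intro d hd
      refine Subgroup.mem_map.2 ⟨d, hW ⟨hd.2, d.2⟩, Subtype.ext ?_⟩
      exact hcx d hd
    have hDU : D ≤ U := fun d hd =>
      hU (Subgroup.mem_map.2 ⟨⟨d, Subgroup.le_normalizer hd⟩, hDW _ hd, rfl⟩)
    have huU : u ∈ U := hU (Subgroup.mem_map.2 ⟨_, hcu, rfl⟩)
    have hcard1 : Nat.card D < Nat.card ((S : Subgroup G) ⊓ U : Subgroup G) := by
      refine lt_of_not_ge fun hle => huD ?_
      have e := Subgroup.eq_of_le_of_card_ge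
        (le_inf inf_le_left hDU : D ≤ (S : Subgroup G) ⊓ U) hle
      exact e ▸ ⟨huA.1, huU⟩
    obtain ⟨t, htT, htN, htD⟩ : ∃ t : G, t ∈ T ∧ t ∈ N ∧ t ∉ D := by
      have : Group.IsNilpotent (T : Subgroup G) := T.2.isNilpotent
      have hne : D.subgroupOf (T : Subgroup G) ≠ ⊤ := fun e =>
        hDT.not_ge (Subgroup.subgroupOf_eq_top.1 e)
      obtain ⟨⟨b, hbT⟩, hbN, hbD⟩ := SetLike.exists_of_lt
        (Group.normalizerCondition_of_isNilpotent (G := (T : Subgroup G)) _
          (lt_top_iff_ne_top.2 hne))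
      refine ⟨b, hbT, Subgroup.mem_normalizer_iff.2 fun d => ⟨fun hd =>
        (Subgroup.mem_normalizer_iff.1 hbN ⟨d, hd.2⟩).1 hd, fun hd => ?_⟩, hbD⟩
      have hdT : d ∈ T := by
        have := mul_mem (mul_mem (inv_mem hbT) hd.2) hbT
        rwa [show b⁻¹ * (b * d * b⁻¹) * b = d by group] at this
      exact (Subgroup.mem_normalizer_iff.1 hbN ⟨d, hdT⟩).2 hd
    have hcard2 : Nat.card D < Nat.card ((U : Subgroup G) ⊓ T' : Subgroup G) := by
      refine lt_of_not_ge fun hle => htD ?_
      have e := Subgroup.eq_of_le_of_card_ge (le_inf hDU hDT' : D ≤ (U : Subgroup G) ⊓ T') hle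
      have hmem : (c : G) * t * (c : G)⁻¹ ∈ D := by
        rw [e]
        exact ⟨hU (Subgroup.mem_map.2 ⟨c * ⟨t, htN⟩ * c⁻¹,
          Subgroup.mem_map.2 ⟨⟨t, htN⟩, hW ⟨htT, htN⟩, rfl⟩, rfl⟩), hT'mem t htT⟩
      have := (Subgroup.mem_normalizer_iff.1 c.2 t).2 hmem
      exact this
    have hcard : Nat.card (U : Subgroup G) = Nat.card (S : Subgroup G) := by
      rw [U.card_eq_multiplicity, S.card_eq_multiplicity]
    have hxU : x ∈ U := hDU hxD
    exact ih S U (by omega) x hxS hxU (ih U T' (by omega) x hxU (hDT' hxD) hxc')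

theorem mem_centOmega (hG : AllCentral G) (S : Sylow 2 G) {x : G} (hx : x ∈ S) :
    x ∈ centOmega hG S := by
  have : Fact (Nat.Prime 2) := ⟨Nat.prime_two⟩
  obtain ⟨T, hT⟩ := hG x (twoPower S hx)
  have hxT : x ∈ T := by
    have hle : Subgroup.zpowers x ≤ Subgroup.normalizer ((T : Subgroup G) : Set G) := by
      rw [Subgroup.zpowers_le, Subgroup.mem_normalizer_iff]
      intro t
      constructor
      · intro ht
        rw [(mem_cent.1 (hT ht)).symm.eq, mul_inv_cancel_right]
        exact ht
      · intro ht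
        have h' := mem_cent.1 (hT ht)
        have : t = x * t * x⁻¹ := by
          have e := h'.eq
          calc t = x⁻¹ * (x * t * x⁻¹ * x) := by group
            _ = x⁻¹ * (x * (x * t * x⁻¹)) := by rw [e]
            _ = x * t * x⁻¹ := by group
        rw [this]; exact ht
    have hP : IsPGroup 2 (Subgroup.zpowers x) := S.2.to_le (Subgroup.zpowers_le.2 hx)
    have h := hP.inf_normalizer_sylow T
    exact (inf_eq_left.1 (h.symm.trans (inf_eq_left.2 hle))) (Subgroup.mem_zpowers x)
  refine inter_le hG (Nat.card (S : Subgroup G)) S T (by omega) x hx hxT ?_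
  exact Subgroup.mem_centralizer_iff.2 fun a ha => mem_cent.1 (hT ha.1)

theorem isMulCommutative (hG : AllCentral G) (S : Sylow 2 G) : IsMulCommutative (S : Subgroup G) := by
  have : Fact (Nat.Prime 2) := ⟨Nat.prime_two⟩
  have : Group.IsNilpotent (S : Subgroup G) := S.2.isNilpotent
  have hA : ∀ a ∈ omega hG S, ∀ z ∈ S, a * z = z * a := fun a ha z hz =>
    Subgroup.mem_centralizer_iff.1 (mem_centOmega hG S hz) a ha
  by_contra hS
  have hZ : Subgroup.center (S : Subgroup G) < ⊤ := by
    refine lt_top_iff_ne_top.2 fun e => hS ⟨⟨fun a b => ?_⟩⟩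
    exact Subgroup.mem_center_iff.1 (e ▸ Subgroup.mem_top b) a
  obtain ⟨x, hx2, hx1⟩ : ∃ x : (S : Subgroup G), x ∈ Subgroup.upperCentralSeries (S : Subgroup G) 2 ∧
      x ∉ Subgroup.center (S : Subgroup G) := by
    by_contra hcon
    push Not at hcon
    have hbase : Subgroup.upperCentralSeries (S : Subgroup G) 2 ≤
        Subgroup.upperCentralSeries (S : Subgroup G) 1 := by
      rw [Subgroup.upperCentralSeries_one]
      exact hcon
    have hstab : ∀ m, Subgroup.upperCentralSeries (S : Subgroup G) m ≤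
        Subgroup.upperCentralSeries (S : Subgroup G) 1 := by
      intro m
      induction m with
      | zero => simp
      | succ m ih =>
        intro z hz
        rw [Subgroup.mem_upperCentralSeries_succ_iff] at hz
        exact hbase (Subgroup.mem_upperCentralSeries_succ_iff.2 fun y => ih (hz y))
    obtain ⟨m, hm⟩ := Group.IsNilpotent.nilpotent (G := (S : Subgroup G))
    have := hstab m
    rw [hm, Subgroup.upperCentralSeries_one] at this
    exact hZ.ne (top_le_iff.1 this)
  have hcentral : ∀ y : (S : Subgroup G), x * y * x⁻¹ * y⁻¹ ∈ Subgroup.center (S : Subgroup G) := by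
    intro y
    rw [← Subgroup.upperCentralSeries_one]
    exact Subgroup.mem_upperCentralSeries_succ_iff.1 hx2 y
  obtain ⟨y, hy⟩ : ∃ y, x * y * x⁻¹ * y⁻¹ ≠ 1 := by
    by_contra hall
    push Not at hall
    exact hx1 (Subgroup.mem_center_iff.2 fun y => (mul_inv_eq_iff_eq_mul.1
      (mul_inv_eq_one.1 (hall y))).symm)
  set c := x * y * x⁻¹ * y⁻¹ with hc
  have hcc : ∀ z, c * z = z * c := fun z => (Subgroup.mem_center_iff.1 (hcentral y) z).symm
  have hpow : ∀ n : ℕ, x * y ^ n * x⁻¹ = c ^ n * y ^ n := by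
    intro n
    have h1 : x * y * x⁻¹ = c * y := by rw [hc]; group
    rw [← conj_pow, h1, (show Commute c y from hcc y).mul_pow]
  obtain ⟨k, hk⟩ := IsPGroup.iff_orderOf.1 S.2 c
  obtain ⟨j, rfl⟩ : ∃ j, k = j + 1 := by
    refine Nat.exists_eq_add_one.2 (Nat.pos_of_ne_zero fun h => hy ?_)
    rw [h, pow_zero, orderOf_eq_one_iff] at hk
    exact hk
  set c' := c ^ 2 ^ j with hc'
  set y' := y ^ 2 ^ j with hy'
  have hc'1 : c' ≠ 1 := fun h => by
    have := Nat.le_of_dvd (by positivity) (orderOf_dvd_of_pow_eq_one h)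
    rw [hk] at this
    exact absurd this (not_le.2 (Nat.pow_lt_pow_right one_lt_two j.lt_succ_self))
  have hc'2 : c' * c' = 1 := by
    rw [hc', ← pow_two, ← pow_mul, ← pow_succ, ← hk, pow_orderOf_eq_one]
  have hcA : (c' : G) ∈ omega hG S := ⟨c'.2, congrArg Subtype.val hc'2⟩
  have hswap : (x : G) * y' * (x : G)⁻¹ = c' * y' := congrArg Subtype.val (hpow (2 ^ j))
  -- `y'` exchanges `x` and `x * c'`
  obtain ⟨T₀, hT₀⟩ := hG x (twoPower S x.2)
  have hAC : omega hG S ≤ Subgroup.centralizer ({(x : G)} : Set G) := fun a ha =>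
    mem_cent.2 (hA a ha x x.2)
  obtain ⟨W, hW⟩ := ((S.2.to_le (omega_le hG S)).comap_of_injective
    (Subgroup.centralizer ({(x : G)} : Set G)).subtype (Subtype.val_injective)).exists_le_sylow
  obtain ⟨g, hg⟩ := MulAction.exists_smul_eq (Subgroup.centralizer ({(x : G)} : Set G))
    (T₀.subtype hT₀) W
  rw [Sylow.smul_subtype] at hg
  set T : Sylow 2 G := (g : Subgroup.centralizer ({(x : G)} : Set G)) • T₀ with hTdef
  have hTx : (T : Subgroup G) ≤ Subgroup.centralizer ({(x : G)} : Set G) := Sylow.smul_le hT₀ g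
  have hAT : omega hG S ≤ T := by
    intro a ha
    have h1 : (⟨a, hAC ha⟩ : Subgroup.centralizer ({(x : G)} : Set G)) ∈ W := hW ha
    rw [← hg] at h1
    exact h1
  set H := Subgroup.centralizer ({(x : G), (c' : G)} : Set G) with hH
  have hTH : (T : Subgroup G) ≤ H := by
    intro t ht
    refine Subgroup.mem_centralizer_iff.2 ?_
    rintro z (rfl | rfl)
    · exact (mem_cent.1 (hTx ht)).symm
    · exact Subgroup.mem_centralizer_iff.1 (mem_centOmega hG T ht) _
        ⟨hAT hcA, hcA.2⟩
  have hyc : (y' : G) * (c' : G) * (y' : G)⁻¹ = c' := by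
    rw [← hA c' hcA y' y'.2, mul_inv_cancel_right]
  have hc'i : (c' : G)⁻¹ = c' := inv_eq_of_mul_eq_one_right hcA.2
  have hxc : (y' : G) * (x : G) * (y' : G)⁻¹ = (x : G) * c' := by
    have h2 : (x : G) * y' = (c' : G) * y' * x := mul_inv_eq_iff_eq_mul.1 hswap
    calc (y' : G) * x * (y' : G)⁻¹ = (c' : G)⁻¹ * ((c' : G) * y' * x) * (y' : G)⁻¹ := by group
      _ = (c' : G) * x := by rw [← h2, hc'i]; group
      _ = x * c' := hA c' hcA x x.2
  have hyN : (y' : G) ∈ Subgroup.normalizer (H : Set G) := by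
    refine Subgroup.mem_normalizer_iff.2 fun z => ?_
    have e1 : Commute ((y' : G) * z * (y' : G)⁻¹) ((y' : G) * x * (y' : G)⁻¹) ↔ Commute z x :=
      Commute.conj_iff (a := z) (b := (x : G)) (y' : G)
    have e2 : Commute ((y' : G) * z * (y' : G)⁻¹) ((y' : G) * c' * (y' : G)⁻¹) ↔ Commute z c' :=
      Commute.conj_iff (a := z) (b := (c' : G)) (y' : G)
    rw [hxc] at e1
    rw [hyc] at e2
    rw [Subgroup.mem_centralizer_iff, Subgroup.mem_centralizer_iff]
    constructor
    · intro h
      have hx' : Commute z (x : G) := (h _ (Or.inl rfl)).symm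
      have hc'' : Commute z (c' : G) := (h _ (Or.inr rfl)).symm
      rintro w (rfl | rfl)
      · have := (e1.2 hx').mul_right (e2.2 hc'').inv_right
        rw [mul_inv_cancel_right] at this
        exact this.symm.eq
      · exact (e2.2 hc'').symm.eq
    · intro h
      have hx' : Commute ((y' : G) * z * (y' : G)⁻¹) (x : G) := (h _ (Or.inl rfl)).symm
      have hc'' : Commute ((y' : G) * z * (y' : G)⁻¹) (c' : G) := (h _ (Or.inr rfl)).symm
      rintro w (rfl | rfl)
      · exact (e1.1 (hx'.mul_right hc'')).symm.eq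
      · exact (e2.1 hc'').symm.eq
  have hyH := Subgroup.mem_centralizer_iff.1
    (mem_of_normalizes T hTH (twoPower S y'.2) hyN) (x : G) (Or.inl rfl)
  rw [← hyH, mul_inv_cancel_right] at hxc
  exact hc'1 (Subtype.ext (mul_left_cancel (hxc.symm.trans (mul_one _).symm)))

end Cfsg.Agent.Lib.CentralTwoElements
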