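import Mathlib.GroupTheory.GroupAction.SubMulAction
import Mathlib.GroupTheory.GroupAction.SubMulAction.OfStabilizer
import Mathlib.GroupTheory.GroupAction.Quotient
import Mathlib.Algebra.Group.Action.Pretransitive
import Mathlib.GroupTheory.GroupAction.Transitive
import Mathlib.GroupTheory.Commutator.Basic
import Mathlib.Algebra.Group.Action.End
import Mathlib.GroupTheory.Index
import Mathlib.SetTheory.Cardinal.Finite
import Mathlib.Algebra.Group.Conj
import Mathlib.GroupTheory.CommutingProbability

/-!
A weighted class count for permutation groups. `Triples H Ω` counts commuting pairs `(x, y)`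
with either nothing or a fixed point of `y`; it is at most `|H| * 2 ^ |Ω|`, and it is at least
twice the number of commuting pairs. So a group of degree `n` has at most `2 ^ (n - 1)` classes.
-/

set_option autoImplicit false

namespace Cfsg.Agent.Lib.ClassWeight82

variable {H Ω : Type*} [Group H] [MulAction H Ω]

/-- `g` fixes the optional point `o`. -/
def FixO (g : H) (o : Option Ω) : Prop := ∀ a, o = some a → g • a = a

variable (H Ω) in
/-- Commuting pairs with an optional fixed point of the second member. -/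
abbrev Triples : Type _ :=
  {t : H × H × Option Ω // Commute t.1 t.2.1 ∧ FixO t.2.1 t.2.2}

/-- Commuting pairs whose second member fixes `a`. -/
abbrev PairsAt (H : Type*) {Ω : Type*} [Group H] [MulAction H Ω] (a : Ω) : Type _ :=
  {t : H × H // Commute t.1 t.2 ∧ t.2 • a = a}

open Classical in
/-- Some element with property `p`, if there is one. -/
noncomputable def sel (p : H → Prop) : H := if h : ∃ g, p g then h.choose else 1

omit [MulAction H Ω] in
theorem sel_spec {p : H → Prop} (g : H) (hg : p g) : p (sel p) := by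
  unfold sel
  rw [dif_pos ⟨g, hg⟩]
  exact Exists.choose_spec (⟨g, hg⟩ : ∃ g, p g)

theorem smul_inv_eq {g : H} {a b : Ω} (h : g • a = b) : g⁻¹ • b = a := by
  rw [← h, inv_smul_smul]

/-- Commuting pairs are at most (number of points) times those fixing a given point. -/
theorem pairs_le [Finite H] [Finite Ω] (a : Ω) :
    Nat.card {t : H × H // Commute t.1 t.2} ≤ Nat.card Ω * Nat.card (PairsAt H a) := by
  rw [← Nat.card_prod]
  let r : H → Ω → H := fun x b => sel fun g => Commute x g ∧ g • a = b
  have hr : ∀ t : {t : H × H // Commute t.1 t.2},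
      Commute t.1.1 (r t.1.1 (t.1.2 • a)) ∧ r t.1.1 (t.1.2 • a) • a = t.1.2 • a :=
    fun t => sel_spec (p := fun g => Commute t.1.1 g ∧ g • a = t.1.2 • a) t.1.2 ⟨t.2, rfl⟩
  let f : {t : H × H // Commute t.1 t.2} → Ω × PairsAt H a := fun t =>
    (t.1.2 • a, ⟨(t.1.1, (r t.1.1 (t.1.2 • a))⁻¹ * t.1.2),
      ((hr t).1.inv_right).mul_right t.2, by
        rw [mul_smul]; exact smul_inv_eq (hr t).2⟩)
  refine Nat.card_le_card_of_injective f fun s t hst => ?_
  simp only [f, Prod.mk.injEq, Subtype.mk.injEq] at hst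
  obtain ⟨h1, h2, h3⟩ := hst
  refine Subtype.ext (Prod.ext h2 ?_)
  rw [h2, h1] at h3
  exact mul_left_cancel h3

open Classical in
/-- Twice the commuting pairs is at most the triples, if there is a point. -/
theorem two_pairs_le [Finite H] [Finite Ω] (a : Ω) :
    2 * Nat.card {t : H × H // Commute t.1 t.2} ≤ Nat.card (Triples H Ω) := by
  rw [two_mul, ← Nat.card_sum]
  let r : H → Ω → H := fun x b => sel fun g => Commute x g ∧ g • a = b
  let h : Ω → H := fun b => sel fun g => g • a = b
  have hr : ∀ t : {t : H × H // Commute t.1 t.2},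
      Commute t.1.1 (r t.1.1 (t.1.2 • a)) ∧ r t.1.1 (t.1.2 • a) • a = t.1.2 • a :=
    fun t => sel_spec (p := fun g => Commute t.1.1 g ∧ g • a = t.1.2 • a) t.1.2 ⟨t.2, rfl⟩
  have hh : ∀ y : H, h (y • a) • a = y • a :=
    fun y => sel_spec (p := fun g => g • a = y • a) y rfl
  let f : {t : H × H // Commute t.1 t.2} ⊕ {t : H × H // Commute t.1 t.2} → Triples H Ω :=
    Sum.elim (fun t => ⟨(t.1.1, t.1.2, none), t.2, fun b hb => by simp at hb⟩) (fun t =>
      ⟨(h (t.1.2 • a) * t.1.1 * (h (t.1.2 • a))⁻¹,
        h (t.1.2 • a) * ((r t.1.1 (t.1.2 • a))⁻¹ * t.1.2) * (h (t.1.2 • a))⁻¹,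
        some (t.1.2 • a)),
        (Commute.conj_iff _).2 (((hr t).1.inv_right).mul_right t.2), by
          intro b hb
          obtain rfl := Option.some.inj hb
          rw [mul_smul, mul_smul, mul_smul, smul_inv_eq (hh _), smul_inv_eq (hr t).2, hh]⟩)
  refine Nat.card_le_card_of_injective f fun s t hst => ?_
  rcases s with s | s <;> rcases t with t | t <;>
    simp only [f, Sum.elim_inl, Sum.elim_inr, Subtype.mk.injEq, Prod.mk.injEq, reduceCtorEq,
      and_false, and_true, Option.some.injEq] at hst
  · exact congrArg Sum.inl (Subtype.ext (Prod.ext hst.1 hst.2))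
  · obtain ⟨h1, h2, h3⟩ := hst
    rw [h3] at h1 h2
    have e1 := mul_left_cancel (mul_right_cancel h1)
    have e2 := mul_left_cancel (mul_right_cancel h2)
    rw [e1] at e2
    exact congrArg Sum.inr (Subtype.ext (Prod.ext e1 (mul_left_cancel e2)))

open Classical in
/-- Pairs fixing `a` embed in the triples of the stabiliser on the other points. -/
theorem pairsAt_le [Finite H] [Finite Ω] (a : Ω) :
    Nat.card (PairsAt H a) ≤
      Nat.card (Triples (MulAction.stabilizer H a) (SubMulAction.ofStabilizer H a)) := by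
  let r : Ω → H → H := fun b y => sel fun g => Commute g y ∧ g • a = b
  have hr : ∀ t : PairsAt H a,
      Commute (r (t.1.1 • a) t.1.2) t.1.2 ∧ r (t.1.1 • a) t.1.2 • a = t.1.1 • a :=
    fun t => sel_spec (p := fun g => Commute g t.1.2 ∧ g • a = t.1.1 • a) t.1.1 ⟨t.2.1, rfl⟩
  let o : Ω → Option (SubMulAction.ofStabilizer H a) := fun b =>
    if hb : b = a then none else some ⟨b, hb⟩
  have ho : Function.Injective o := by
    intro b c hbc
    simp only [o] at hbc
    by_cases hb : b = a <;> by_cases hc : c = a <;>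
      simp_all [Subtype.ext_iff]
  let f : PairsAt H a → Triples (MulAction.stabilizer H a) (SubMulAction.ofStabilizer H a) :=
    fun t => ⟨(⟨(r (t.1.1 • a) t.1.2)⁻¹ * t.1.1, by
        rw [MulAction.mem_stabilizer_iff, mul_smul]; exact smul_inv_eq (hr t).2⟩,
      ⟨t.1.2, MulAction.mem_stabilizer_iff.2 t.2.2⟩, o (t.1.1 • a)), by
        refine ⟨Subtype.ext (((hr t).1.inv_left).mul_left t.2.1), fun b hb => ?_⟩
        simp only [o] at hb
        by_cases hx : t.1.1 • a = a
        · simp [hx] at hb
        · rw [dif_neg hx] at hb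
          obtain rfl := Option.some.inj hb
          refine Subtype.ext ?_
          show t.1.2 • (t.1.1 • a) = t.1.1 • a
          rw [smul_smul, ← t.2.1.eq, mul_smul, t.2.2]⟩
  refine Nat.card_le_card_of_injective f fun s t hst => ?_
  simp only [f, Subtype.mk.injEq, Prod.mk.injEq] at hst
  obtain ⟨h1, h2, h3⟩ := hst
  rw [ho h3, h2] at h1
  exact Subtype.ext (Prod.ext (mul_left_cancel h1) h2)

open Classical in
/-- Sub-multiplicativity along an invariant subset and its complement. -/
theorem triples_le_mul [Finite H] [Finite Ω] (U V : SubMulAction H Ω)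
    (hUV : ∀ w, w ∉ U → w ∈ V) :
    Nat.card (Triples H Ω) ≤
      Nat.card (Triples (MulAction.toPermHom H U).range U) *
        Nat.card (Triples (MulAction.toPermHom H U).ker V) := by
  rw [← Nat.card_prod]
  set φ := MulAction.toPermHom H U with hφ
  let o1 : Option Ω → Option U := fun o => o.bind fun w => if hw : w ∈ U then some ⟨w, hw⟩ else none
  let o2 : Option Ω → Option V := fun o =>
    o.bind fun w => if hw : w ∈ U then none else some ⟨w, hUV w hw⟩
  have hinj : ∀ o o', o1 o = o1 o' → o2 o = o2 o' → o = o' := by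
    intro o o' h1 h2
    rcases o with - | w <;> rcases o' with - | w' <;> simp only [o1, o2, Option.bind] at h1 h2
    · rfl
    · by_cases hw : w' ∈ U <;> simp [hw] at h1 h2
    · by_cases hw : w ∈ U <;> simp [hw] at h1 h2
    · by_cases hw : w ∈ U <;> by_cases hw' : w' ∈ U <;>
        simp [hw, hw', Subtype.ext_iff] at h1 h2 <;> simp [*]
  have hfix1 : ∀ t : Triples H Ω, FixO (φ.rangeRestrict t.1.2.1) (o1 t.1.2.2) := by
    intro t b hb
    rcases ht : t.1.2.2 with - | w
    · simp [o1, ht] at hb
    · simp only [o1, ht, Option.bind] at hb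
      by_cases hw : w ∈ U
      · rw [dif_pos hw] at hb
        obtain rfl := Option.some.inj hb
        exact Subtype.ext (t.2.2 w ht)
      · simp [hw] at hb
  have hfix2 : ∀ t : Triples H Ω, FixO t.1.2.1 (o2 t.1.2.2) := by
    intro t b hb
    rcases ht : t.1.2.2 with - | w
    · simp [o2, ht] at hb
    · simp only [o2, ht, Option.bind] at hb
      by_cases hw : w ∈ U
      · simp [hw] at hb
      · rw [dif_neg hw] at hb
        obtain rfl := Option.some.inj hb
        exact Subtype.ext (t.2.2 w ht)
  let x' : φ.range → H → H := fun X y => sel fun g => φ.rangeRestrict g = X ∧ Commute g y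
  let y' : φ.range → H → Option V → H := fun Y m o =>
    sel fun g => φ.rangeRestrict g = Y ∧ Commute m g ∧ FixO g o
  let M : Triples H Ω → H := fun t => (x' (φ.rangeRestrict t.1.1) t.1.2.1)⁻¹ * t.1.1
  let Y : Triples H Ω → H := fun t => y' (φ.rangeRestrict t.1.2.1) (M t) (o2 t.1.2.2)
  have hx : ∀ t : Triples H Ω,
      φ.rangeRestrict (x' (φ.rangeRestrict t.1.1) t.1.2.1) = φ.rangeRestrict t.1.1 ∧
        Commute (x' (φ.rangeRestrict t.1.1) t.1.2.1) t.1.2.1 :=
    fun t => sel_spec (p := fun g => φ.rangeRestrict g = φ.rangeRestrict t.1.1 ∧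
      Commute g t.1.2.1) t.1.1 ⟨rfl, t.2.1⟩
  have hM : ∀ t : Triples H Ω, Commute (M t) t.1.2.1 :=
    fun t => ((hx t).2.inv_left).mul_left t.2.1
  have hy : ∀ t : Triples H Ω, φ.rangeRestrict (Y t) = φ.rangeRestrict t.1.2.1 ∧
      Commute (M t) (Y t) ∧ FixO (Y t) (o2 t.1.2.2) :=
    fun t => sel_spec (p := fun g => φ.rangeRestrict g = φ.rangeRestrict t.1.2.1 ∧
      Commute (M t) g ∧ FixO g (o2 t.1.2.2)) t.1.2.1 ⟨rfl, hM t, hfix2 t⟩
  have hMk : ∀ t, M t ∈ φ.ker := fun t => by
    rw [← φ.ker_rangeRestrict, MonoidHom.mem_ker, map_mul, map_inv, (hx t).1, inv_mul_cancel]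
  have hCk : ∀ t, (Y t)⁻¹ * t.1.2.1 ∈ φ.ker := fun t => by
    rw [← φ.ker_rangeRestrict, MonoidHom.mem_ker, map_mul, map_inv, (hy t).1, inv_mul_cancel]
  let f : Triples H Ω → Triples φ.range U × Triples φ.ker V := fun t =>
    (⟨(φ.rangeRestrict t.1.1, φ.rangeRestrict t.1.2.1, o1 t.1.2.2),
        t.2.1.map φ.rangeRestrict, hfix1 t⟩,
     ⟨(⟨M t, hMk t⟩, ⟨(Y t)⁻¹ * t.1.2.1, hCk t⟩, o2 t.1.2.2),
        Subtype.ext (((hy t).2.1.inv_right).mul_right (hM t)), by
          intro b hb
          show ((Y t)⁻¹ * t.1.2.1) • b = b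
          rw [mul_smul, hfix2 t b hb, inv_smul_eq_iff]
          exact ((hy t).2.2 b hb).symm⟩)
  refine Nat.card_le_card_of_injective f fun s t hst => ?_
  simp only [f, Prod.mk.injEq, Subtype.mk.injEq] at hst
  obtain ⟨⟨hX, hY, h1⟩, hm, hc, h2⟩ := hst
  have hyy : s.1.2.1 = t.1.2.1 := by
    simp only [Y] at hc
    rw [hY, hm, h2] at hc
    exact mul_left_cancel hc
  have hxx : s.1.1 = t.1.1 := by
    simp only [M] at hm
    rw [hX, hyy] at hm
    exact mul_left_cancel hm
  exact Subtype.ext (Prod.ext hxx (Prod.ext hyy (hinj _ _ h1 h2)))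

/-- The weighted class bound. -/
theorem triples_le.{v} (n : ℕ) : ∀ (H : Type v) (Ω : Type v) [Group H] [MulAction H Ω]
    [Finite H] [Finite Ω] [FaithfulSMul H Ω],
    Nat.card Ω = n → Nat.card (Triples H Ω) ≤ Nat.card H * 2 ^ n := by
  induction n using Nat.strong_induction_on with
  | _ n IH =>
    intro H Ω _ _ _ _ _ hn
    classical
    rcases Nat.eq_zero_or_pos n with rfl | hpos
    · have hE : IsEmpty Ω := (Nat.card_eq_zero.1 hn).resolve_right fun h => not_finite Ω
      have : Subsingleton H :=
        ⟨fun g g' => FaithfulSMul.eq_of_smul_eq_smul (α := Ω) fun w => hE.elim w⟩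
      have : Subsingleton (Triples H Ω) := ⟨fun s t => Subtype.ext (Subsingleton.elim _ _)⟩
      rw [pow_zero, mul_one]
      exact (Finite.card_le_one_iff_subsingleton.2 inferInstance).trans Nat.card_pos
    have hne : Nonempty Ω := (Nat.card_pos_iff.1 (hn ▸ hpos)).1
    obtain ⟨a⟩ := hne
    by_cases htr : MulAction.IsPretransitive H Ω
    · have hA : ∀ w : Ω, Nat.card (PairsAt H w) * n ≤ Nat.card H * 2 ^ (n - 1) := by
        intro w
        have hc : Nat.card (SubMulAction.ofStabilizer H w) = n - 1 := by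
          rw [SubMulAction.nat_card_ofStabilizer_eq, hn]
        have hf : FaithfulSMul (MulAction.stabilizer H w) (SubMulAction.ofStabilizer H w) :=
          ⟨fun {g g'} h => Subtype.ext (FaithfulSMul.eq_of_smul_eq_smul (α := Ω) fun x => by
            by_cases hx : x = w
            · subst hx
              exact g.2.trans g'.2.symm
            · exact congrArg Subtype.val (h ⟨x, hx⟩))⟩
        have h1 := IH (n - 1) (Nat.sub_lt hpos one_pos) (MulAction.stabilizer H w)
          (SubMulAction.ofStabilizer H w) hc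
        have h2 : Nat.card (MulAction.stabilizer H w) * n = Nat.card H := by
          rw [← hn, ← MulAction.index_stabilizer_of_transitive H w,
            Subgroup.card_mul_index]
        calc Nat.card (PairsAt H w) * n
            ≤ (Nat.card (MulAction.stabilizer H w) * 2 ^ (n - 1)) * n :=
              Nat.mul_le_mul_right n ((pairsAt_le w).trans h1)
          _ = Nat.card H * 2 ^ (n - 1) := by rw [mul_right_comm, h2]
      have hP : Nat.card {t : H × H // Commute t.1 t.2} ≤ Nat.card H * 2 ^ (n - 1) :=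
        (pairs_le a).trans (by rw [hn, mul_comm]; exact hA a)
      have hS : Nat.card (Σ w : Ω, PairsAt H w) ≤ Nat.card H * 2 ^ (n - 1) := by
        have : Fintype Ω := Fintype.ofFinite Ω
        refine Nat.le_of_mul_le_mul_right ?_ hpos
        rw [Nat.card_sigma, Finset.sum_mul]
        calc ∑ w, Nat.card (PairsAt H w) * n ≤ ∑ _w : Ω, Nat.card H * 2 ^ (n - 1) :=
              Finset.sum_le_sum fun w _ => hA w
          _ = Nat.card H * 2 ^ (n - 1) * n := by
            rw [Finset.sum_const, Finset.card_univ, ← Nat.card_eq_fintype_card, hn,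
              smul_eq_mul, mul_comm]
      have hT : Nat.card (Triples H Ω) ≤
          Nat.card ({t : H × H // Commute t.1 t.2} ⊕ Σ w : Ω, PairsAt H w) := by
        let f : {t : H × H // Commute t.1 t.2} ⊕ (Σ w : Ω, PairsAt H w) → Triples H Ω :=
          Sum.elim (fun t => ⟨(t.1.1, t.1.2, none), t.2, fun b hb => by simp at hb⟩) (fun t =>
            ⟨(t.2.1.1, t.2.1.2, some t.1), t.2.2.1, fun b hb => by
              obtain rfl := Option.some.inj hb; exact t.2.2.2⟩)
        refine Nat.card_le_card_of_surjective f fun t => ?_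
        obtain ⟨⟨x, y, o⟩, hxy, hfx⟩ := t
        rcases o with - | w
        · exact ⟨Sum.inl ⟨(x, y), hxy⟩, rfl⟩
        · exact ⟨Sum.inr ⟨w, (x, y), hxy, hfx w rfl⟩, rfl⟩
      refine hT.trans ?_
      rw [Nat.card_sum]
      refine (Nat.add_le_add hP hS).trans (le_of_eq ?_)
      rw [← mul_add, ← two_mul, ← pow_succ', Nat.sub_add_cancel hpos]
    · let U : SubMulAction H Ω := ⟨MulAction.orbit H a, fun g x hx => by
        rw [← MulAction.orbit_eq_iff.2 hx]; exact MulAction.mem_orbit x g⟩
      let V : SubMulAction H Ω := ⟨(MulAction.orbit H a)ᶜ, fun g x hx h => hx (by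
        rw [← inv_smul_smul g x, ← MulAction.orbit_eq_iff.2 h]
        exact MulAction.mem_orbit _ g⁻¹)⟩
      have hsum : Nat.card U + Nat.card V = n :=
        (Set.ncard_add_ncard_compl (MulAction.orbit H a)).trans hn
      have hU : 0 < Nat.card U :=
        (Nat.card_pos_iff).2 ⟨⟨⟨a, MulAction.mem_orbit_self a⟩⟩, inferInstance⟩
      have hV : 0 < Nat.card V := by
        refine (Nat.card_pos_iff).2 ⟨?_, inferInstance⟩
        by_contra h
        rw [not_nonempty_iff] at h
        have hall : ∀ x, x ∈ MulAction.orbit H a := fun x => by_contra fun hx =>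
          h.false (⟨x, hx⟩ : V)
        refine htr ⟨fun x y => ?_⟩
        obtain ⟨g, rfl⟩ := hall x
        obtain ⟨g', rfl⟩ := hall y
        exact ⟨g' * g⁻¹, by rw [smul_smul, inv_mul_cancel_right]⟩
      set φ := MulAction.toPermHom H U with hφ
      have hf1 : FaithfulSMul φ.range U :=
        ⟨fun {g g'} h => Subtype.ext (Equiv.ext h)⟩
      have hf2 : FaithfulSMul φ.ker V :=
        ⟨fun {g g'} h => Subtype.ext (FaithfulSMul.eq_of_smul_eq_smul (α := Ω) fun x => by
          by_cases hx : x ∈ MulAction.orbit H a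
          · have e1 := congrArg Subtype.val (Equiv.congr_fun (MonoidHom.mem_ker.1 g.2) ⟨x, hx⟩)
            have e2 := congrArg Subtype.val (Equiv.congr_fun (MonoidHom.mem_ker.1 g'.2) ⟨x, hx⟩)
            exact e1.trans e2.symm
          · exact congrArg Subtype.val (h ⟨x, hx⟩))⟩
      have h1 := IH (Nat.card U) (by omega) φ.range U rfl
      have h2 := IH (Nat.card V) (by omega) φ.ker V rfl
      calc Nat.card (Triples H Ω)
          ≤ Nat.card (Triples φ.range U) * Nat.card (Triples φ.ker V) :=
            triples_le_mul U V fun w hw => hw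
        _ ≤ (Nat.card φ.range * 2 ^ Nat.card U) * (Nat.card φ.ker * 2 ^ Nat.card V) :=
            Nat.mul_le_mul h1 h2
        _ = Nat.card H * 2 ^ n := by
            rw [mul_mul_mul_comm, ← pow_add, hsum]
            congr 1
            rw [← Subgroup.card_mul_index φ.ker, Subgroup.index_ker, mul_comm]

/-- A permutation group of degree `n` has at most `2 ^ (n - 1)` conjugacy classes. -/
theorem card_conjClasses_le.{v} (H Ω : Type v) [Group H] [MulAction H Ω] [Finite H] [Finite Ω]
    [FaithfulSMul H Ω] : Nat.card (ConjClasses H) ≤ 2 ^ (Nat.card Ω - 1) := by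
  rcases isEmpty_or_nonempty Ω with hE | ⟨⟨a⟩⟩
  · have : Subsingleton H :=
      ⟨fun g g' => FaithfulSMul.eq_of_smul_eq_smul (α := Ω) fun w => hE.elim w⟩
    refine le_trans (Finite.card_le_one_iff_subsingleton.2 ?_) (Nat.one_le_two_pow)
    exact ⟨fun c d => Quotient.inductionOn₂ c d fun x y => by rw [Subsingleton.elim x y]⟩
  · have h := (two_pairs_le a).trans (triples_le (Nat.card Ω) H Ω rfl)
    rw [card_comm_eq_card_conjClasses_mul_card] at h
    have hn : 0 < Nat.card Ω := Nat.card_pos_iff.2 ⟨⟨a⟩, inferInstance⟩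
    rw [show Nat.card Ω = Nat.card Ω - 1 + 1 by omega, pow_succ'] at h
    refine Nat.le_of_mul_le_mul_left ?_ (Nat.mul_pos two_pos (Nat.card_pos (α := H)))
    calc 2 * Nat.card H * Nat.card (ConjClasses H)
        = 2 * (Nat.card (ConjClasses H) * Nat.card H) := by ring
      _ ≤ Nat.card H * (2 * 2 ^ (Nat.card Ω - 1)) := h
      _ = 2 * Nat.card H * 2 ^ (Nat.card Ω - 1) := by ring

end Cfsg.Agent.Lib.ClassWeight82
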