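import Cfsg.Agent.Lib.JordanType.Conj
import Cfsg.Agent.Lib.GLFlags.CharpolyCount

/-!
`q^n - q^(n-1) ≤ k(GL_n(q)) ≤ q^n`: companion matrices from below; from above a class is encoded by
the products `g_e` of the elementary divisors of exponent `e`, and the number of such sequences is
bounded by induction on the largest exponent.
-/

set_option autoImplicit false
set_option linter.unusedSectionVars false
set_option linter.style.haveILetI false

namespace Cfsg.Agent.Lib.ClassesGLBound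

open Polynomial

universe u

/-! ### Counting -/

/-- Monic polynomials of degree `d` with non-zero constant term. -/
def w (q d : ℕ) : ℕ := if d = 0 then 1 else (q - 1) * q ^ (d - 1)

/-- Sequences of such polynomials of weight `n`, the `i`-th counted `i` times. -/
def kk (q : ℕ) : ℕ → ℕ → ℕ
  | 0, n => if n = 0 then 1 else 0
  | N + 1, n => ∑ d ∈ Finset.range (n / (N + 1) + 1), w q d * kk q N (n - (N + 1) * d)

theorem kk_zero_right (q : ℕ) : ∀ N, kk q N 0 = 1
  | 0 => rfl
  | N + 1 => by simp [kk, w, kk_zero_right q N]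

theorem kk_one (q n : ℕ) : kk q 1 n = w q n := by
  rw [kk, Nat.zero_add, Nat.div_one, Finset.sum_eq_single n]
  · simp [kk]
  · intro d hd hdn
    have := Finset.mem_range.1 hd
    rw [show kk q 0 (n - 1 * d) = 0 from if_neg (by omega), mul_zero]
  · intro h; simp at h

theorem telescope (y : ℝ) {K : ℕ} (hK : 1 ≤ K) :
    ∑ d ∈ Finset.range K, (y ^ (d + 1) - if d + 1 < K then y ^ (d + 2) else 0) = y := by
  have h := Finset.sum_range_sub' (fun d => if d < K then y ^ (d + 1) else 0) K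
  rw [if_pos (by omega), if_neg (lt_irrefl K), sub_zero, zero_add, pow_one] at h
  refine (Finset.sum_congr rfl fun d hd => ?_).trans h
  rw [if_pos (Finset.mem_range.1 hd)]

theorem kk_le {q : ℕ} (hq : 2 ≤ q) :
    ∀ N, 1 ≤ N → ∀ n, 1 ≤ n → (kk q N n : ℝ) ≤ (q : ℝ) ^ n * (1 - (q : ℝ)⁻¹ ^ N) := by
  have hq0 : (0 : ℝ) < q := by exact_mod_cast (by omega : 0 < q)
  have hx0 : (0 : ℝ) ≤ (q : ℝ)⁻¹ := (inv_pos.2 hq0).le
  have hx1 : (q : ℝ)⁻¹ ≤ 1 := inv_le_one_of_one_le₀ (by exact_mod_cast (by omega : 1 ≤ q))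
  intro N hN
  induction N, hN using Nat.le_induction with
  | base =>
    intro n hn
    obtain ⟨m, rfl⟩ : ∃ m, n = m + 1 := ⟨n - 1, by omega⟩
    rw [kk_one, w, if_neg (by omega), Nat.add_sub_cancel, Nat.cast_mul, Nat.cast_pow,
      Nat.cast_sub (by omega), Nat.cast_one, pow_one, pow_succ]
    apply le_of_eq
    field_simp
  | succ N hN ih =>
    intro n hn
    set K := n / (N + 1) with hK
    have hKn : (N + 1) * K ≤ n := Nat.mul_div_le n (N + 1)
    have hy0 : (0 : ℝ) ≤ (q : ℝ)⁻¹ ^ N := pow_nonneg hx0 N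
    have hy1 : (q : ℝ)⁻¹ ^ N ≤ 1 := pow_le_one₀ hx0 hx1
    rw [kk, ← hK, Nat.cast_sum, Finset.sum_range_succ']
    have hterm : ∀ d ∈ Finset.range K,
        ((w q (d + 1) * kk q N (n - (N + 1) * (d + 1)) : ℕ) : ℝ) ≤
          (q : ℝ) ^ n * (1 - (q : ℝ)⁻¹) *
            (((q : ℝ)⁻¹ ^ N) ^ (d + 1) - if d + 1 < K then ((q : ℝ)⁻¹ ^ N) ^ (d + 2) else 0) := by
      intro d hd
      have hdK : d + 1 ≤ K := Finset.mem_range.1 hd
      have hle : (N + 1) * (d + 1) ≤ n := le_trans (Nat.mul_le_mul le_rfl hdK) hKn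
      obtain ⟨r, hr⟩ : ∃ r, n = (N + 1) * (d + 1) + r := ⟨_, (Nat.add_sub_cancel' hle).symm⟩
      have hbd : (kk q N r : ℝ) ≤ (q : ℝ) ^ r *
          (1 - if d + 1 < K then (q : ℝ)⁻¹ ^ N else 0) := by
        rcases Nat.eq_zero_or_pos r with h0 | h0
        · rw [h0, kk_zero_right, if_neg, sub_zero, pow_zero, one_mul, Nat.cast_one]
          intro hlt
          have := Nat.mul_le_mul (le_refl (N + 1)) (show d + 1 + 1 ≤ K from hlt)
          rw [Nat.mul_add, mul_one] at this
          omega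
        · refine (ih r h0).trans (mul_le_mul_of_nonneg_left ?_ (pow_nonneg hq0.le _))
          split_ifs <;> linarith
      rw [show n - (N + 1) * (d + 1) = r by omega, Nat.cast_mul, w, if_neg (by omega),
        Nat.add_sub_cancel, Nat.cast_mul, Nat.cast_pow, Nat.cast_sub (by omega), Nat.cast_one]
      refine (mul_le_mul_of_nonneg_left hbd (mul_nonneg (sub_nonneg.2 (by exact_mod_cast
        (by omega : 1 ≤ q))) (pow_nonneg hq0.le _))).trans (le_of_eq ?_)
      have hexp : (q : ℝ) ^ n * ((q : ℝ)⁻¹ ^ N) ^ (d + 1) = (q : ℝ) ^ (d + 1) * (q : ℝ) ^ r := by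
        rw [← pow_mul, inv_pow, hr, show (N + 1) * (d + 1) + r = N * (d + 1) + ((d + 1) + r) by ring,
          pow_add, pow_add]
        field_simp
      have hsplit : ((q : ℝ)⁻¹ ^ N) ^ (d + 2) = ((q : ℝ)⁻¹ ^ N) ^ (d + 1) * (q : ℝ)⁻¹ ^ N := pow_succ _ _
      have hqd : ((q : ℝ) - 1) * (q : ℝ) ^ d = (1 - (q : ℝ)⁻¹) * (q : ℝ) ^ (d + 1) := by
        rw [pow_succ]; field_simp
      split_ifs
      · rw [hsplit, hqd]
        linear_combination -(1 - (q : ℝ)⁻¹) * (1 - (q : ℝ)⁻¹ ^ N) * hexp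
      · rw [hqd]
        linear_combination -(1 - (q : ℝ)⁻¹) * hexp
    have hfirst : ((w q 0 * kk q N (n - (N + 1) * 0) : ℕ) : ℝ) ≤ (q : ℝ) ^ n * (1 - (q : ℝ)⁻¹ ^ N) := by
      simpa [w] using ih n hn
    refine (add_le_add (Finset.sum_le_sum hterm) hfirst).trans ?_
    rw [← Finset.mul_sum, pow_succ]
    rcases Nat.eq_zero_or_pos K with h0 | h0
    · rw [h0, Finset.range_zero, Finset.sum_empty]
      have hmul : (q : ℝ)⁻¹ ^ N * (q : ℝ)⁻¹ ≤ (q : ℝ)⁻¹ ^ N := mul_le_of_le_one_right hy0 hx1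
      nlinarith [pow_nonneg hq0.le n]
    · rw [telescope _ h0]
      exact le_of_eq (by ring)

theorem kk_le_pow {q : ℕ} (hq : 2 ≤ q) {n : ℕ} (hn : 1 ≤ n) : kk q n n ≤ q ^ n := by
  have h := kk_le hq n hn n hn
  have h1 : (0 : ℝ) ≤ (q : ℝ)⁻¹ ^ n := pow_nonneg (by positivity) n
  have h2 : (0 : ℝ) ≤ (q : ℝ) ^ n := by positivity
  have : (kk q n n : ℝ) ≤ ((q ^ n : ℕ) : ℝ) := by push_cast; nlinarith
  exact_mod_cast this

variable (F : Type u) [Field F] [Fintype F]

/-- Monic of degree `d` with non-zero constant term. -/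
abbrev W (d : ℕ) : Type _ := {g : F[X] // (g.Monic ∧ g.natDegree = d) ∧ g.coeff 0 ≠ 0}

theorem card_W (d : ℕ) : Finite (W F d) ∧ Nat.card (W F d) = w (Fintype.card F) d := by
  rcases Nat.eq_zero_or_pos d with rfl | hd
  · have h : ∀ g : W F 0, g.1 = 1 := fun g => eq_one_of_monic_natDegree_zero g.2.1.1 g.2.1.2
    haveI : Unique (W F 0) :=
      { default := ⟨1, ⟨monic_one, natDegree_one⟩, by simp⟩
        uniq := fun g => Subtype.ext (h g) }
    exact ⟨inferInstance, by rw [Nat.card_unique, w, if_pos rfl]⟩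
  · have hc := GLFlags.CharpolyCount.card_monic_coeff (F := F) (fun c => c ≠ 0) hd
    have hne : Nat.card {c : F // c ≠ 0} = Fintype.card F - 1 := by
      classical
      rw [Nat.card_eq_fintype_card, Fintype.card_subtype_compl, Fintype.card_subtype_eq]
    rw [hne, Nat.card_eq_fintype_card (α := F)] at hc
    have hw : Nat.card (W F d) = w (Fintype.card F) d := by rw [w, if_neg hd.ne']; exact hc
    refine ⟨Nat.finite_of_card_ne_zero ?_, hw⟩
    rw [hw, w, if_neg hd.ne']
    exact Nat.mul_ne_zero (by have := Fintype.one_lt_card (α := F); omega)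
      (pow_ne_zero _ Fintype.card_ne_zero)

/-- Sequences of weight `n`. -/
abbrev T (N n : ℕ) : Type _ :=
  {g : Fin N → F[X] // (∀ i, (g i).Monic ∧ (g i).coeff 0 ≠ 0) ∧
    ∑ i : Fin N, ((i : ℕ) + 1) * (g i).natDegree = n}

theorem card_T : ∀ N n, Finite (T F N n) ∧ Nat.card (T F N n) ≤ kk (Fintype.card F) N n
  | 0, n => by
    refine ⟨inferInstance, ?_⟩
    haveI : Subsingleton (T F 0 n) := inferInstance
    rcases Nat.eq_zero_or_pos n with rfl | hn
    · exact (Finite.card_le_one_iff_subsingleton.2 inferInstance).trans_eq (kk_zero_right _ _).symm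
    · haveI : IsEmpty (T F 0 n) := ⟨fun g => hn.ne' (by simpa using g.2.2.symm)⟩
      simp
  | N + 1, n => by
    haveI : ∀ d : Fin (n / (N + 1) + 1), Finite (W F d × T F N (n - (N + 1) * d)) := fun d => by
      haveI := (card_W F d).1
      haveI := (card_T N (n - (N + 1) * d)).1
      infer_instance
    have hsum : ∀ g : T F (N + 1) n,
        (∑ i : Fin N, ((i : ℕ) + 1) * (g.1 i.castSucc).natDegree) +
          (N + 1) * (g.1 (Fin.last N)).natDegree = n := fun g => by
      have := g.2.2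
      rw [Fin.sum_univ_castSucc] at this
      simpa using this
    let f : T F (N + 1) n → Σ d : Fin (n / (N + 1) + 1), W F d × T F N (n - (N + 1) * d) := fun g =>
      ⟨⟨(g.1 (Fin.last N)).natDegree, Nat.lt_succ_of_le ((Nat.le_div_iff_mul_le (by omega)).2 (by
          have := hsum g; rw [mul_comm]; omega))⟩,
        ⟨g.1 (Fin.last N), ⟨(g.2.1 _).1, rfl⟩, (g.2.1 _).2⟩,
        ⟨fun i => g.1 i.castSucc, fun i => g.2.1 _, by
          have := hsum g
          show (∑ i : Fin N, ((i : ℕ) + 1) * (g.1 i.castSucc).natDegree) =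
            n - (N + 1) * (g.1 (Fin.last N)).natDegree
          omega⟩⟩
    have hf : Function.Injective f := by
      intro g g' h
      let pr : (Σ d : Fin (n / (N + 1) + 1), W F d × T F N (n - (N + 1) * d)) → Fin (N + 1) → F[X] :=
        fun s => Fin.snoc s.2.2.1 s.2.1.1
      have hpr : ∀ x, pr (f x) = x.1 := fun x => Fin.snoc_init_self x.1
      exact Subtype.ext ((hpr g).symm.trans ((congrArg pr h).trans (hpr g')))
    haveI := Finite.of_injective f hf
    refine ⟨inferInstance, (Nat.card_le_card_of_injective f hf).trans ?_⟩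
    rw [Nat.card_sigma, kk, ← Fin.sum_univ_eq_sum_range]
    refine Finset.sum_le_sum fun d _ => ?_
    rw [Nat.card_prod, (card_W F d).2]
    exact Nat.mul_le_mul le_rfl (card_T N _).2

variable {F}

/-! ### The invariant -/

/-- The cyclic module of a key. -/
abbrev Q (k : ℕ × F[X]) : Type _ := F[X] ⧸ Ideal.span {k.2 ^ k.1}

theorem exists_keys {n : ℕ} (A : GL (Fin n) F) :
    ∃ (ι : Type u) (_ : Fintype ι) (key : ι → ℕ × F[X]),
      (∀ i, 1 ≤ (key i).1 ∧ Irreducible (key i).2 ∧ (key i).2.Monic ∧ (key i).2.coeff 0 ≠ 0) ∧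
      ∑ i, (key i).1 * (key i).2.natDegree = n ∧
      Nonempty (Module.AEval' (Matrix.toLin' (A : Matrix (Fin n) (Fin n) F)) ≃ₗ[F[X]]
        (∀ i, Q (key i))) := by
  classical
  set a := Matrix.toLin' (A : Matrix (Fin n) (Fin n) F) with ha
  obtain ⟨ι₀, hι, p, hp, e, ⟨φ₀⟩⟩ :=
    Module.equiv_directSum_of_isTorsion (Module.AEval.isTorsion_of_finiteDimensional F (Fin n → F) a)
  let key₀ : ι₀ → ℕ × F[X] := fun i => (e i, normalize (p i))
  have hspan : ∀ i, (Submodule.span F[X] {p i ^ e i} : Submodule F[X] F[X]) =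
      (Ideal.span {(key₀ i).2 ^ (key₀ i).1} : Ideal F[X]) := fun i =>
    Ideal.span_singleton_eq_span_singleton.2 ((normalize_associated (p i)).symm.pow_pow)
  let φ₁ : Module.AEval' a ≃ₗ[F[X]] (∀ i, Q (key₀ i)) :=
    φ₀.trans ((DirectSum.linearEquivFunOnFintype F[X] ι₀ _).trans
      (LinearEquiv.piCongrRight fun i => Submodule.quotEquivOfEq _ _ (hspan i)))
  let res : (∀ i, Q (key₀ i)) →ₗ[F[X]] (∀ i : {i // e i ≠ 0}, Q (key₀ i)) :=
    LinearMap.pi fun i => LinearMap.proj (i : ι₀)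
  have hsub : ∀ i, e i = 0 → Subsingleton (Q (key₀ i)) := fun i hi =>
    Submodule.Quotient.subsingleton_iff.2 (by
      show Ideal.span {normalize (p i) ^ e i} = ⊤
      rw [hi, pow_zero, Ideal.span_singleton_one])
  have hres : Function.Bijective res := by
    refine ⟨fun x y h => funext fun i => ?_, fun z => ⟨fun i => if h : e i ≠ 0 then z ⟨i, h⟩ else 0,
      funext fun i => dif_pos i.2⟩⟩
    by_cases hi : e i = 0
    · exact @Subsingleton.elim _ (hsub i hi) _ _
    · exact congrFun h ⟨i, hi⟩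
  let φ := φ₁.trans (LinearEquiv.ofBijective res hres)
  let key : {i // e i ≠ 0} → ℕ × F[X] := fun i => key₀ i
  have hkey : ∀ i, 1 ≤ (key i).1 ∧ Irreducible (key i).2 ∧ (key i).2.Monic := fun i =>
    ⟨Nat.one_le_iff_ne_zero.2 i.2, (normalize_associated _).symm.irreducible (hp _),
      monic_normalize (hp _).ne_zero⟩
  have hpow0 : ∀ i, (key i).2 ^ (key i).1 ≠ 0 := fun i => pow_ne_zero _ (hkey i).2.2.ne_zero
  refine ⟨{i // e i ≠ 0}, inferInstance, key,
    fun i => ⟨(hkey i).1, (hkey i).2.1, (hkey i).2.2, ?_⟩, ?_, ⟨φ⟩⟩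
  · intro h0
    have hdvd : (X : F[X]) ∣ (key i).2 ^ (key i).1 :=
      dvd_pow (X_dvd_iff.2 h0) (Nat.one_le_iff_ne_zero.1 (hkey i).1)
    obtain ⟨h, hh⟩ := hdvd
    let m : ∀ j, Q (key j) := Pi.single i (Ideal.Quotient.mk _ h)
    have hm1 : m i = Ideal.Quotient.mk _ h := Pi.single_eq_same _ _
    have hm2 : ∀ j, j ≠ i → m j = 0 := fun j hj => Pi.single_eq_of_ne hj _
    have hm : m ≠ 0 := by
      intro hm
      have hz : (Ideal.Quotient.mk (Ideal.span {(key i).2 ^ (key i).1}) h) = 0 := by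
        rw [← hm1, hm]
        rfl
      rw [Ideal.Quotient.eq_zero_iff_mem, Ideal.mem_span_singleton, hh] at hz
      have hh0 : h ≠ 0 := fun h' => hpow0 i (by rw [hh, h', mul_zero])
      have hdeg := natDegree_le_of_dvd hz hh0
      rw [natDegree_mul X_ne_zero hh0, natDegree_X] at hdeg
      omega
    have hXm : (X : F[X]) • m = 0 := by
      funext j
      by_cases hj : j = i
      · rw [hj]
        show (X : F[X]) • m i = (0 : Q (key i))
        rw [hm1]
        show Ideal.Quotient.mk _ ((X : F[X]) * h) = 0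
        rw [Ideal.Quotient.eq_zero_iff_mem, ← hh]
        exact Ideal.subset_span rfl
      · show (X : F[X]) • m j = (0 : Q (key j))
        rw [hm2 j hj, smul_zero]
    refine hm ?_
    have h1 : (X : F[X]) • φ.symm m = 0 := by rw [← map_smul, hXm, map_zero]
    obtain ⟨v, hv⟩ := (Module.AEval'.of a).surjective (φ.symm m)
    rw [← hv, Module.AEval'.X_smul_of, LinearEquiv.map_eq_zero_iff, ha, Matrix.toLin'_apply] at h1
    have hv0 : v = 0 := Matrix.mulVec_injective_of_isUnit A.isUnit (h1.trans (Matrix.mulVec_zero _).symm)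
    rw [← φ.apply_symm_apply m, ← hv, hv0, map_zero, map_zero]
  · haveI hfin : ∀ i, Module.Finite F (Q (key i)) := fun i =>
      (AdjoinRoot.powerBasis (hpow0 i)).finite
    have h1 := (φ.restrictScalars F).finrank_eq
    rw [Module.finrank_pi_fintype, ← (Module.AEval'.of a).finrank_eq, Module.finrank_fin_fun] at h1
    conv_rhs => rw [h1]
    exact Finset.sum_congr rfl fun i _ =>
      ((finrank_quotient_span_eq_natDegree).trans (natDegree_pow _ _)).symm

/-- The sequence of a family of keys. -/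
noncomputable def tup {ι : Type*} [Fintype ι] (key : ι → ℕ × F[X]) (n : ℕ) (j : Fin n) : F[X] :=
  ∏ i ∈ Finset.univ.filter (fun i => (key i).1 = j + 1), (key i).2

theorem exp_le {ι : Type*} [Fintype ι] {key : ι → ℕ × F[X]}
    (h : ∀ i, 1 ≤ (key i).1 ∧ Irreducible (key i).2 ∧ (key i).2.Monic ∧ (key i).2.coeff 0 ≠ 0)
    {n : ℕ} (hn : ∑ i, (key i).1 * (key i).2.natDegree = n) (i : ι) : (key i).1 ≤ n := by
  rw [← hn]
  refine le_trans ?_ (Finset.single_le_sum (fun _ _ => Nat.zero_le _) (Finset.mem_univ i))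
  exact Nat.le_mul_of_pos_right _ (h i).2.1.natDegree_pos

theorem tup_mem {ι : Type*} [Fintype ι] {key : ι → ℕ × F[X]}
    (h : ∀ i, 1 ≤ (key i).1 ∧ Irreducible (key i).2 ∧ (key i).2.Monic ∧ (key i).2.coeff 0 ≠ 0)
    {n : ℕ} (hn : ∑ i, (key i).1 * (key i).2.natDegree = n) :
    (∀ j, (tup key n j).Monic ∧ (tup key n j).coeff 0 ≠ 0) ∧
      ∑ j : Fin n, ((j : ℕ) + 1) * (tup key n j).natDegree = n := by
  classical
  refine ⟨fun j => ⟨monic_prod_of_monic _ _ fun i _ => (h i).2.2.1, ?_⟩, ?_⟩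
  · rw [tup, coeff_zero_eq_eval_zero, eval_prod]
    exact Finset.prod_ne_zero_iff.2 fun i _ => by rw [← coeff_zero_eq_eval_zero]; exact (h i).2.2.2
  · conv_rhs => rw [← hn, ← Finset.sum_fiberwise Finset.univ
      (fun i => (⟨(key i).1 - 1, by have := exp_le h hn i; have := (h i).1; omega⟩ : Fin n))
      (fun i => (key i).1 * (key i).2.natDegree)]
    refine Finset.sum_congr rfl fun j _ => ?_
    rw [tup, natDegree_prod_of_monic _ _ fun i _ => (h i).2.2.1, Finset.mul_sum]
    refine Finset.sum_congr ?_ fun i hi => ?_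
    · refine Finset.filter_congr fun i _ => ?_
      have := (h i).1
      simp only [Fin.ext_iff]
      omega
    · simp only [Finset.mem_filter, Fin.ext_iff] at hi
      have := (h i).1
      rw [show (j : ℕ) + 1 = (key i).1 by omega]

theorem card_fibre_eq {ι : Type*} [Fintype ι] [DecidableEq F] {key : ι → ℕ × F[X]}
    (h : ∀ i, 1 ≤ (key i).1 ∧ Irreducible (key i).2 ∧ (key i).2.Monic ∧ (key i).2.coeff 0 ≠ 0)
    {n : ℕ} (j : Fin n) (f : F[X]) :
    Fintype.card {i // key i = ((j : ℕ) + 1, f)} =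
      Multiset.count f (UniqueFactorizationMonoid.normalizedFactors (tup key n j)) := by
  classical
  have hmon : ∀ i, normalize (key i).2 = (key i).2 := fun i => (h i).2.2.1.normalize_eq_self
  rw [tup, Finset.prod_eq_multiset_prod, UniqueFactorizationMonoid.normalizedFactors_multiset_prod _
    (fun h0 => by obtain ⟨i, -, hi⟩ := Multiset.mem_map.1 h0; exact (h i).2.1.ne_zero hi),
    Multiset.map_map, Multiset.map_congr rfl (g := fun i => ({(key i).2} : Multiset F[X]))
      fun i _ => by rw [Function.comp_apply,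
        UniqueFactorizationMonoid.normalizedFactors_irreducible (h i).2.1, hmon],
    show ∀ S : Multiset ι, (S.map fun i => ({(key i).2} : Multiset F[X])) =
        (S.map fun i => (key i).2).map fun x => {x} from fun S => by rw [Multiset.map_map]; rfl,
    Multiset.sum_map_singleton, Multiset.count_map, ← Finset.filter_val, Finset.card_val,
    Finset.filter_filter, Fintype.card_subtype]
  exact congrArg _ (Finset.filter_congr fun i _ => by rw [Prod.ext_iff, eq_comm (a := f)])

theorem nonempty_equiv_of_tup {ι κ : Type*} [Fintype ι] [Fintype κ] {key : ι → ℕ × F[X]}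
    {key' : κ → ℕ × F[X]}
    (h : ∀ i, 1 ≤ (key i).1 ∧ Irreducible (key i).2 ∧ (key i).2.Monic ∧ (key i).2.coeff 0 ≠ 0)
    (h' : ∀ i, 1 ≤ (key' i).1 ∧ Irreducible (key' i).2 ∧ (key' i).2.Monic ∧ (key' i).2.coeff 0 ≠ 0)
    {n : ℕ} (hn : ∑ i, (key i).1 * (key i).2.natDegree = n)
    (hn' : ∑ i, (key' i).1 * (key' i).2.natDegree = n) (ht : tup key n = tup key' n) :
    ∃ σ : ι ≃ κ, ∀ i, key' (σ i) = key i := by
  classical
  have hfib : ∀ k, Nonempty ({i // key i = k} ≃ {i // key' i = k}) := by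
    intro k
    refine Fintype.card_eq.1 ?_
    by_cases hk : 1 ≤ k.1 ∧ k.1 ≤ n
    · obtain ⟨j, hj⟩ : ∃ j : Fin n, k = ((j : ℕ) + 1, k.2) :=
        ⟨⟨k.1 - 1, by omega⟩, Prod.ext (by simp; omega) rfl⟩
      rw [hj, card_fibre_eq h, card_fibre_eq h', ht]
    · rw [Fintype.card_eq_zero_iff.2 ⟨fun i => hk ?_⟩, Fintype.card_eq_zero_iff.2 ⟨fun i => hk ?_⟩]
      · rw [← i.2]; exact ⟨(h' _).1, exp_le h' hn' _⟩
      · rw [← i.2]; exact ⟨(h _).1, exp_le h hn _⟩
  refine ⟨Equiv.ofFiberEquiv fun k => (hfib k).some, fun i => ?_⟩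
  exact Equiv.ofFiberEquiv_map (g := key') _ i

theorem card_conjClasses_le {n : ℕ} (hn : 1 ≤ n) :
    Nat.card (ConjClasses (GL (Fin n) F)) ≤ Fintype.card F ^ n := by
  classical
  haveI := (card_T F n n).1
  choose ι hι key hkey hsum hφ using fun C : ConjClasses (GL (Fin n) F) =>
    exists_keys (Quotient.out C)
  letI : ∀ C, Fintype (ι C) := hι
  let f : ConjClasses (GL (Fin n) F) → T F n n := fun C =>
    ⟨tup (key C) n, tup_mem (ι := ι C) (hkey C) (hsum C)⟩
  refine ((Nat.card_le_card_of_injective f fun C C' h => ?_).trans (card_T F n n).2).trans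
    (kk_le_pow Fintype.one_lt_card hn)
  obtain ⟨σ, hσ⟩ := nonempty_equiv_of_tup (hkey C) (hkey C') (hsum C) (hsum C') (congrArg Subtype.val h)
  obtain ⟨φ⟩ := hφ C
  obtain ⟨φ'⟩ := hφ C'
  let ψ := φ.trans ((LinearEquiv.piCongrRight fun i => Submodule.quotEquivOfEq _ _
      (by rw [hσ i])).trans ((LinearEquiv.piCongrLeft F[X] (fun i => Q (key C' i)) σ).trans φ'.symm))
  let e : (Fin n → F) ≃ₗ[F] (Fin n → F) :=
    ((Module.AEval'.of _).trans (ψ.restrictScalars F)).trans (Module.AEval'.of _).symm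
  have he : ∀ v, e (Matrix.toLin' ((Quotient.out C : GL (Fin n) F) : Matrix (Fin n) (Fin n) F) v) =
      Matrix.toLin' ((Quotient.out C' : GL (Fin n) F) : Matrix (Fin n) (Fin n) F) (e v) := fun v => by
    show (Module.AEval'.of _).symm (ψ (Module.AEval'.of _ _)) = _
    refine ((congrArg (fun x => (Module.AEval'.of _).symm (ψ x))
      (Module.AEval'.X_smul_of _ v).symm).trans ?_)
    show (Module.AEval'.of _).symm (ψ ((X : F[X]) • _)) = _
    rw [map_smul, Module.AEval'.of_symm_X_smul]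
    rfl
  obtain ⟨u, hu⟩ := JordanType.isConj_of_intertwine (A := ((Quotient.out C : GL (Fin n) F) :
      Matrix (Fin n) (Fin n) F)) (B := ((Quotient.out C' : GL (Fin n) F) : Matrix (Fin n) (Fin n) F))
    e (fun v => by
      rw [map_sub, map_sub, Matrix.toLin'_one, LinearMap.sub_apply, LinearMap.sub_apply, map_sub, he]
      rfl)
  rw [← Quotient.out_eq C, ← Quotient.out_eq C']
  exact Quotient.sound ⟨toUnits u, Units.ext hu⟩

/-! ### Companion matrices -/

theorem exists_charpoly {n : ℕ} (g : W F n) :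
    ∃ A : GL (Fin n) F, ((A : Matrix (Fin n) (Fin n) F)).charpoly = g.1 := by
  classical
  let h := AdjoinRoot.powerBasis g.2.1.1.ne_zero
  have hdim : h.dim = n := (AdjoinRoot.powerBasis_dim g.2.1.1.ne_zero).trans g.2.1.2
  let A := Matrix.reindex (finCongr hdim) (finCongr hdim) (Algebra.leftMulMatrix h.basis h.gen)
  have hA : A.charpoly = g.1 := by
    rw [Matrix.charpoly_reindex, charpoly_leftMulMatrix]
    exact AdjoinRoot.minpoly_powerBasis_gen_of_monic g.2.1.1
  have hu : IsUnit A.det := isUnit_iff_ne_zero.2 (by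
    rw [Matrix.det_eq_sign_charpoly_coeff, hA]
    exact mul_ne_zero (pow_ne_zero _ (neg_ne_zero.2 one_ne_zero)) g.2.2)
  exact ⟨((Matrix.isUnit_iff_isUnit_det A).2 hu).unit, hA⟩

theorem le_card_conjClasses {n : ℕ} (hn : 1 ≤ n) :
    Fintype.card F ^ n - Fintype.card F ^ (n - 1) ≤ Nat.card (ConjClasses (GL (Fin n) F)) := by
  classical
  choose A hA using exists_charpoly (F := F) (n := n)
  have hinj : Function.Injective (fun g : W F n => ConjClasses.mk (A g)) := fun g g' h => by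
    obtain ⟨c, hc⟩ := isConj_iff.1 (ConjClasses.mk_eq_mk_iff_isConj.1 h)
    apply Subtype.ext
    rw [← hA g, ← hA g', ← hc, Units.val_mul, Units.val_mul, Matrix.coe_units_inv, Matrix.charpoly_units_conj]
  refine le_trans (le_of_eq ?_) (Nat.card_le_card_of_injective _ hinj)
  rw [(card_W F n).2, w, if_neg (by omega)]
  obtain ⟨m, rfl⟩ : ∃ m, n = m + 1 := ⟨n - 1, by omega⟩
  rw [Nat.add_sub_cancel, Nat.sub_mul, one_mul, pow_succ, mul_comm]

end Cfsg.Agent.Lib.ClassesGLBound
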