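import Mathlib
import Cfsg.Agent.S4201
import Cfsg.Agent.S3681

/-!
A permutation group of degree `d` has at most `5 ^ (d - 1)` classes.
-/

set_option autoImplicit false

namespace Cfsg.Agent.Lib.ClassesPermFive

open MulAction Equiv
open scoped Pointwise

/-- The number of classes. -/
noncomputable abbrev k (G : Type*) [Group G] : ℕ := Nat.card (ConjClasses G)

theorem k_congr {G H : Type*} [Group G] [Group H] (e : G ≃* H) : k G = k H :=
  Nat.card_congr
    { toFun := ConjClasses.map e.toMonoidHom
      invFun := ConjClasses.map e.symm.toMonoidHom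
      left_inv := fun C => Quotient.inductionOn C fun a => congrArg ConjClasses.mk (e.symm_apply_apply a)
      right_inv := fun C => Quotient.inductionOn C fun a => congrArg ConjClasses.mk (e.apply_symm_apply a) }

variable {G : Type*} [Group G] [Finite G]

theorem k_le_index_mul (H : Subgroup G) : k G ≤ H.index * k H := by
  classical
  have := Fintype.ofFinite G
  have hle : ∀ g : G, Nat.card {r : G // Commute r g} ≤ H.index * Nat.card {r : H // Commute (r : G) g} := by
    intro g
    set C := Subgroup.centralizer ({g} : Set G) with hC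
    have h1 : Nat.card {r : G // Commute r g} = Nat.card C := Nat.card_congr (Equiv.subtypeEquivRight fun r => by
      simp [hC, Subgroup.mem_centralizer_iff, commute_iff_eq, eq_comm])
    have h2 : Nat.card {r : H // Commute (r : G) g} = Nat.card (H.subgroupOf C) := Nat.card_congr
      { toFun := fun r => ⟨⟨r.1, by simpa [hC, Subgroup.mem_centralizer_iff] using r.2.eq.symm⟩, r.1.2⟩
        invFun := fun r => ⟨⟨r.1.1, r.2⟩, (r.1.2 g rfl).symm⟩
        left_inv := fun r => rfl
        right_inv := fun r => rfl }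
    rw [h1, h2, ← (H.subgroupOf C).index_mul_card]
    exact Nat.mul_le_mul_right _ ((Subgroup.relIndex_le_of_le_right le_top
      (H.relIndex_top_right ▸ H.index_ne_zero_of_finite)).trans_eq H.relIndex_top_right)
  have hpairs : ∀ (P : G → G → Prop), Nat.card {p : H × G // P p.1 p.2} = ∑ h : H, Nat.card {r : G // P h r} := by
    intro P
    rw [← Nat.card_sigma]
    exact Nat.card_congr (Equiv.subtypeProdEquivSigmaSubtype fun (h : H) r => P h r)
  have hG : Nat.card {p : G × G // Commute p.1 p.2} = ∑ g : G, Nat.card {r : G // Commute r g} := by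
    rw [← Nat.card_sigma]
    exact Nat.card_congr (((Equiv.prodComm G G).subtypeEquiv fun p => Iff.rfl).trans
      (Equiv.subtypeProdEquivSigmaSubtype fun g r => Commute r g))
  have hH : Nat.card {p : H × H // Commute p.1 p.2} = ∑ h : H, Nat.card {r : H // Commute (r : G) h} := by
    rw [← Nat.card_sigma]
    exact Nat.card_congr ((((Equiv.prodComm H H).subtypeEquiv fun p => Iff.rfl).trans
      (Equiv.subtypeProdEquivSigmaSubtype fun h r => Commute r h)).trans
      (Equiv.sigmaCongrRight fun h => Equiv.subtypeEquivRight fun r => by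
        simp [commute_iff_eq, Subtype.ext_iff]))
  have hmid : ∑ g : G, Nat.card {r : H // Commute (r : G) g} = ∑ h : H, Nat.card {r : G // Commute r (h : G)} := by
    rw [← hpairs fun h r => Commute r h, ← Nat.card_sigma]
    exact Nat.card_congr ((Equiv.subtypeProdEquivSigmaSubtype fun g (r : H) => Commute (r : G) g).symm.trans
      ((Equiv.prodComm G H).subtypeEquiv fun p => ⟨Commute.symm, Commute.symm⟩))
  have key : Nat.card {p : G × G // Commute p.1 p.2} ≤
      H.index * (H.index * Nat.card {p : H × H // Commute p.1 p.2}) := by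
    rw [hG, hH, Finset.mul_sum]
    refine (Finset.sum_le_sum fun g _ => hle g).trans ?_
    rw [← Finset.mul_sum, hmid]
    exact Nat.mul_le_mul_left _ (Finset.sum_le_sum fun h _ => hle h)
  rw [card_comm_eq_card_conjClasses_mul_card, card_comm_eq_card_conjClasses_mul_card, ← H.index_mul_card] at key
  refine Nat.le_of_mul_le_mul_right (c := H.index * Nat.card H) ?_
    (Nat.mul_pos (Nat.pos_of_ne_zero H.index_ne_zero_of_finite) Nat.card_pos)
  calc k G * (H.index * Nat.card H) ≤ _ := key
    _ = _ := by ring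

theorem k_subgroup_le (H : Subgroup G) : k H ≤ H.index * k G := by
  have hle : Nat.card {p : H × H // Commute p.1 p.2} ≤ Nat.card {p : G × G // Commute p.1 p.2} :=
    Nat.card_le_card_of_injective (fun p => ⟨(p.1.1, p.1.2), congrArg Subtype.val p.2.eq⟩)
      fun a b h => by
        have := congrArg Subtype.val h
        simp only [Prod.mk.injEq] at this
        exact Subtype.ext (Prod.ext (Subtype.ext this.1) (Subtype.ext this.2))
  rw [card_comm_eq_card_conjClasses_mul_card, card_comm_eq_card_conjClasses_mul_card, ← H.index_mul_card] at hle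
  refine Nat.le_of_mul_le_mul_right (c := Nat.card H) ?_ Nat.card_pos
  calc k H * Nat.card H ≤ _ := hle
    _ = _ := by ring

omit [Finite G] in
theorem k_perm_le (α : Type*) [Fintype α] [DecidableEq α] : k (Perm α) ≤ 2 ^ (Fintype.card α - 1) := by
  rw [← composition_card, ← Nat.card_eq_fintype_card]
  refine le_trans ?_ (Nat.card_le_card_of_surjective _ Nat.Partition.ofComposition_surj)
  refine Nat.card_le_card_of_injective (Quotient.lift (fun σ : Perm α => σ.partition) fun a b h =>
    Equiv.Perm.partition_eq_of_isConj.1 h) ?_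
  rintro ⟨a⟩ ⟨b⟩ h
  exact Quotient.sound (Equiv.Perm.partition_eq_of_isConj.2 h)

/-- Bochert: half of the points form a base. -/
theorem exists_small_base {α : Type*} [Fintype α] [DecidableEq α] (R : Subgroup (Perm α))
    (hp : IsPreprimitive R α) (hA : ¬ alternatingGroup α ≤ R) :
    ∃ B : Finset α, 2 * B.card ≤ Fintype.card α ∧ ∀ p ∈ R, (∀ y ∈ B, p y = y) → p = 1 := by
  classical
  obtain ⟨Γ, hΓ, hmax⟩ := Finset.exists_max_image
    (Finset.univ.filter fun s : Finset α => R ⊓ S3681.symOn s = ⊥) Finset.card ⟨∅, by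
      simp only [Finset.mem_filter, Finset.mem_univ, true_and, Subgroup.eq_bot_iff_forall]
      rintro p ⟨_, hp⟩
      ext y
      exact S3681.mem_symOn.1 hp y (Finset.notMem_empty y)⟩
  simp only [Finset.mem_filter, Finset.mem_univ, true_and] at hΓ hmax
  refine ⟨Γᶜ, ?_, fun p hpR hfix => ?_⟩
  swap
  · have hm : p ∈ R ⊓ S3681.symOn Γ := ⟨hpR, S3681.mem_symOn.2 fun y hy => hfix y (by simpa using hy)⟩
    rwa [hΓ, Subgroup.mem_bot] at hm
  rw [Finset.card_compl]
  by_contra hlt
  push Not at hlt
  have hΔ : R ⊓ S3681.symOn Γᶜ ≠ ⊥ := fun h => by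
    have := hmax _ h
    rw [Finset.card_compl] at this
    omega
  obtain ⟨h, hh, hh1⟩ : ∃ h ∈ R ⊓ S3681.symOn Γᶜ, h ≠ 1 := by
    rw [Ne, Subgroup.eq_bot_iff_forall] at hΔ
    push Not at hΔ
    exact hΔ
  obtain ⟨x, hx⟩ : ∃ x, h x ≠ x := by
    by_contra hc
    push Not at hc
    exact hh1 (Equiv.ext hc)
  have hxΓ : x ∉ Γ := fun hm => hx (S3681.mem_symOn.1 hh.2 x (by simpa using hm))
  obtain ⟨g, hg, hg1⟩ : ∃ g ∈ R ⊓ S3681.symOn (insert x Γ), g ≠ 1 := by
    have hne : R ⊓ S3681.symOn (insert x Γ) ≠ ⊥ := fun h => by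
      have := hmax _ h
      rw [Finset.card_insert_of_notMem hxΓ] at this
      omega
    rw [Ne, Subgroup.eq_bot_iff_forall] at hne
    push Not at hne
    exact hne
  have hgx : g x ≠ x := fun hfx => hg1 <| by
    have : g ∈ R ⊓ S3681.symOn Γ := ⟨hg.1, S3681.mem_symOn.2 fun y hy => by
      by_cases hyx : y = x
      · rw [hyx, hfx]
      · exact S3681.mem_symOn.1 hg.2 y (by simp [hyx, hy])⟩
    rwa [hΓ, Subgroup.mem_bot] at this
  have h3 := S3681.commutator_threeCycle g h x hgx hx fun y hyx => by
    by_cases hy : y ∈ Γ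
    · exact Or.inr (S3681.mem_symOn.1 hh.2 y (by simpa using hy))
    · exact Or.inl (S3681.mem_symOn.1 hg.2 y (by simp [hyx, hy]))
  exact hA (Equiv.Perm.alternatingGroup_le_of_isPreprimitive_of_isThreeCycle_mem hp h3
    (mul_mem (mul_mem (mul_mem hg.1 hh.1) (inv_mem hg.1)) (inv_mem hh.1)))

/-- The bound, with a fixed partition. -/
def Bound (d : ℕ) : Prop :=
  ∀ (G : Type) [Group G] [Finite G] (α : Type) [Fintype α] (f : G →* Perm α), Function.Injective f →
    Fintype.card α = d → ∀ (M : Type) (c : α → M), (∀ g x, c (f g x) = c x) →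
      k G ≤ 5 ^ (d - Nat.card (Set.range c))

omit [Finite G] in
theorem card_range_const {α M : Type*} [Finite α] (c : α → M) (h : ∀ x y, c x = c y) :
    Nat.card (Set.range c) ≤ 1 := by
  refine Finite.card_le_one_iff_subsingleton.2 ⟨?_⟩
  rintro ⟨_, x, rfl⟩ ⟨_, y, rfl⟩
  exact Subtype.ext (h x y)

/-- At least two parts. -/
theorem split {d : ℕ} (IH : ∀ e < d, Bound e) (G : Type) [Group G] [Finite G] (α : Type) [Fintype α]
    (f : G →* Perm α) (hf : Function.Injective f) (hd : Fintype.card α = d) (M : Type) (c : α → M)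
    (hc : ∀ g x, c (f g x) = c x) (hM : 2 ≤ Nat.card (Set.range c)) :
    k G ≤ 5 ^ (d - Nat.card (Set.range c)) := by
  classical
  obtain ⟨a₀⟩ : Nonempty α := by
    by_contra hne
    rw [not_nonempty_iff] at hne
    rw [Set.range_eq_empty, Nat.card_of_isEmpty] at hM
    omega
  set P := fun x => c x = c a₀ with hP
  have hinv : ∀ g x, P (f g x) ↔ P x := fun g x => by simp [hP, hc]
  have hinv' : ∀ g x, ¬ P (f g x) ↔ ¬ P x := fun g x => not_congr (hinv g x)
  let r : G →* Perm {x // P x} :=
    { toFun := fun g => (f g).subtypePerm (hinv g)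
      map_one' := Equiv.ext fun x => Subtype.ext (by simp)
      map_mul' := fun g h => Equiv.ext fun x => Subtype.ext (congrArg (fun p : Perm α => p x) (map_mul f g h)) }
  let r' : ↥r.ker →* Perm {x // ¬ P x} :=
    { toFun := fun g => (f g).subtypePerm (hinv' g)
      map_one' := Equiv.ext fun x => Subtype.ext (by simp)
      map_mul' := fun g h => Equiv.ext fun x => Subtype.ext
        (congrArg (fun p : Perm α => p x) (map_mul (f.comp r.ker.subtype) g h)) }
  have hr' : Function.Injective r' := by
    intro g h e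
    refine Subtype.ext (hf (Equiv.ext fun x => ?_))
    by_cases hx : P x
    · have e1 := congrArg (fun p : Perm {x // P x} => (p ⟨x, hx⟩ : α)) g.2
      have e2 := congrArg (fun p : Perm {x // P x} => (p ⟨x, hx⟩ : α)) h.2
      simp only [r, MonoidHom.coe_mk, OneHom.coe_mk, Perm.subtypePerm_apply, Perm.coe_one, id_eq] at e1 e2
      rw [e1, e2]
    · exact congrArg (fun p : Perm {x // ¬ P x} => (p ⟨x, hx⟩ : α)) e
  obtain ⟨b, hb⟩ : ∃ b, ¬ P b := by
    by_contra hall
    push Not at hall
    have := card_range_const c fun x y => (hall x).trans (hall y).symm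
    omega
  have hlt1 : Fintype.card {x // P x} < d := hd ▸ Fintype.card_subtype_lt (p := P) hb
  have hlt2 : Fintype.card {x // ¬ P x} < d :=
    hd ▸ Fintype.card_subtype_lt (p := fun x => ¬ P x) (x := a₀) (not_not.2 rfl)
  have h1 := IH _ hlt1 ↥r.range {x // P x} r.range.subtype r.range.subtype_injective rfl Unit (fun _ => ())
    (fun _ _ => rfl)
  have h2 := IH _ hlt2 ↥r.ker {x // ¬ P x} r' hr' rfl M (fun x => c x) (fun g x => hc _ _)
  have h3 := Cfsg.Agent.S4201.result r.ker
  rw [show Nat.card (ConjClasses (G ⧸ r.ker)) = k ↥r.range from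
    k_congr (QuotientGroup.quotientKerEquivRange r)] at h3
  refine h3.trans ((Nat.mul_le_mul h2 h1).trans ?_)
  rw [← pow_add]
  refine Nat.pow_le_pow_right (by norm_num) ?_
  have : Nonempty {x // P x} := ⟨⟨a₀, rfl⟩⟩
  have hr1 : Nat.card (Set.range fun _ : {x // P x} => ()) = 1 := by
    rw [Set.range_const, Nat.card_coe_set_eq, Set.ncard_singleton]
  have hr2 : Nat.card (Set.range c) ≤ Nat.card (Set.range fun x : {x // ¬ P x} => c x) + 1 := by
    rw [Nat.card_coe_set_eq, Nat.card_coe_set_eq]
    refine le_trans (Set.ncard_le_ncard (t := insert (c a₀) (Set.range fun x : {x // ¬ P x} => c x)) ?_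
      ((Set.finite_range _).insert _)) (Set.ncard_insert_le _ _)
    rintro _ ⟨x, rfl⟩
    by_cases hx : P x
    · exact Or.inl hx
    · exact Or.inr ⟨⟨x, hx⟩, rfl⟩
  have hr3 : Nat.card (Set.range fun x : {x // ¬ P x} => c x) ≤ Fintype.card {x // ¬ P x} :=
    (Nat.card_le_card_of_surjective _ Set.rangeFactorization_surjective).trans_eq Nat.card_eq_fintype_card
  have hr4 : 1 ≤ Fintype.card {x // P x} := Fintype.card_pos
  have hsum : Fintype.card {x // P x} + Fintype.card {x // ¬ P x} = d := by
    rw [← Fintype.card_sum, ← hd]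
    exact Fintype.card_congr (Equiv.sumCompl P)
  omega

theorem two_pow_mul_five_pow {n l : ℕ} (hl : 2 * l ≤ n) (hl1 : 1 ≤ l) :
    2 ^ n * 5 ^ (l - 1) ≤ 5 ^ (n - 1) := by
  obtain ⟨m, rfl⟩ : ∃ m, n = 2 * l + m := ⟨n - 2 * l, by omega⟩
  obtain ⟨j, rfl⟩ : ∃ j, l = j + 1 := ⟨l - 1, by omega⟩
  rw [show 2 * (j + 1) + m - 1 = (j + 1) + j + m by omega, Nat.add_sub_cancel, pow_add, pow_mul, pow_add, pow_add]
  calc (2 ^ 2) ^ (j + 1) * 2 ^ m * 5 ^ j ≤ 5 ^ (j + 1) * 5 ^ m * 5 ^ j := by
        gcongr <;> norm_num
    _ = 5 ^ (j + 1 + j) * 5 ^ m := by ring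

theorem bound : ∀ d, Bound d := by
  intro d
  induction d using Nat.strong_induction_on with
  | _ d IH =>
  intro G _ _ α _ f hf hd M c hc
  classical
  by_cases h2 : 2 ≤ Nat.card (Set.range c)
  · exact split IH G α f hf hd M c hc h2
  refine le_trans ?_ (Nat.pow_le_pow_right (by norm_num) (show d - 1 ≤ d - Nat.card (Set.range c) by omega))
  rcases isEmpty_or_nonempty α with hne | ⟨⟨a⟩⟩
  · have : Subsingleton G := ⟨fun x y => hf (Subsingleton.elim _ _)⟩
    rw [← Nat.card_unique (α := Unit)]
    refine le_trans (Nat.card_le_card_of_surjective ConjClasses.mk ConjClasses.mk_surjective) ?_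
    refine (Finite.card_le_one_iff_subsingleton.2 inferInstance).trans ?_
    exact Nat.one_le_pow _ _ (by norm_num)
  by_cases htr : ∀ x, ∃ g, f g a = x
  swap
  · push Not at htr
    obtain ⟨x, hx⟩ := htr
    let c' : α → Prop := fun y => ∃ g, f g a = y
    have hinv : ∀ g y, c' (f g y) = c' y := fun g y => propext
      ⟨fun ⟨h, hh⟩ => ⟨g⁻¹ * h, by rw [map_mul, Perm.mul_apply, hh, ← Perm.mul_apply, ← map_mul, inv_mul_cancel,
        map_one, Perm.one_apply]⟩,
       fun ⟨h, hh⟩ => ⟨g * h, by rw [map_mul, Perm.mul_apply, hh]⟩⟩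
    have h2' : 2 ≤ Nat.card (Set.range c') := by
      have hne : c' x ≠ c' a := fun e => by
        obtain ⟨g, hg⟩ : c' x := e.symm ▸ (show c' a from ⟨1, by simp⟩)
        exact hx g hg
      rw [Nat.card_coe_set_eq]
      exact (Set.ncard_pair hne).symm.le.trans (Set.ncard_le_ncard (by
        rintro y (rfl | rfl) <;> exact Set.mem_range_self _))
    exact (split IH G α f hf hd Prop c' hinv h2').trans (Nat.pow_le_pow_right (by norm_num) (by omega))
  set R := f.range with hR
  rw [k_congr (MonoidHom.ofInjective hf)]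
  have : IsPretransitive R α := ⟨fun x y => by
    obtain ⟨g, hg⟩ := htr x
    obtain ⟨h, hh⟩ := htr y
    refine ⟨⟨f (h * g⁻¹), _, rfl⟩, ?_⟩
    show f (h * g⁻¹) x = y
    rw [← hg, ← Perm.mul_apply, ← map_mul, mul_assoc, inv_mul_cancel, mul_one, hh]⟩
  by_cases hprim : IsPreprimitive R α
  · by_cases hA : alternatingGroup α ≤ R
    · rcases Nat.lt_or_ge d 2 with hd2 | hd2
      · have : Subsingleton α := Fintype.card_le_one_iff_subsingleton.1 (by omega)
        refine le_trans (Nat.card_le_card_of_surjective ConjClasses.mk ConjClasses.mk_surjective) ?_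
        exact (Finite.card_le_one_iff_subsingleton.2 inferInstance).trans (Nat.one_le_pow _ _ (by norm_num))
      have : Nontrivial α := Fintype.one_lt_card_iff_nontrivial.1 (by omega)
      have hi : R.index ≤ 2 := Nat.le_of_dvd two_pos
        ((Subgroup.index_dvd_of_le hA).trans (by rw [alternatingGroup.index_eq_two]))
      calc k R ≤ R.index * k (Perm α) := k_subgroup_le R
        _ ≤ 2 * 2 ^ (d - 1) := Nat.mul_le_mul hi (hd ▸ k_perm_le α)
        _ ≤ 5 ^ (d - 1) := by
          obtain ⟨m, rfl⟩ : ∃ m, d = m + 2 := ⟨d - 2, by omega⟩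
          rw [show m + 2 - 1 = m + 1 by omega, pow_succ, pow_succ]
          calc 2 * (2 ^ m * 2) = 4 * 2 ^ m := by ring
            _ ≤ 5 * 5 ^ m := Nat.mul_le_mul (by norm_num) (Nat.pow_le_pow_left (by norm_num) m)
            _ = 5 ^ m * 5 := mul_comm _ _
    · obtain ⟨B, hB, hfix⟩ := exists_small_base R hprim hA
      rcases Nat.eq_zero_or_pos B.card with hB0 | hB1
      · have hsub : Subsingleton R := ⟨fun x y => Subtype.ext (by
          rw [hfix _ x.2 fun z hz => absurd (Finset.card_eq_zero.1 hB0 ▸ hz) (Finset.notMem_empty z),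
            hfix _ y.2 fun z hz => absurd (Finset.card_eq_zero.1 hB0 ▸ hz) (Finset.notMem_empty z)])⟩
        refine le_trans (Nat.card_le_card_of_surjective ConjClasses.mk ConjClasses.mk_surjective) ?_
        exact (Finite.card_le_one_iff_subsingleton.2 inferInstance).trans (Nat.one_le_pow _ _ (by norm_num))
      let T : R → Finset α := fun g => B.image (g : Perm α)
      let H : Subgroup R :=
        { carrier := {g | ∀ y, (g : Perm α) y ∈ B ↔ y ∈ B}
          one_mem' := fun y => by simp
          mul_mem' := fun {g h} hg hh y => by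
            rw [Subgroup.coe_mul, Perm.mul_apply, hg, hh]
          inv_mem' := fun {g} hg y => by
            conv_rhs => rw [show y = (g : Perm α) (((g⁻¹ : R) : Perm α) y) by simp, hg]
            }
      have hidx : H.index ≤ 2 ^ d := by
        rw [← hd, ← Fintype.card_finset, ← Nat.card_eq_fintype_card, Subgroup.index]
        refine Nat.card_le_card_of_injective (Quotient.lift T fun g h e => ?_) ?_
        · have e' : g⁻¹ * h ∈ H := QuotientGroup.leftRel_apply.1 e
          ext y
          simp only [T, Finset.mem_image]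
          constructor
          · rintro ⟨z, hz, rfl⟩
            refine ⟨((h⁻¹ * g : R) : Perm α) z, ?_, by simp⟩
            have := (inv_mem e' : (g⁻¹ * h)⁻¹ ∈ H) z
            rw [mul_inv_rev, inv_inv] at this
            exact this.2 hz
          · rintro ⟨z, hz, rfl⟩
            exact ⟨((g⁻¹ * h : R) : Perm α) z, (e' z).2 hz, by simp⟩
        · rintro ⟨g⟩ ⟨h⟩ e
          refine Quotient.sound (QuotientGroup.leftRel_apply.2 fun y => ?_)
          have e' : B.image (g : Perm α) = B.image (h : Perm α) := e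
          constructor
          · intro hy
            have : (h : Perm α) y ∈ B.image (h : Perm α) := e' ▸ Finset.mem_image.2 ⟨_, hy, by simp⟩
            obtain ⟨z, hz, hzy⟩ := Finset.mem_image.1 this
            exact (h : Perm α).injective hzy ▸ hz
          · intro hy
            have : (h : Perm α) y ∈ B.image (g : Perm α) := e'.symm ▸ Finset.mem_image_of_mem _ hy
            obtain ⟨z, hz, hzy⟩ := Finset.mem_image.1 this
            simpa [← hzy] using hz
      let ρ : H →* Perm {y // y ∈ B} :=
        { toFun := fun g => ((g : R) : Perm α).subtypePerm g.2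
          map_one' := Equiv.ext fun x => Subtype.ext (by simp)
          map_mul' := fun g h => Equiv.ext fun x => Subtype.ext rfl }
      have hρ : Function.Injective ρ := (injective_iff_map_eq_one _).2 fun g hg =>
        Subtype.ext (Subtype.ext (hfix _ (g : R).2 fun y hy =>
          congrArg (fun p : Perm {y // y ∈ B} => (p ⟨y, hy⟩ : α)) hg))
      have hBd : Fintype.card {y // y ∈ B} = B.card := Fintype.card_coe B
      have := IH B.card (by omega) H {y // y ∈ B} ρ hρ hBd Unit (fun _ => ()) (fun _ _ => rfl)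
      have : Nonempty {y // y ∈ B} := by
        obtain ⟨y, hy⟩ := Finset.card_pos.1 hB1
        exact ⟨⟨y, hy⟩⟩
      rw [Set.range_const, Nat.card_coe_set_eq, Set.ncard_singleton] at *
      calc k R ≤ H.index * k H := k_le_index_mul H
        _ ≤ 2 ^ d * 5 ^ (B.card - 1) := Nat.mul_le_mul hidx (by assumption)
        _ ≤ 5 ^ (d - 1) := two_pow_mul_five_pow (hd ▸ hB) hB1
  · obtain ⟨B, hB, hBt⟩ : ∃ B : Set α, IsBlock R B ∧ ¬ IsTrivialBlock B := by
      by_contra hcon
      push Not at hcon
      exact hprim { isTrivialBlock_of_isBlock := fun {B} hB => hcon B hB }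
    rw [IsTrivialBlock, not_or] at hBt
    obtain ⟨⟨p, hp, q, hq, hpq⟩, hBu⟩ : (∃ p ∈ B, ∃ q ∈ B, p ≠ q) ∧ B ≠ Set.univ := by
      refine ⟨?_, hBt.2⟩
      have := hBt.1
      rw [Set.not_subsingleton_iff] at this
      exact this
    choose t ht using fun x => exists_smul_eq R p x
    let c' : α → orbit R B := fun x => ⟨t x • B, mem_orbit _ _⟩
    have huniq : ∀ (g : R) x, x ∈ g • B → t x • B = g • B := fun g x hx => by
      by_contra hne
      exact Set.disjoint_left.1 (hB.smul_eq_smul_or_disjoint (t x) g |>.resolve_left hne)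
        ⟨p, hp, ht x⟩ hx
    have hcov : ∀ g : R, ∀ x, c' (g • x) = g • c' x := fun g x => Subtype.ext (by
      show t (g • x) • B = g • t x • B
      rw [smul_smul]
      exact huniq _ _ ⟨p, hp, show (g * t x) • p = g • x by rw [mul_smul, ht]⟩)
    let ψ := MulAction.toPermHom R (orbit R B)
    have hsurj : Function.Surjective c' := by
      rintro ⟨_, g, rfl⟩
      exact ⟨g • p, Subtype.ext (huniq _ _ ⟨p, hp, rfl⟩)⟩
    have hlt : Fintype.card (orbit R B) < d := by
      refine hd ▸ Fintype.card_lt_of_surjective_not_injective c' hsurj fun hi => hpq (hi (Subtype.ext ?_))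
      show t p • B = t q • B
      rw [huniq 1 p (by rwa [one_smul]), huniq 1 q (by rwa [one_smul])]
    have h2' : 2 ≤ Nat.card (Set.range c') := by
      rw [hsurj.range_eq, Nat.card_congr (Equiv.Set.univ _), Nat.card_eq_fintype_card]
      by_contra hlt2
      have : Subsingleton (orbit R B) := Fintype.card_le_one_iff_subsingleton.1 (by omega)
      refine hBu (Set.eq_univ_of_forall fun x => ?_)
      have e := congrArg Subtype.val (Subsingleton.elim (c' x) ⟨(1 : R) • B, mem_orbit _ _⟩)
      have hx : x ∈ t x • B := ⟨p, hp, ht x⟩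
      rwa [show t x • B = B from e.trans (one_smul _ _)] at hx
    have h1 := IH _ hlt ↥ψ.range (orbit R B) ψ.range.subtype ψ.range.subtype_injective rfl Unit (fun _ => ())
      (fun _ _ => rfl)
    have h2 := split IH ↥ψ.ker α (R.subtype.comp ψ.ker.subtype)
      (R.subtype_injective.comp ψ.ker.subtype_injective) hd _ c'
      (fun g x => (hcov g.1 x).trans (congrArg (fun σ : Perm (orbit R B) => σ (c' x)) g.2)) h2'
    have h3 := Cfsg.Agent.S4201.result ψ.ker
    rw [show Nat.card (ConjClasses (R ⧸ ψ.ker)) = k ↥ψ.range from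
      k_congr (QuotientGroup.quotientKerEquivRange ψ)] at h3
    refine h3.trans ((Nat.mul_le_mul h2 h1).trans ?_)
    rw [← pow_add, hsurj.range_eq, Nat.card_congr (Equiv.Set.univ _), Nat.card_eq_fintype_card]
    refine Nat.pow_le_pow_right (by norm_num) ?_
    have : Nonempty (orbit R B) := ⟨c' p⟩
    rw [Set.range_const, Nat.card_coe_set_eq, Set.ncard_singleton]
    have : 0 < Fintype.card (orbit R B) := Fintype.card_pos
    omega

end Cfsg.Agent.Lib.ClassesPermFive
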