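import Mathlib

/-!
Every square matrix over a field is similar to its transpose: an endomorphism is self-adjoint for some
non-degenerate bilinear form (Taussky–Zassenhaus).
-/

set_option autoImplicit false

namespace Cfsg.Agent.Lib.TransposeConj

open Polynomial Module

universe u

variable {F : Type u} [Field F]

/-- On `F[X]/(f)` some linear functional kills no non-zero ideal. -/
theorem exists_frobenius_functional {f : F[X]} (hf : f ≠ 0) :
    ∃ l : (F[X] ⧸ Ideal.span {f}) →ₗ[F] F, ∀ x, (∀ y, l (x * y) = 0) → x = 0 := by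
  classical
  rcases Nat.eq_zero_or_pos f.natDegree with hd | hd
  · refine ⟨0, fun x _ => ?_⟩
    have hu : IsUnit f := Polynomial.isUnit_iff_degree_eq_zero.2 (by rw [degree_eq_natDegree hf, hd]; rfl)
    have : Subsingleton (F[X] ⧸ Ideal.span {f}) :=
      Ideal.Quotient.subsingleton_iff.2 (Ideal.span_singleton_eq_top.2 hu)
    exact Subsingleton.elim _ _
  set f₁ := f * C f.leadingCoeff⁻¹ with hf₁
  have hmon : f₁.Monic := monic_mul_leadingCoeff_inv hf
  have hspan : Ideal.span {f} = Ideal.span {f₁} := by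
    refine Ideal.span_singleton_eq_span_singleton.2 ?_
    rw [hf₁]
    exact (associated_mul_unit_right f _ (isUnit_C.2 (isUnit_iff_ne_zero.2 (by simpa using hf))))
  have hdeg : f₁.natDegree = f.natDegree := natDegree_mul_C (by simpa using hf)
  let d := f₁.natDegree
  let raw : F[X] →ₗ[F] F := (lcoeff F (d - 1)).comp (Polynomial.modByMonicHom f₁)
  have hker : (Submodule.restrictScalars F (Ideal.span {f})) ≤ LinearMap.ker raw := by
    intro x hx
    rw [Submodule.restrictScalars_mem, hspan, Ideal.mem_span_singleton] at hx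
    rw [LinearMap.mem_ker]
    show (x %ₘ f₁).coeff (d - 1) = 0
    rw [(modByMonic_eq_zero_iff_dvd hmon).2 hx, coeff_zero]
  let l : (F[X] ⧸ Ideal.span {f}) →ₗ[F] F :=
    ((Submodule.restrictScalars F (Ideal.span {f})).liftQ raw hker).comp
      (Submodule.Quotient.restrictScalarsEquiv F (Ideal.span {f})).symm.toLinearMap
  have hl : ∀ g : F[X], l (Ideal.Quotient.mk _ g) = (g %ₘ f₁).coeff (d - 1) := fun g => rfl
  refine ⟨l, fun x hx => ?_⟩
  obtain ⟨g, rfl⟩ := Ideal.Quotient.mk_surjective x
  by_contra hne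
  have hr : g %ₘ f₁ ≠ 0 := fun h => hne (by
    rw [Ideal.Quotient.eq_zero_iff_mem, hspan, Ideal.mem_span_singleton]
    exact (modByMonic_eq_zero_iff_dvd hmon).1 h)
  have hlt : (g %ₘ f₁).natDegree < d := natDegree_modByMonic_lt g hmon (fun h => by
    rw [h, natDegree_one] at hdeg
    omega)
  have h := hx (Ideal.Quotient.mk _ (X ^ (d - 1 - (g %ₘ f₁).natDegree)))
  rw [← map_mul, hl] at h
  have h2 : (g * X ^ (d - 1 - (g %ₘ f₁).natDegree)) %ₘ f₁
      = (g %ₘ f₁) * X ^ (d - 1 - (g %ₘ f₁).natDegree) := by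
    refine (modByMonic_eq_of_dvd_sub hmon ?_).trans ((modByMonic_eq_self_iff hmon).2 (degree_lt_degree ?_))
    · refine ⟨(g /ₘ f₁) * X ^ (d - 1 - (g %ₘ f₁).natDegree), ?_⟩
      linear_combination (-(X : F[X]) ^ (d - 1 - (g %ₘ f₁).natDegree)) * modByMonic_add_div g f₁
    · rw [natDegree_mul_X_pow _ hr]
      omega
  rw [h2, coeff_mul_X_pow', if_pos (by omega),
    show d - 1 - (d - 1 - (g %ₘ f₁).natDegree) = (g %ₘ f₁).natDegree by omega] at h
  exact hr (leadingCoeff_eq_zero.1 h)

/-- Every endomorphism is self-adjoint for a bilinear form with trivial left kernel. -/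
theorem exists_selfAdjoint_form {V : Type u} [AddCommGroup V] [Module F V] [FiniteDimensional F V]
    (T : Module.End F V) :
    ∃ b : V →ₗ[F] V →ₗ[F] F, (∀ x y, b (T x) y = b x (T y)) ∧ ∀ x, (∀ y, b x y = 0) → x = 0 := by
  classical
  have htor : Module.IsTorsion F[X] (Module.AEval' T) := Module.AEval.isTorsion_of_finiteDimensional F V T
  obtain ⟨ι, fι, p, hp, e, ⟨Φ⟩⟩ := Module.equiv_directSum_of_isTorsion htor
  choose l hl using fun i => exists_frobenius_functional (f := p i ^ e i) (pow_ne_zero _ (hp i).ne_zero)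
  let ψ : (i : ι) → V →ₗ[F] (F[X] ⧸ Ideal.span {p i ^ e i}) := fun i =>
    ((DirectSum.component F[X] ι (fun i => F[X] ⧸ Ideal.span {p i ^ e i}) i).restrictScalars F).comp
      ((Φ.toLinearMap.restrictScalars F).comp (Module.AEval'.of T).toLinearMap)
  have hψT : ∀ i x, ψ i (T x) = Ideal.Quotient.mk _ X * ψ i x := by
    intro i x
    show DirectSum.component F[X] ι (fun i => F[X] ⧸ Ideal.span {p i ^ e i}) i (Φ (Module.AEval'.of T (T x))) = _
    rw [← Module.AEval'.X_smul_of]
    erw [map_smul, map_smul]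
    rfl
  let b : V →ₗ[F] V →ₗ[F] F :=
    ∑ i, ((LinearMap.mul F (F[X] ⧸ Ideal.span {p i ^ e i})).compl₁₂ (ψ i) (ψ i)).compr₂ (l i)
  have hb : ∀ x y, b x y = ∑ i, l i (ψ i x * ψ i y) := by
    intro x y
    simp [b, LinearMap.sum_apply]
  refine ⟨b, fun x y => ?_, fun x hx => ?_⟩
  · rw [hb, hb]
    refine Finset.sum_congr rfl fun i _ => ?_
    rw [hψT, hψT, mul_assoc, mul_left_comm]
  · have hsurj : ∀ i (z : F[X] ⧸ Ideal.span {p i ^ e i}), ∃ y, ψ i y = z ∧ ∀ j, j ≠ i → ψ j y = 0 := by
      intro i z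
      refine ⟨(Module.AEval'.of T).symm (Φ.symm (DirectSum.lof F[X] ι
        (fun i => F[X] ⧸ Ideal.span {p i ^ e i}) i z)), ?_, fun j hj => ?_⟩
      · show DirectSum.component F[X] ι (fun i => F[X] ⧸ Ideal.span {p i ^ e i}) i
          (Φ (Module.AEval'.of T _)) = z
        rw [LinearEquiv.apply_symm_apply]
        erw [LinearEquiv.apply_symm_apply]
        exact DirectSum.component.lof_self _ _ _
      · show DirectSum.component F[X] ι (fun i => F[X] ⧸ Ideal.span {p i ^ e i}) j
          (Φ (Module.AEval'.of T _)) = 0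
        rw [LinearEquiv.apply_symm_apply]
        erw [LinearEquiv.apply_symm_apply]
        exact (DirectSum.component.of F[X] (M := fun i => F[X] ⧸ Ideal.span {p i ^ e i}) j i z).trans (dif_neg fun h => hj h.symm)
    have hzero : ∀ i, ψ i x = 0 := by
      intro i
      refine hl i _ fun z => ?_
      obtain ⟨y, hy, hy'⟩ := hsurj i z
      have h := hx y
      rw [hb, Finset.sum_eq_single i (fun j _ hj => by rw [hy' j hj, mul_zero, map_zero]) (by simp), hy] at h
      exact h
    have h0 : Φ (Module.AEval'.of T x) = 0 := DirectSum.ext_component F[X] fun i => by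
      rw [map_zero]
      exact hzero i
    rw [LinearEquiv.map_eq_zero_iff, LinearEquiv.map_eq_zero_iff] at h0
    exact h0

/-- Every square matrix is similar to its transpose. -/
theorem isConj_transpose {ι : Type} [Fintype ι] [DecidableEq ι] (A : Matrix ι ι F) : IsConj A A.transpose := by
  obtain ⟨b, hb, hnd⟩ := exists_selfAdjoint_form (V := ι → F) (Matrix.toLin' A)
  set S := LinearMap.toMatrix₂' F b with hS
  have hbS : ∀ x y, b x y = x ⬝ᵥ S.mulVec y := fun x y => by
    rw [hS, ← Matrix.toLinearMap₂'_apply', Matrix.toLinearMap₂'_toMatrix']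
  have hSA : S * A = A.transpose * S := by
    apply (Matrix.toLinearMap₂' F : Matrix ι ι F ≃ₗ[F] (ι → F) →ₗ[F] (ι → F) →ₗ[F] F).injective
    refine LinearMap.ext fun x => LinearMap.ext fun y => ?_
    have h := hb x y
    rw [hbS, hbS, Matrix.toLin'_apply, Matrix.toLin'_apply] at h
    rw [Matrix.toLinearMap₂'_apply', Matrix.toLinearMap₂'_apply', ← Matrix.mulVec_mulVec, ← h,
      ← Matrix.mulVec_mulVec, Matrix.dotProduct_mulVec x A.transpose, Matrix.vecMul_transpose]
  have hunit : IsUnit S.transpose := by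
    rw [← Matrix.mulVec_injective_iff_isUnit]
    intro x y hxy
    rw [← sub_eq_zero]
    refine hnd _ fun z => ?_
    rw [hbS, Matrix.dotProduct_mulVec, ← Matrix.mulVec_transpose, Matrix.mulVec_sub, hxy, sub_self,
      zero_dotProduct]
  have hS' : IsUnit S := by
    rw [Matrix.isUnit_iff_isUnit_det, ← Matrix.det_transpose, ← Matrix.isUnit_iff_isUnit_det]
    exact hunit
  exact ⟨hS'.unit, hSA⟩

end Cfsg.Agent.Lib.TransposeConj
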