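import Mathlib

/-!
In a finite commutative ring with an involution `τ` that moves some element by a unit, every `τ`-fixed unit is a
norm `b * τ b` (Hilbert 90 plus counting).
-/

set_option autoImplicit false

namespace Cfsg.Agent.Lib.InvolutionNorm

variable {L : Type*} [CommRing L] [Finite L]

/-- A choice of residues making `τ x + a x` a unit. -/
theorem exists_unit_of_norm_one (τ : L →+* L) (hτ : ∀ x, τ (τ x) = x) {θ : L} (hθ : IsUnit (τ θ - θ))
    {a : L} (ha : a * τ a = 1) : ∃ b : L, IsUnit b ∧ a * τ b = b := by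
  classical
  haveI : Finite (Ideal L) := Finite.of_injective (fun I : Ideal L => (I : Set L)) SetLike.coe_injective
  haveI : Finite {I : Ideal L // I.IsMaximal} := Subtype.finite
  obtain ⟨k, ⟨e⟩⟩ := Finite.exists_equiv_fin {I : Ideal L // I.IsMaximal}
  have hsurj : Function.Surjective τ := fun x => ⟨τ x, hτ x⟩
  have hmax : ∀ I : {I : Ideal L // I.IsMaximal}, (I.1.comap τ).IsMaximal := fun I =>
    haveI := I.2
    Ideal.comap_isMaximal_of_surjective τ hsurj
  let t : {I : Ideal L // I.IsMaximal} → {I : Ideal L // I.IsMaximal} := fun I => ⟨I.1.comap τ, hmax I⟩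
  have htt : ∀ I, t (t I) = I := fun I => Subtype.ext (Ideal.ext fun x => by simp [t, hτ])
  -- a good residue at a fixed ideal
  have hfix : ∀ I : {I : Ideal L // I.IsMaximal}, ∃ lam : L, τ lam + a * lam ∉ I.1 := by
    intro I
    by_contra hcon
    push Not at hcon
    have h1 := hcon 1
    have h2 := hcon θ
    rw [map_one, mul_one] at h1
    have h3 : τ θ - θ ∈ I.1 := by
      rw [show τ θ - θ = (τ θ + a * θ) - θ * (1 + a) by ring]
      exact I.1.sub_mem h2 (I.1.mul_mem_left θ h1)
    exact I.2.ne_top (I.1.eq_top_of_isUnit_mem h3 hθ)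
  choose lam hlam using hfix
  let r : {I : Ideal L // I.IsMaximal} → L := fun I =>
    if e I < e (t I) then 1 else if e (t I) < e I then 0 else lam I
  obtain ⟨x, hx⟩ := Ideal.exists_forall_sub_mem_ideal (I := fun I : {I : Ideal L // I.IsMaximal} => I.1)
    (fun I J hIJ => by
      haveI := I.2
      haveI := J.2
      exact Ideal.isCoprime_of_isMaximal (fun h => hIJ (Subtype.ext h))) r
  refine ⟨τ x + a * x, ?_, ?_⟩
  swap
  · rw [map_add, map_mul, hτ, mul_add, ← mul_assoc, ha, one_mul, add_comm]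
  by_contra hu
  obtain ⟨I, hI, hIb⟩ := exists_max_ideal_of_mem_nonunits (mem_nonunits_iff.2 hu)
  set J : {I : Ideal L // I.IsMaximal} := ⟨I, hI⟩ with hJ
  have hb : τ x + a * x ∈ J.1 := hIb
  have hxJ := hx J
  have hxT : τ x - τ (r (t J)) ∈ J.1 := by
    have := hx (t J)
    rw [← map_sub]
    exact this
  have hr : τ (r (t J)) + a * r J ∈ J.1 := by
    rw [show τ (r (t J)) + a * r J = (τ x + a * x) - (τ x - τ (r (t J))) - a * (x - r J) by ring]
    exact J.1.sub_mem (J.1.sub_mem hb hxT) (J.1.mul_mem_left a hxJ)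
  have hJtop := J.2.ne_top
  rcases lt_trichotomy (e J) (e (t J)) with h | h | h
  · have h1 : r J = 1 := if_pos h
    have h2 : r (t J) = 0 := by
      simp only [r, htt]
      rw [if_neg (asymm h), if_pos h]
    rw [h1, h2, map_zero, zero_add, mul_one] at hr
    exact hJtop (J.1.eq_top_of_isUnit_mem hr (IsUnit.of_mul_eq_one _ ha))
  · have ht : t J = J := (e.injective h).symm
    have h1 : r J = lam J := by simp only [r, ht, lt_irrefl, if_false]
    rw [ht, h1] at hr
    exact hlam J hr
  · have h1 : r J = 0 := by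
      simp only [r]
      rw [if_neg (asymm h), if_pos h]
    have h2 : r (t J) = 1 := by
      simp only [r, htt]
      rw [if_pos h]
    rw [h1, h2, map_one, mul_zero, add_zero] at hr
    exact hJtop ((Ideal.eq_top_iff_one _).2 hr)

/-- Every fixed unit is a norm. -/
theorem exists_mul_eq (τ : L →+* L) (hτ : ∀ x, τ (τ x) = x) {θ : L} (hθ : IsUnit (τ θ - θ))
    {h : L} (hh : IsUnit h) (hfix : τ h = h) : ∃ b : L, IsUnit b ∧ b * τ b = h := by
  classical
  let T : Lˣ →* Lˣ := Units.map τ.toMonoidHom
  have hT : ∀ u, T (T u) = u := fun u => Units.ext (hτ u)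
  let N : Lˣ →* Lˣ := MonoidHom.id Lˣ * T
  let S : Lˣ →* Lˣ := MonoidHom.id Lˣ / T
  have hN : ∀ u, N u = u * T u := fun u => rfl
  have hS : ∀ u, S u = u / T u := fun u => rfl
  have hkerS : N.range ≤ S.ker := by
    rintro _ ⟨u, rfl⟩
    rw [MonoidHom.mem_ker, hS, hN, map_mul, hT, mul_comm (T u) u, div_self']
  have hkerN : N.ker ≤ S.range := by
    intro u hu
    rw [MonoidHom.mem_ker, hN] at hu
    obtain ⟨b, hb, hbu⟩ := exists_unit_of_norm_one τ hτ hθ (a := (u : L)) (congrArg Units.val hu)
    refine ⟨hb.unit, ?_⟩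
    rw [hS, div_eq_iff_eq_mul]
    exact Units.ext hbu.symm
  have h1 : Nat.card N.ker ≤ Nat.card S.range := Subgroup.card_le_of_le hkerN
  have h2 : Nat.card N.ker * Nat.card N.range = Nat.card S.ker * Nat.card S.range := by
    rw [← Subgroup.index_ker, ← Subgroup.index_ker, Subgroup.card_mul_index, Subgroup.card_mul_index]
  have h3 : Nat.card S.ker ≤ Nat.card N.range := by
    by_contra hlt
    push Not at hlt
    have h4 : Nat.card N.ker * Nat.card N.range < Nat.card S.ker * Nat.card S.range :=
      calc Nat.card N.ker * Nat.card N.range ≤ Nat.card S.range * Nat.card N.range := Nat.mul_le_mul_right _ h1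
        _ < Nat.card S.range * Nat.card S.ker := Nat.mul_lt_mul_of_pos_left hlt Nat.card_pos
        _ = _ := mul_comm _ _
    omega
  have heq : N.range = S.ker := Subgroup.eq_of_le_of_card_ge hkerS h3
  have hmem : hh.unit ∈ S.ker := by
    rw [MonoidHom.mem_ker, hS, div_eq_one]
    exact Units.ext hfix.symm
  rw [← heq] at hmem
  obtain ⟨u, hu⟩ := hmem
  exact ⟨u, u.isUnit, congrArg Units.val hu⟩

end Cfsg.Agent.Lib.InvolutionNorm
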