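import Cfsg.Agent.Lib.InvolutionNorm

/-!
# Semisimple isometries: GL-conjugacy implies conjugacy preserving a form

For an isometry `A` of order prime to the characteristic and a self-adjoint invertible `H` commuting with it we
look for `b` commuting with `A` and `B (b x) (b y) = B x (H y)`.
-/

set_option autoImplicit false

namespace Cfsg.Agent.Lib.SemisimpleConj

open Module

variable {K : Type*} [Field K] {V : Type*} [AddCommGroup V] [Module K V]

/-- The data: a reflexive nondegenerate form, an isometry of finite order prime to the characteristic, and a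
self-adjoint map commuting with it. -/
structure Setup (B : V →ₗ[K] V →ₗ[K] K) (A H : Module.End K V) (N : ℕ) : Prop where
  nondeg : ∀ y, (∀ x, B x y = 0) → y = 0
  refl : ∀ x y, B x y = 0 → B y x = 0
  iso : ∀ x y, B (A x) (A y) = B x y
  pow : A ^ N = 1
  coprime : (N : K) ≠ 0
  comm : Commute H A
  selfAdj : ∀ x y, B (H x) y = B x (H y)
  inj : Function.Injective H

variable {B : V →ₗ[K] V →ₗ[K] K} {A H : Module.End K V} {N : ℕ}

theorem N_pos (h : Setup B A H N) : 0 < N := Nat.pos_of_ne_zero fun h0 => h.coprime (by simp [h0])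

theorem adj_pow (h : Setup B A H N) {C : Module.End K V} (hC : ∀ x y, B (C x) (C y) = B x y)
    (hCN : C ^ N = 1) (x y : V) : B (C x) y = B x ((C ^ (N - 1)) y) := by
  conv_lhs => rw [show y = C ((C ^ (N - 1)) y) by
    rw [← Module.End.mul_apply, ← pow_succ', Nat.sub_add_cancel (N_pos h), hCN]; rfl]
  exact hC x _

/-- Without fixed points of `A ^ 2`. -/
theorem exists_of_no_fixed [Finite V] (h : Setup B A H N) (hfix : ∀ x, A (A x) = x → x = 0) :
    ∃ b : Module.End K V, Commute b A ∧ ∀ x y, B (b x) (b y) = B x (H y) := by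
  haveI : Finite (Module.End K V) := Finite.of_injective (fun f : Module.End K V => (f : V → V)) DFunLike.coe_injective
  let L := Algebra.adjoin K ({A, H} : Set (Module.End K V))
  letI : CommRing L := Algebra.adjoinCommRingOfComm K (by
    rintro a (rfl | rfl) b (rfl | rfl)
    · rfl
    · exact h.comm.eq.symm
    · exact h.comm.eq
    · rfl)
  have hAmem : A ∈ L := Algebra.subset_adjoin (Set.mem_insert _ _)
  have hHmem : H ∈ L := Algebra.subset_adjoin (Set.mem_insert_of_mem _ rfl)
  have hadj : ∀ x ∈ L, ∃ y ∈ L, (∀ a b, B (x a) b = B a (y b)) ∧ (∀ a b, B (y a) b = B a (x b)) := by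
    intro x hx
    induction hx using Algebra.adjoin_induction with
    | mem y hy =>
      rcases hy with rfl | rfl
      · refine ⟨y ^ (N - 1), L.pow_mem hAmem _, adj_pow h h.iso h.pow, fun a b => ?_⟩
        conv_rhs => rw [show a = y ((y ^ (N - 1)) a) by
          rw [← Module.End.mul_apply, ← pow_succ', Nat.sub_add_cancel (N_pos h), h.pow]; rfl, h.iso]
      · exact ⟨y, hHmem, h.selfAdj, h.selfAdj⟩
    | algebraMap c =>
      refine ⟨algebraMap K _ c, L.algebraMap_mem c, fun a b => ?_, fun a b => ?_⟩ <;>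
        simp [Module.algebraMap_end_apply]
    | add a b ha hb iha ihb =>
      obtain ⟨a', ha', h1, h2⟩ := iha
      obtain ⟨b', hb', h3, h4⟩ := ihb
      exact ⟨a' + b', L.add_mem ha' hb', fun x y => by simp [h1, h3], fun x y => by simp [h2, h4]⟩
    | mul a b ha hb iha ihb =>
      obtain ⟨a', ha', h1, h2⟩ := iha
      obtain ⟨b', hb', h3, h4⟩ := ihb
      refine ⟨b' * a', L.mul_mem hb' ha', fun x y => by simp [Module.End.mul_apply, h1, h3],
        fun x y => ?_⟩
      rw [Module.End.mul_apply, h4, h2, ← Module.End.mul_apply]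
  choose st hst hadj1 hadj2 using hadj
  have huniq : ∀ {X Y : Module.End K V}, (∀ a b, B a (X b) = B a (Y b)) → X = Y := fun {X Y} hh =>
    LinearMap.ext fun b => sub_eq_zero.1 (h.nondeg _ fun a => by rw [map_sub, hh, sub_self])
  let τ : L →+* L :=
    { toFun := fun x => ⟨st x.1 x.2, hst x.1 x.2⟩
      map_one' := Subtype.ext (huniq fun a b => (hadj1 1 L.one_mem a b).symm)
      map_mul' := fun x y => Subtype.ext (huniq fun a b => by
        show _ = B a ((st x.1 x.2 * st y.1 y.2) b)
        rw [← hadj1 _ (x * y).2, Module.End.mul_apply, ← hadj1, ← hadj1, ← Module.End.mul_apply]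
        exact congrArg (fun z : Module.End K V => B (z a) b) (congrArg Subtype.val (mul_comm x y)))
      map_zero' := Subtype.ext (huniq fun a b => by
        show B a (st 0 L.zero_mem b) = B a ((0 : Module.End K V) b)
        rw [← hadj1]; simp)
      map_add' := fun x y => Subtype.ext (huniq fun a b => by
        show _ = B a ((st x.1 x.2 + st y.1 y.2) b)
        rw [← hadj1 _ (x + y).2, LinearMap.add_apply, map_add, ← hadj1, ← hadj1]
        simp) }
  have hττ : ∀ x, τ (τ x) = x := fun x => Subtype.ext (huniq fun a b => by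
    show B a (st (st x.1 x.2) (hst x.1 x.2) b) = B a (x.1 b)
    rw [← hadj1, hadj2])
  have hunit : ∀ x : L, Function.Injective x.1 → IsUnit x := by
    intro x hx
    haveI : Finite L := inferInstance
    have hinj : Function.Injective (fun y : L => x * y) := fun y z hyz => Subtype.ext (LinearMap.ext fun v => hx
      (LinearMap.congr_fun (congrArg Subtype.val hyz) v))
    obtain ⟨y, hy⟩ := (Finite.injective_iff_surjective.1 hinj) 1
    exact IsUnit.of_mul_eq_one y hy
  have hθ : IsUnit (τ ⟨A, hAmem⟩ - ⟨A, hAmem⟩) := by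
    refine hunit _ ?_
    have e : (τ ⟨A, hAmem⟩).1 = A ^ (N - 1) := huniq fun a b => by
      show B a (st A hAmem b) = _
      rw [← hadj1, adj_pow h h.iso h.pow]
    rw [injective_iff_map_eq_zero]
    intro v hv
    refine hfix v ?_
    have hv' : (A ^ (N - 1)) v = A v := sub_eq_zero.1 (by rw [← e]; exact hv)
    rw [← hv', ← Module.End.mul_apply, ← pow_succ', Nat.sub_add_cancel (N_pos h), h.pow]
    rfl
  have hfixH : τ ⟨H, hHmem⟩ = ⟨H, hHmem⟩ := Subtype.ext (huniq fun a b => by
    show B a (st H hHmem b) = _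
    rw [← hadj1, h.selfAdj])
  obtain ⟨b, -, hb⟩ := InvolutionNorm.exists_mul_eq τ hττ hθ (hunit ⟨H, hHmem⟩ h.inj) hfixH
  refine ⟨b.1, congrArg Subtype.val (mul_comm b ⟨A, hAmem⟩), fun x y => ?_⟩
  rw [hadj1 b.1 b.2, ← Module.End.mul_apply,
    show st b.1 b.2 * b.1 = H from congrArg Subtype.val ((mul_comm (τ b) b).trans hb)]

/-- The fixed space of an isometry of order prime to the characteristic is complemented by its image. -/
theorem isCompl_fixed [FiniteDimensional K V] {C : Module.End K V} {N : ℕ} (hCN : C ^ N = 1) (hN : (N : K) ≠ 0) :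
    IsCompl (LinearMap.ker (C - 1)) (LinearMap.range (C - 1)) := by
  have hd : Disjoint (LinearMap.ker (C - 1)) (LinearMap.range (C - 1)) := by
    rw [Submodule.disjoint_def]
    rintro _ hy ⟨x, rfl⟩
    rw [LinearMap.mem_ker] at hy
    set y := (C - 1) x with hyd
    have hCy : C y = y := sub_eq_zero.1 hy
    have hCx : C x = x + y := by rw [hyd]; simp
    have : ∀ k : ℕ, (C ^ k) x = x + (k : K) • y := by
      intro k
      induction k with
      | zero => simp
      | succ k ih =>
        rw [pow_succ', Module.End.mul_apply, ih, map_add, map_smul, hCy, hCx, Nat.cast_succ, add_smul, one_smul]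
        abel
    have h1 := this N
    rw [hCN, Module.End.one_apply, left_eq_add, smul_eq_zero] at h1
    exact h1.resolve_left hN
  refine ⟨hd, ?_⟩
  rw [codisjoint_iff]
  refine Submodule.eq_top_of_finrank_eq ?_
  have h1 := Submodule.finrank_sup_add_finrank_inf_eq (LinearMap.ker (C - 1)) (LinearMap.range (C - 1))
  rw [hd.eq_bot, finrank_bot, add_zero] at h1
  rw [h1, add_comm]
  exact (C - 1).finrank_range_add_finrank_ker

theorem perp_fixed_image {C : Module.End K V} (hC : ∀ x y, B (C x) (C y) = B x y) {w r : V}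
    (hw : w ∈ LinearMap.ker (C - 1)) (hr : r ∈ LinearMap.range (C - 1)) : B w r = 0 := by
  obtain ⟨a, rfl⟩ := hr
  have hw' : C w = w := sub_eq_zero.1 (LinearMap.mem_ker.1 hw)
  rw [LinearMap.sub_apply, Module.End.one_apply, map_sub, sub_eq_zero]
  conv_lhs => rw [← hw']
  exact hC w a

theorem invariant_ker {C X : Module.End K V} (hX : Commute X C) :
    ∀ v ∈ LinearMap.ker (C - 1), X v ∈ LinearMap.ker (C - 1) := fun v hv => by
  rw [LinearMap.mem_ker] at hv ⊢
  rw [← Module.End.mul_apply, ← (hX.sub_right (Commute.one_right X)).eq, Module.End.mul_apply, hv, map_zero]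

theorem invariant_range {C X : Module.End K V} (hX : Commute X C) :
    ∀ v ∈ LinearMap.range (C - 1), X v ∈ LinearMap.range (C - 1) := by
  rintro _ ⟨a, rfl⟩
  exact ⟨X a, by rw [← Module.End.mul_apply, ← (hX.sub_right (Commute.one_right X)).eq, Module.End.mul_apply]⟩

/-- The form on a subspace. -/
def restrB (B : V →ₗ[K] V →ₗ[K] K) (W : Submodule K V) : W →ₗ[K] W →ₗ[K] K := B.compl₁₂ W.subtype W.subtype

theorem Setup.restrict (h : Setup B A H N) {W W' : Submodule K V} (hc : IsCompl W W')
    (hperp : ∀ w ∈ W, ∀ r ∈ W', B w r = 0) (hA : ∀ v ∈ W, A v ∈ W) (hH : ∀ v ∈ W, H v ∈ W) :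
    Setup (restrB B W) (A.restrict hA) (H.restrict hH) N where
  nondeg y hy := Subtype.ext (h.nondeg _ fun x => by
    obtain ⟨w, hw, r, hr, rfl⟩ := Submodule.mem_sup.1 (hc.sup_eq_top ▸ Submodule.mem_top : x ∈ W ⊔ W')
    rw [map_add, LinearMap.add_apply, h.refl _ _ (hperp y.1 y.2 r hr), add_zero]
    exact hy ⟨w, hw⟩)
  refl x y := h.refl x.1 y.1
  iso x y := h.iso x.1 y.1
  pow := by
    rw [Module.End.pow_restrict]
    exact LinearMap.ext fun x => Subtype.ext (by simp [h.pow])
  coprime := h.coprime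
  comm := LinearMap.ext fun x => Subtype.ext (LinearMap.congr_fun h.comm.eq x.1)
  selfAdj x y := h.selfAdj x.1 y.1
  inj x y hxy := Subtype.ext (h.inj (congrArg Subtype.val hxy))

/-- Solutions glue along fixed space and image of an auxiliary isometry. -/
theorem glue [FiniteDimensional K V] (h : Setup B A H N) {C : Module.End K V}
    (hC : ∀ x y, B (C x) (C y) = B x y) (hCN : C ^ N = 1) (hA : Commute A C) (hH : Commute H C)
    (h0 : ∃ b : Module.End K (LinearMap.ker (C - 1)), Commute b (A.restrict (invariant_ker hA)) ∧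
      ∀ x y : LinearMap.ker (C - 1), B (b x).1 (b y).1 = B x.1 (H y.1))
    (h1 : ∃ b : Module.End K (LinearMap.range (C - 1)), Commute b (A.restrict (invariant_range hA)) ∧
      ∀ x y : LinearMap.range (C - 1), B (b x).1 (b y).1 = B x.1 (H y.1)) :
    ∃ b : Module.End K V, Commute b A ∧ ∀ x y, B (b x) (b y) = B x (H y) := by
  obtain ⟨b0, c0, e0⟩ := h0
  obtain ⟨b1, c1, e1⟩ := h1
  have hc := isCompl_fixed hCN h.coprime
  let b : Module.End K V := LinearMap.ofIsCompl hc ((LinearMap.ker (C - 1)).subtype.comp b0)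
    ((LinearMap.range (C - 1)).subtype.comp b1)
  have hb : ∀ (u : LinearMap.ker (C - 1)) (r : LinearMap.range (C - 1)), b (u.1 + r.1) = (b0 u).1 + (b1 r).1 :=
    fun u r => by simp [b, map_add]
  have hsplit : ∀ x : V, ∃ (u : LinearMap.ker (C - 1)) (r : LinearMap.range (C - 1)), x = u.1 + r.1 := fun x => by
    obtain ⟨w, hw, r, hr, rfl⟩ := Submodule.mem_sup.1 (hc.sup_eq_top ▸ Submodule.mem_top : x ∈ _ ⊔ _)
    exact ⟨⟨w, hw⟩, ⟨r, hr⟩, rfl⟩
  refine ⟨b, LinearMap.ext fun x => ?_, fun x y => ?_⟩
  · obtain ⟨u, r, rfl⟩ := hsplit x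
    rw [Module.End.mul_apply, Module.End.mul_apply, map_add A,
      show A u.1 + A r.1 = (A.restrict (invariant_ker hA) u).1 + (A.restrict (invariant_range hA) r).1 from rfl,
      hb, hb, map_add A]
    exact congrArg₂ (· + ·) (congrArg Subtype.val (LinearMap.congr_fun c0.eq u))
      (congrArg Subtype.val (LinearMap.congr_fun c1.eq r))
  · obtain ⟨u, r, rfl⟩ := hsplit x
    obtain ⟨u', r', rfl⟩ := hsplit y
    have p : ∀ (w : LinearMap.ker (C - 1)) (z : LinearMap.range (C - 1)), B w.1 z.1 = 0 := fun w z =>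
      perp_fixed_image hC w.2 z.2
    have p1 : B (b0 u).1 (b1 r').1 = 0 := p _ _
    have p2 : B (b1 r).1 (b0 u').1 = 0 := h.refl _ _ (p _ _)
    have p3 : B u.1 (H r'.1) = 0 := perp_fixed_image hC u.2 (invariant_range hH _ r'.2)
    have p4 : B r.1 (H u'.1) = 0 := h.refl _ _ (perp_fixed_image hC (invariant_ker hH _ u'.2) r.2)
    rw [hb, hb]
    simp only [map_add, LinearMap.add_apply, e0, e1, p1, p2, p3, p4, add_zero, zero_add]

/-- An isometry of odd order has no fixed points of its square on the image of `A - 1`. -/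
theorem no_fixed_sq_range [FiniteDimensional K V] (hpow : A ^ N = 1) (hN : (N : K) ≠ 0) (hodd : Odd N)
    (x : V) (hx : x ∈ LinearMap.range (A - 1)) (h2 : A (A x) = x) : x = 0 := by
  have hk : ∀ k : ℕ, (A ^ (2 * k)) x = x := by
    intro k
    induction k with
    | zero => simp
    | succ k ih =>
      rw [show 2 * (k + 1) = 2 * k + 2 by ring, pow_add, Module.End.mul_apply, pow_two, Module.End.mul_apply, h2, ih]
  have h1 : A x = x := by
    obtain ⟨k, rfl⟩ := hodd
    have := LinearMap.congr_fun hpow x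
    rw [pow_succ', Module.End.mul_apply, hk] at this
    exact this
  exact (Submodule.disjoint_def.1 (isCompl_fixed hpow hN).disjoint) x
    (LinearMap.mem_ker.2 (by simp [h1])) hx

/-- Every bilinear form is `B (·, H ·)`. -/
theorem exists_rep [FiniteDimensional K V] (hnd : ∀ y, (∀ x, B x y = 0) → y = 0) (T : V →ₗ[K] V →ₗ[K] K) :
    ∃ H : Module.End K V, ∀ x y, B x (H y) = T x y := by
  have hinj : Function.Injective B.flip := by
    rw [injective_iff_map_eq_zero]
    intro y hy
    exact hnd y fun x => LinearMap.congr_fun hy x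
  let e : V ≃ₗ[K] Module.Dual K V :=
    LinearMap.linearEquivOfInjective B.flip hinj Subspace.dual_finrank_eq.symm
  exact ⟨e.symm.toLinearMap.comp T.flip, fun x y => LinearMap.congr_fun (e.apply_symm_apply (T.flip y)) x⟩

/-- The setup attached to an equivariant bijection `g` between two isometries. -/
theorem exists_setup [FiniteDimensional K V] (hnd : ∀ y, (∀ x, B x y = 0) → y = 0) {ε : K}
    (hflip : ∀ x y, B y x = ε * B x y) (hA : ∀ x y, B (A x) (A y) = B x y) {A' : Module.End K V}
    (hA' : ∀ x y, B (A' x) (A' y) = B x y) (hpow : A ^ N = 1) (hN : (N : K) ≠ 0) (g : V ≃ₗ[K] V)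
    (hg : ∀ x, g (A x) = A' (g x)) :
    ∃ H : Module.End K V, Setup B A H N ∧ ∀ x y, B x (H y) = B (g x) (g y) := by
  obtain ⟨H, hH⟩ := exists_rep hnd (B.compl₁₂ (g : V →ₗ[K] V) (g : V →ₗ[K] V))
  have hH' : ∀ x y, B x (H y) = B (g x) (g y) := fun x y => hH x y
  have hAinv : ∀ x : V, ∃ z, A z = x := fun x => ⟨(A ^ (N - 1)) x, by
    rw [← Module.End.mul_apply, ← pow_succ', Nat.sub_add_cancel (Nat.pos_of_ne_zero fun h0 => hN (by simp [h0])),
      hpow]
    rfl⟩
  refine ⟨H, ⟨hnd, fun x y h => by rw [hflip, h, mul_zero], hA, hpow, hN, ?_, fun x y => ?_, ?_⟩, hH'⟩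
  · refine LinearMap.ext fun y => sub_eq_zero.1 (hnd _ fun x => ?_)
    obtain ⟨z, rfl⟩ := hAinv x
    rw [Module.End.mul_apply, Module.End.mul_apply, map_sub, sub_eq_zero, hA, hH', hH', hg, hg, hA']
  · rw [hflip, hH', ← hflip, hH']
  · rw [injective_iff_map_eq_zero]
    intro y hy
    have h0 : g y = 0 := hnd _ fun x => by
      rw [← g.apply_symm_apply x, ← hH', hy, map_zero]
    exact g.map_eq_zero_iff.1 h0

end Cfsg.Agent.Lib.SemisimpleConj
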