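import Cfsg.Agent.Lib.Cores.Basic
import Cfsg.Agent.Lib.Coprime.Conjugacy

/-!
Commuting subgroups of prime order, invariant under an elementary abelian 2-group, on which it
acts faithfully.
-/

set_option autoImplicit false
set_option linter.style.haveILetI false

namespace Cfsg.Agent.Lib.CommutingPrimes76

open Subgroup

variable {S : Type*} [Group S] [Finite S]

theorem eq_one_of_eq_inv {W : Subgroup S} (hW : Odd (Nat.card W)) {x : S} (hx : x ∈ W)
    (h : x⁻¹ = x) : x = 1 := by
  have h2 : orderOf x ∣ 2 := orderOf_dvd_of_pow_eq_one (by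
    rw [pow_two]; exact inv_eq_iff_mul_eq_one.1 h)
  rcases (Nat.dvd_prime Nat.prime_two).1 h2 with h1 | h1
  · exact orderOf_eq_one_iff.1 h1
  · have h3 := orderOf_dvd_natCard (⟨x, hx⟩ : W)
    rw [← orderOf_submonoid] at h3
    rw [show ((⟨x, hx⟩ : W) : S) = x from rfl, h1] at h3
    exact absurd hW (by rw [Nat.not_odd_iff_even, even_iff_two_dvd]; exact h3)

omit [Finite S] in
theorem conj_self {t : S} (ht : t * t = 1) (x : S) : MulAut.conj t (MulAut.conj t x) = x := by
  rw [← MulAut.mul_apply, ← map_mul, ht, map_one, MulAut.one_apply]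

omit [Finite S] in
theorem conj_eq_self_iff {t x : S} : MulAut.conj t x = x ↔ t * x = x * t := by
  rw [MulAut.conj_apply, mul_inv_eq_iff_eq_mul]

/-- The `P × Q` argument: an involution trivial on `C_W(y)`, with `y` fixed, is trivial on `W`. -/
theorem fixed_of_fixed_centralizer {W : Subgroup S} [Group.IsNilpotent W] (hW : Odd (Nat.card W))
    {t : S} (ht : t * t = 1) (htW : ∀ w ∈ W, MulAut.conj t w ∈ W) {y : S} (hyW : y ∈ W)
    (hy : MulAut.conj t y = y)
    (h : ∀ w ∈ W, w * y = y * w → MulAut.conj t w = w) : ∀ w ∈ W, MulAut.conj t w = w := by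
  set σ := MulAut.conj t
  let C : Subgroup W :=
    { carrier := {w | σ (w : S) = w}
      one_mem' := by simp
      mul_mem' := fun {a b} ha hb => show σ ((a : S) * b) = a * b by rw [map_mul, ha, hb]
      inv_mem' := fun {a} ha => show σ ((a : S)⁻¹) = (a : S)⁻¹ by rw [map_inv, ha] }
  suffices hC : C = ⊤ by
    intro w hw
    have h1 : (⟨w, hw⟩ : W) ∈ C := hC ▸ Subgroup.mem_top _
    exact h1
  by_contra hne
  obtain ⟨x, hxN, hxC⟩ := SetLike.exists_of_lt
    ((Group.normalizerCondition_of_isNilpotent (G := W)) C (lt_top_iff_ne_top.2 hne))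
  set u : S := (x : S)⁻¹ * σ x with hu
  have huW : u ∈ W := mul_mem (inv_mem x.2) (htW _ x.2)
  have hσu : σ u = u⁻¹ := by
    rw [hu, map_mul, map_inv, conj_self ht, mul_inv_rev, inv_inv]
  have hcomm : u * y = y * u := by
    have h1 : (⟨y, hyW⟩ : W) ∈ C := hy
    have h2 : x * ⟨y, hyW⟩ * x⁻¹ ∈ C := (Subgroup.mem_normalizer_iff.1 hxN _).1 h1
    have h3 : σ ((x : S) * y * (x : S)⁻¹) = (x : S) * y * (x : S)⁻¹ := h2
    rw [map_mul, map_mul, map_inv, hy] at h3
    rw [hu]
    have h4 : σ (x : S) * y = (x : S) * y * (x : S)⁻¹ * σ (x : S) := by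
      rw [← h3]; group
    rw [mul_assoc, h4]; group
  have h5 := h u huW hcomm
  rw [hσu] at h5
  have hu1 : u = 1 := eq_one_of_eq_inv hW huW h5
  exact hxC (inv_mul_eq_one.1 hu1).symm

theorem eq_one_of_braid {W : Subgroup S} (hW : Odd (Nat.card W)) {v e : S} (hvW : v ∈ W)
    (heW : e ∈ W) (h : e * (v * e) = e⁻¹ * (v * e⁻¹)) : e = 1 := by
  have hodd : (2 : ℕ).Coprime (orderOf v) := by
    refine (Nat.coprime_two_left.2 hW).coprime_dvd_right ?_
    exact orderOf_dvd_natCard (⟨v, hvW⟩ : W) |> fun h => by rwa [← orderOf_submonoid] at h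
  have h2 : v * e ^ 2 * v⁻¹ = (e ^ 2)⁻¹ := by
    calc v * e ^ 2 * v⁻¹ = e⁻¹ * (e * (v * e)) * e * v⁻¹ := by rw [pow_two]; group
      _ = e⁻¹ * (e⁻¹ * (v * e⁻¹)) * e * v⁻¹ := by rw [h]
      _ = (e ^ 2)⁻¹ := by rw [pow_two]; group
  have h3 : v ^ 2 * e ^ 2 * (v ^ 2)⁻¹ = e ^ 2 := by
    calc v ^ 2 * e ^ 2 * (v ^ 2)⁻¹ = v * (v * e ^ 2 * v⁻¹) * v⁻¹ := by rw [pow_two v]; group
      _ = v * (e ^ 2)⁻¹ * v⁻¹ := by rw [h2]
      _ = (v * e ^ 2 * v⁻¹)⁻¹ := by group
      _ = e ^ 2 := by rw [h2, inv_inv]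
  obtain ⟨k, hk⟩ := exists_pow_eq_self_of_coprime hodd
  have h4 : Commute v (e ^ 2) := by
    rw [← hk]
    exact Commute.pow_left (mul_inv_eq_iff_eq_mul.1 h3) k
  rw [h4.eq, mul_assoc, mul_inv_cancel, mul_one] at h2
  have h5 : e ^ 2 = 1 := eq_one_of_eq_inv hW (pow_mem heW 2) h2.symm
  exact eq_one_of_eq_inv hW heW (inv_eq_of_mul_eq_one_right (by rwa [← pow_two]))

/-- Generation step, elementary form: if `t` moves `W` it moves `C_W(u)` or `C_W(tu)`. -/
theorem exists_moved_step {W : Subgroup S} (hW : Odd (Nat.card W)) {t u : S} (ht : t * t = 1)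
    (hu : u * u = 1) (htu : t * u = u * t) (htW : ∀ w ∈ W, MulAut.conj t w ∈ W)
    (huW : ∀ w ∈ W, MulAut.conj u w ∈ W) (hmov : ∃ x ∈ W, MulAut.conj t x ≠ x) :
    ∃ v, (v = u ∨ v = t * u) ∧ ∃ x ∈ W, MulAut.conj v x = x ∧ MulAut.conj t x ≠ x := by
  obtain ⟨x, hxW, hx⟩ := hmov
  set σ := MulAut.conj t with hσ
  set τ := MulAut.conj u with hτ
  have hστ : ∀ z, σ (τ z) = τ (σ z) := fun z => by
    rw [hσ, hτ, ← MulAut.mul_apply, ← map_mul, htu, map_mul, MulAut.mul_apply]
  set v := x⁻¹ * σ x with hv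
  have hvW : v ∈ W := mul_mem (inv_mem hxW) (htW _ hxW)
  have hσv : σ v = v⁻¹ := by rw [hv, map_mul, map_inv, hσ, conj_self ht, mul_inv_rev, inv_inv]
  have hv1 : v ≠ 1 := fun h => hx (inv_mul_eq_one.1 h).symm
  set q := v⁻¹ * τ v with hq
  have hqW : q ∈ W := mul_mem (inv_mem hvW) (huW _ hvW)
  have hτq : τ q = q⁻¹ := by rw [hq, map_mul, map_inv, hτ, conj_self hu, mul_inv_rev, inv_inv]
  have hodd : ∀ {z : S}, z ∈ W → (2 : ℕ).Coprime (orderOf z) := fun {z} hz => by
    refine (Nat.coprime_two_left.2 hW).coprime_dvd_right ?_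
    exact orderOf_dvd_natCard (⟨z, hz⟩ : W) |> fun h => by rwa [← orderOf_submonoid] at h
  obtain ⟨m, hm⟩ := exists_pow_eq_self_of_coprime (hodd hqW)
  set r := q ^ m with hr
  have hrW : r ∈ W := pow_mem hqW m
  have hr2 : r * r = q := by rw [← pow_two, hr, ← pow_mul, mul_comm, pow_mul, hm]
  have hτr : τ r = r⁻¹ := by rw [hr, map_pow, hτq, inv_pow]
  set e := v * r with he
  have heW : e ∈ W := mul_mem hvW hrW
  have hτe : τ e = e := by
    rw [he, map_mul, hτr, show τ v = v * q by rw [hq]; group, ← hr2]; group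
  by_cases hσe : σ e = e
  swap
  · exact ⟨u, Or.inl rfl, e, heW, hτe, hσe⟩
  refine ⟨t * u, Or.inr rfl, v, hvW, ?_, fun h => hv1 (eq_one_of_eq_inv hW hvW (hσv.symm.trans h))⟩
  -- `τ v = e v⁻¹ e` is inverted by `σ`
  have hτv : τ v = e * v⁻¹ * e := by
    rw [show τ v = v * q by rw [hq]; group, he, ← hr2]; group
  have h1 : σ (τ v) = (τ v)⁻¹ := by rw [hστ, hσv, map_inv]
  rw [hτv, map_mul, map_mul, map_inv, hσe, hσv] at h1
  have he1 : e = 1 := eq_one_of_braid hW hvW heW (by simpa [mul_assoc] using h1)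
  have hcomp : MulAut.conj (t * u) = σ * τ := map_mul _ _ _
  show MulAut.conj (t * u) v = v
  rw [hcomp, MulAut.mul_apply, hτv, he1, one_mul, mul_one, map_inv, hσv, inv_inv]

variable {I : Subgroup S} (hc : ∀ a ∈ I, ∀ b ∈ I, a * b = b * a) (hs : ∀ a ∈ I, a * a = 1)

omit [Finite S] in
include hc in
theorem fixed_invariant {W : Subgroup S} (hW : ∀ a ∈ I, ∀ w ∈ W, MulAut.conj a w ∈ W) {v : S}
    (hv : v ∈ I) : ∀ a ∈ I, ∀ w ∈ W ⊓ centralizer {v}, MulAut.conj a w ∈ W ⊓ centralizer {v} := by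
  intro a ha w hw
  refine ⟨hW a ha w hw.1, ?_⟩
  show MulAut.conj a w ∈ centralizer {v}
  rw [mem_centralizer_singleton_iff, MulAut.conj_apply]
  have h1 : w * v = v * w := mem_centralizer_singleton_iff.1 hw.2
  have h2 := hc a ha v hv
  have h3 : a⁻¹ * v = v * a⁻¹ := by
    rw [inv_mul_eq_iff_eq_mul, ← mul_assoc, h2, mul_assoc, mul_inv_cancel, mul_one]
  rw [mul_assoc _ a⁻¹, h3, ← mul_assoc, mul_assoc a w, h1, ← mul_assoc, h2, mul_assoc v a w,
    mul_assoc v]

include hc hs in
/-- An eigen element of prime order moved by `t`. -/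
theorem exists_eigen {W : Subgroup S} (hW : Odd (Nat.card W))
    (hWI : ∀ a ∈ I, ∀ w ∈ W, MulAut.conj a w ∈ W) {t : S} (ht : t ∈ I)
    (hmov : ∃ x ∈ W, MulAut.conj t x ≠ x) :
    ∃ y ∈ W, (orderOf y).Prime ∧ MulAut.conj t y = y⁻¹ ∧ y⁻¹ ≠ y ∧
      ∀ a ∈ I, MulAut.conj a y = y ∨ MulAut.conj a y = y⁻¹ := by
  classical
  haveI := Fintype.ofFinite S
  have main : ∀ s : Finset S, (∀ a ∈ s, a ∈ I) → ∃ V ≤ W, (∀ a ∈ I, ∀ w ∈ V, MulAut.conj a w ∈ V) ∧
      (∃ x ∈ V, MulAut.conj t x ≠ x) ∧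
      ∀ a ∈ s, (∀ w ∈ V, MulAut.conj a w = w) ∨ (∀ w ∈ V, MulAut.conj (t * a) w = w) := by
    intro s
    induction s using Finset.induction_on with
    | empty => exact fun _ => ⟨W, le_rfl, hWI, hmov, fun a ha => by simp at ha⟩
    | insert u s _ ih =>
      intro hsI
      obtain ⟨V, hVW, hV, hm, hall⟩ := ih fun v hv => hsI v (Finset.mem_insert_of_mem hv)
      have huI := hsI u (Finset.mem_insert_self u s)
      have hVo : Odd (Nat.card V) := hW.of_dvd_nat (card_dvd_of_le hVW)
      obtain ⟨v, hv, x, hxV, hxv, hxt⟩ := exists_moved_step hVo (hs t ht) (hs u huI)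
        (hc t ht u huI) (hV t ht) (hV u huI) hm
      have hvI : v ∈ I := by rcases hv with rfl | rfl; exacts [huI, mul_mem ht huI]
      have hmemc : ∀ w, w ∈ centralizer ({v} : Set S) → MulAut.conj v w = w := fun w hw =>
        conj_eq_self_iff.2 (mem_centralizer_singleton_iff.1 hw).symm
      refine ⟨V ⊓ centralizer {v}, inf_le_left.trans hVW, fixed_invariant hc hV hvI,
        ⟨x, ⟨hxV, mem_centralizer_singleton_iff.2 (conj_eq_self_iff.1 hxv).symm⟩, hxt⟩,
        fun w hw => ?_⟩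
      rcases Finset.mem_insert.1 hw with rfl | hw
      · rcases hv with rfl | rfl
        · exact Or.inl fun z hz => hmemc z hz.2
        · exact Or.inr fun z hz => hmemc z hz.2
      · exact (hall w hw).imp (fun h z hz => h z hz.1) (fun h z hz => h z hz.1)
  obtain ⟨V, hVW, hV, ⟨x, hxV, hx⟩, hall⟩ :=
    main (Finset.univ.filter (· ∈ I)) fun a ha => by simpa using ha
  set y₀ := x⁻¹ * MulAut.conj t x with hy₀
  have hy₀V : y₀ ∈ V := mul_mem (inv_mem hxV) (hV t ht _ hxV)
  have hty : MulAut.conj t y₀ = y₀⁻¹ := by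
    rw [hy₀, map_mul, map_inv, conj_self (hs t ht), mul_inv_rev, inv_inv]
  have hy1 : orderOf y₀ ≠ 1 := fun h => hx (inv_mul_eq_one.1 (orderOf_eq_one_iff.1 h)).symm
  obtain ⟨q, hq, hqd⟩ := Nat.exists_prime_and_dvd hy1
  have hord : orderOf (y₀ ^ (orderOf y₀ / q)) = q := by
    rw [orderOf_pow' _ (Nat.div_pos (Nat.le_of_dvd (orderOf_pos _) hqd) hq.pos).ne',
      Nat.gcd_eq_right (Nat.div_dvd_of_dvd hqd), Nat.div_div_self hqd (orderOf_pos _).ne']
  have hyW : y₀ ^ (orderOf y₀ / q) ∈ W := pow_mem (hVW hy₀V) _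
  refine ⟨_, hyW, hord.symm ▸ hq, by rw [map_pow, hty, inv_pow], fun h => ?_, fun a ha => ?_⟩
  · have := eq_one_of_eq_inv hW hyW h
    rw [this, orderOf_one] at hord
    exact hq.ne_one hord.symm
  · rcases hall a (by simpa using ha) with h | h
    · exact Or.inl (by rw [map_pow, h _ hy₀V])
    · right
      have h1 := h _ hy₀V
      rw [show MulAut.conj (t * a) = MulAut.conj a * MulAut.conj t by rw [hc t ht a ha, map_mul],
        MulAut.mul_apply, hty, map_inv, inv_eq_iff_eq_inv] at h1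
      rw [map_pow, h1, inv_pow]

include hc hs in
/-- The main construction. -/
theorem exists_family : ∀ (k : ℕ) (J W : Subgroup S), J ≤ I → Nat.card J = 2 ^ k →
    Group.IsNilpotent W → Odd (Nat.card W) → (∀ a ∈ I, ∀ w ∈ W, MulAut.conj a w ∈ W) →
    (∀ t ∈ J, (∀ w ∈ W, MulAut.conj t w = w) → t = 1) →
    ∃ f : Fin k → Subgroup S, (∀ i, (Nat.card ↥(f i)).Prime) ∧ (∀ i, f i ≤ W) ∧
      (∀ i, I ≤ normalizer ((f i) : Set S)) ∧
      (∀ i j, i ≠ j → ∀ a ∈ f i, ∀ b ∈ f j, a * b = b * a) ∧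
      Nat.card ↥(⨆ i, f i) = ∏ i, Nat.card ↥(f i) ∧
      (∀ t ∈ J, (∀ a ∈ ⨆ i, f i, MulAut.conj t a = a) → t = 1) ∧
      (∀ a ∈ ⨆ i, f i, (∀ t ∈ J, MulAut.conj t a = a) → a = 1) := by
  intro k
  induction k with
  | zero =>
    intro J W _ hJ _ _ _ _
    refine ⟨Fin.elim0, fun i => i.elim0, fun i => i.elim0, fun i => i.elim0,
      fun i => i.elim0, ?_, fun t ht _ => ?_, fun a ha _ => ?_⟩
    · simp
    · rw [pow_zero, card_eq_one] at hJ
      rwa [hJ, mem_bot] at ht
    · rwa [iSup_of_empty, mem_bot] at ha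
  | succ k ih =>
    intro J W hJI hJ hWn hWo hWI hfaith
    obtain ⟨t, htJ, ht1⟩ : ∃ t ∈ J, t ≠ (1 : S) := by
      by_contra h
      simp only [not_exists, not_and, not_not] at h
      rw [(Subgroup.eq_bot_iff_forall J).2 h, card_bot] at hJ
      exact absurd hJ.symm (Nat.one_lt_two_pow (by omega)).ne'
    obtain ⟨y, hyW, hyp, hty, hyne, hye⟩ := exists_eigen hc hs hWo hWI (hJI htJ)
      (by
        by_contra h
        simp only [not_exists, not_and, not_not] at h
        exact ht1 (hfaith t htJ h))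
    set J1 := J ⊓ centralizer {y} with hJ1def
    set W1 := W ⊓ centralizer {y} with hW1def
    have hfix : ∀ a, a ∈ centralizer ({y} : Set S) ↔ MulAut.conj a y = y := fun a => by
      rw [mem_centralizer_singleton_iff, conj_eq_self_iff, eq_comm]
    have hidx : (J1.subgroupOf J).index = 2 := by
      rw [index_eq_two_iff]
      refine ⟨⟨t, htJ⟩, fun b => ?_⟩
      simp only [mem_subgroupOf, hJ1def, mem_inf, coe_mul, hfix, map_mul, MulAut.mul_apply, hty,
        map_inv, SetLike.coe_mem, true_and, mul_mem b.2 htJ]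
      rcases hye b (hJI b.2) with h | h
      · exact Or.inr ⟨h, by rw [h]; exact hyne⟩
      · exact Or.inl ⟨by rw [h, inv_inv], by rw [h]; exact hyne⟩
    have hJ1c : Nat.card J1 = 2 ^ k := by
      have h1 := (J1.subgroupOf J).card_mul_index
      rw [hidx, hJ, Nat.card_congr (subgroupOfEquivOfLe (inf_le_left : J1 ≤ J)).toEquiv,
        pow_succ] at h1
      exact Nat.eq_of_mul_eq_mul_right Nat.two_pos h1
    have hW1n : Group.IsNilpotent W1 := by
      haveI := hWn
      exact Group.nilpotent_of_mulEquiv (subgroupOfEquivOfLe (inf_le_left : W1 ≤ W))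
    have hW1I : ∀ a ∈ I, ∀ w ∈ W1, MulAut.conj a w ∈ W1 := by
      intro a ha w hw
      refine ⟨hWI a ha w hw.1, ?_⟩
      show MulAut.conj a w ∈ centralizer {y}
      have h1 : MulAut.conj a (w * y) = MulAut.conj a (y * w) := by
        rw [mem_centralizer_singleton_iff.1 hw.2]
      rw [mem_centralizer_singleton_iff]
      rcases hye a ha with h | h <;> rw [map_mul, map_mul, h] at h1
      · exact h1
      · exact (Commute.inv_right_iff.1 h1)
    have hfaith1 : ∀ s ∈ J1, (∀ w ∈ W1, MulAut.conj s w = w) → s = 1 := by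
      intro s hs' h
      haveI := hWn
      refine hfaith s hs'.1 (fixed_of_fixed_centralizer hWo (hs s (hJI hs'.1)) (hWI s (hJI hs'.1))
        hyW ((hfix s).1 hs'.2) fun w hw hwy => h w ⟨hw, mem_centralizer_singleton_iff.2 hwy⟩)
    obtain ⟨f, f1, f2, f3, f4, f5, f6, f7⟩ := ih J1 W1 (inf_le_left.trans hJI) hJ1c hW1n
      (hWo.of_dvd_nat (card_dvd_of_le inf_le_left)) hW1I hfaith1
    set A := ⨆ i, f i with hA
    have hAW1 : A ≤ W1 := iSup_le f2
    have hAy : ∀ a ∈ A, a * y = y * a := fun a ha =>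
      mem_centralizer_singleton_iff.1 (hAW1 ha).2
    have hnorm : zpowers y ≤ normalizer (A : Set S) := by
      refine le_trans ?_ (centralizer_le_normalizer _)
      rw [zpowers_le, mem_centralizer_iff]
      exact fun a ha => hAy a ha
    have hyfix : ∀ s ∈ J1, ∀ z ∈ zpowers y, MulAut.conj s z = z := by
      rintro s hs' _ ⟨n, rfl⟩
      show MulAut.conj s (y ^ n) = y ^ n
      rw [map_zpow, (hfix s).1 hs'.2]
    have hzero : ∀ z ∈ zpowers y, MulAut.conj t z = z → z = 1 := by
      rintro _ ⟨n, rfl⟩ h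
      have h' : MulAut.conj t (y ^ n) = y ^ n := h
      rw [map_zpow, hty, inv_zpow] at h'
      exact eq_one_of_eq_inv hWo (zpow_mem hyW n) h'
    have hdisj : Disjoint (zpowers y) A := by
      rw [disjoint_iff, eq_bot_iff]
      intro z hz
      exact mem_bot.2 (f7 z hz.2 fun s hs' => hyfix s hs' z hz.1)
    have hsup : (⨆ i, (Fin.cons (zpowers y) f : Fin (k + 1) → Subgroup S) i) = zpowers y ⊔ A := by
      refine le_antisymm (iSup_le fun i => ?_) (sup_le ?_ (iSup_le fun i => ?_))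
      · induction i using Fin.cases with
        | zero => simp
        | succ j => simpa using le_sup_of_le_right (le_iSup f j)
      · exact le_iSup_of_le 0 (by simp)
      · exact le_iSup_of_le i.succ (by simp)
    have hIy : I ≤ normalizer (zpowers y : Set S) := by
      intro a ha
      refine Cfsg.Agent.Lib.Coprime.mem_normalizer_of_conj_smul_eq ?_
      rw [Cfsg.Agent.Lib.Coprime.conj_smul_eq_map, MonoidHom.map_zpowers]
      show zpowers (MulAut.conj a y) = zpowers y
      rcases hye a ha with h | h <;> rw [h]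
      exact zpowers_inv (g := y)
    refine ⟨Fin.cons (zpowers y) f, ?_, ?_, ?_, ?_, ?_, ?_, ?_⟩
    · intro i
      induction i using Fin.cases with
      | zero => simpa [Nat.card_zpowers] using hyp
      | succ j => simpa using f1 j
    · intro i
      induction i using Fin.cases with
      | zero => simpa [zpowers_le] using hyW
      | succ j => simpa using (f2 j).trans inf_le_left
    · intro i
      induction i using Fin.cases with
      | zero => simpa using hIy
      | succ j => simpa using f3 j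
    · intro i j hij
      have key : ∀ z ∈ zpowers y, ∀ a ∈ A, z * a = a * z := by
        rintro _ ⟨n, rfl⟩ a ha
        exact Commute.zpow_left (hAy a ha).symm n
      induction i using Fin.cases with
      | zero =>
        induction j using Fin.cases with
        | zero => exact absurd rfl hij
        | succ j =>
          simp only [Fin.cons_zero, Fin.cons_succ]
          exact fun a ha b hb => key a ha b (le_iSup f j hb)
      | succ i =>
        induction j using Fin.cases with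
        | zero =>
          simp only [Fin.cons_zero, Fin.cons_succ]
          exact fun a ha b hb => (key b hb a (le_iSup f i ha)).symm
        | succ j =>
          simp only [Fin.cons_succ]
          exact f4 i j fun h => hij (by rw [h])
    · rw [hsup, Fin.prod_univ_succ, Cfsg.Agent.Lib.Coprime.card_sup_of_disjoint hnorm hdisj, f5]
      simp
    · rw [hsup]
      intro s hs' h
      have hsy : s ∈ J1 := ⟨hs', (hfix s).2 (h y (mem_sup_left (mem_zpowers y)))⟩
      exact f6 s hsy fun a ha => h a (mem_sup_right ha)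
    · rw [hsup]
      intro z hz h
      obtain ⟨u, hu, a, ha, rfl⟩ := Cfsg.Agent.Lib.Coprime.exists_mul_of_mem_sup hnorm hz
      have ha1 : a = 1 := f7 a ha fun s hs' => by
        have := h s hs'.1
        rw [map_mul, hyfix s hs' u hu] at this
        exact mul_left_cancel this
      subst ha1
      simpa using hzero u hu (by simpa using h t htJ)

end Cfsg.Agent.Lib.CommutingPrimes76
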