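import Mathlib
import Cfsg.Agent.Lib.Spectrum.CoxeterAlt

/-!
`GL(4,2) ≅ A₈` by six matrices satisfying Moore's relations.
-/

set_option autoImplicit false

namespace Cfsg.Agent.Lib.GL4Two

open Cfsg.Agent.Lib.Spectrum

/-- Moore generators as matrices. -/
def mats : Fin 6 → Matrix (Fin 4) (Fin 4) (ZMod 2) :=
  ![!![0, 1, 0, 0; 1, 1, 0, 0; 0, 0, 0, 1; 0, 0, 1, 1],
    !![1, 0, 0, 0; 0, 1, 0, 0; 1, 0, 1, 0; 1, 1, 0, 1],
    !![0, 0, 1, 0; 0, 0, 1, 1; 1, 0, 0, 0; 1, 1, 0, 0],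
    !![1, 0, 0, 0; 1, 1, 0, 0; 1, 0, 1, 0; 1, 1, 1, 1],
    !![0, 1, 0, 0; 1, 0, 0, 0; 0, 0, 1, 1; 0, 0, 0, 1],
    !![1, 0, 0, 0; 1, 1, 0, 0; 0, 0, 1, 0; 0, 0, 1, 1]]

theorem mats_pow_six : ∀ i, mats i ^ 6 = 1 := by decide +kernel

/-- The generators in `GL(4,2)`. -/
def gens (i : Fin 6) : GL (Fin 4) (ZMod 2) where
  val := mats i
  inv := mats i ^ 5
  val_inv := by rw [← pow_succ', mats_pow_six]
  inv_val := by rw [← pow_succ, mats_pow_six]

theorem rel_three : mats 0 ^ 3 = 1 := by decide +kernel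

theorem rel_two : ∀ i : Fin 6, 1 ≤ i.val → mats i ^ 2 = 1 := by decide +kernel

theorem rel_braid : ∀ i j : Fin 6, j.val = i.val + 1 → (mats i * mats j) ^ 3 = 1 := by decide +kernel

theorem rel_comm : ∀ i j : Fin 6, i.val + 1 < j.val → (mats i * mats j) ^ 2 = 1 := by decide +kernel

theorem gens_rels : ∀ r ∈ CoxeterAlt.rels 6, FreeGroup.lift gens r = 1 := by
  rintro r (((⟨i, hi, rfl⟩ | ⟨i, hi, rfl⟩) | ⟨i, j, h, rfl⟩) | ⟨i, j, h, rfl⟩) <;>
    simp only [map_pow, map_mul, FreeGroup.lift_apply_of] <;> apply Units.ext <;>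
    simp only [Units.val_pow_eq_pow_val, Units.val_mul, Units.val_one, gens]
  · rw [show i = 0 from Fin.ext hi]; exact rel_three
  · exact rel_two i hi
  · exact rel_braid i j h
  · exact rel_comm i j h

/-- The map `A₈ → GL(4,2)`. -/
noncomputable def hom : alternatingGroup (Fin 8) →* GL (Fin 4) (ZMod 2) :=
  (PresentedGroup.toGroup gens_rels).comp (CoxeterAlt.presentedAltEquiv 6).symm.toMonoidHom

theorem hom_apply (i : Fin 6) : hom (CoxeterAlt.presentedAltEquiv 6 (PresentedGroup.of i)) = gens i := by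
  simp [hom]

theorem card_GL : Nat.card (GL (Fin 4) (ZMod 2)) = 20160 := by
  haveI : Fact (Nat.Prime 2) := ⟨Nat.prime_two⟩
  rw [Matrix.card_GL_field, ZMod.card]
  decide

theorem hom_bijective : Function.Bijective hom := by
  haveI : IsSimpleGroup (alternatingGroup (Fin 8)) := alternatingGroup.isSimpleGroup (by simp)
  have hinj : Function.Injective hom := by
    rw [← MonoidHom.ker_eq_bot_iff]
    refine ((MonoidHom.normal_ker hom).eq_bot_or_eq_top).resolve_right fun h => ?_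
    have h1 : gens 0 = 1 := by
      rw [← hom_apply 0]
      exact MonoidHom.mem_ker.1 (h ▸ Subgroup.mem_top _)
    have h2 : mats 0 = 1 := congrArg Units.val h1
    exact absurd h2 (by decide +kernel)
  refine hinj.bijective_of_nat_card_le ?_
  rw [card_GL, nat_card_alternatingGroup, Nat.card_fin]
  decide

/-- `GL(4,2) ≅ A₈`. -/
noncomputable def equiv : GL (Fin 4) (ZMod 2) ≃* alternatingGroup (Fin 8) :=
  (MulEquiv.ofBijective hom hom_bijective).symm

end Cfsg.Agent.Lib.GL4Two
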