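import Mathlib

/-!
# Derived length of `p`-subgroups of linear groups in characteristic prime to `p`

A `p`-group of linear transformations of an `m`-dimensional space over a field in which `p ≠ 0`
has derived length at most `log₂ m + 1`.
-/

set_option autoImplicit false
set_option maxHeartbeats 400000

namespace Cfsg.Agent.Lib.PSubgroupGL

universe u v

open Subgroup

section Basic

variable {K : Type u} {V : Type u} [Field K] [AddCommGroup V] [Module K V]
variable {P : Type v} [Group P] (ρ : P →* Module.End K V)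

/-- `U` is invariant under `ρ`. -/
def Inv (U : Submodule K V) : Prop := ∀ g : P, ∀ x ∈ U, ρ g x ∈ U

/-- `ρ` is irreducible. -/
def Irred : Prop := ∀ U : Submodule K V, Inv ρ U → U = ⊥ ∨ U = ⊤

theorem apply_inv_apply (g : P) (x : V) : ρ g (ρ g⁻¹ x) = x := by
  rw [← Module.End.mul_apply, ← map_mul, mul_inv_cancel, map_one, Module.End.one_apply]

theorem inv_apply_apply (g : P) (x : V) : ρ g⁻¹ (ρ g x) = x := by
  rw [← Module.End.mul_apply, ← map_mul, inv_mul_cancel, map_one, Module.End.one_apply]

theorem apply_injective (g : P) : Function.Injective (ρ g) :=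
  Function.LeftInverse.injective (inv_apply_apply ρ g)

/-- Restriction to an invariant subspace. -/
def res (U : Submodule K V) (hU : Inv ρ U) : P →* Module.End K U where
  toFun g := (ρ g).restrict (hU g)
  map_one' := by ext x; simp
  map_mul' g h := by ext x; simp

/-- The action on the quotient by an invariant subspace. -/
def quo (U : Submodule K V) (hU : Inv ρ U) : P →* Module.End K (V ⧸ U) where
  toFun g := U.mapQ U (ρ g) (hU g)
  map_one' := by ext x; simp
  map_mul' g h := by ext x; simp

theorem split {p : ℕ} (hp : IsPGroup p P) (hchar : (p : K) ≠ 0) (U : Submodule K V) (hU : Inv ρ U)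
    {g : P} (h1 : res ρ U hU g = 1) (h2 : quo ρ U hU g = 1) : ρ g = 1 := by
  obtain ⟨i, hi⟩ := hp g
  refine LinearMap.ext fun x => ?_
  have hw : ρ g x - x ∈ U := by
    have h3 := congrArg (fun f : Module.End K (V ⧸ U) => f (Submodule.Quotient.mk x)) h2
    simp only [quo, MonoidHom.coe_mk, OneHom.coe_mk, Submodule.mapQ_apply, Module.End.one_apply] at h3
    exact (Submodule.Quotient.eq U).1 h3
  have hfix : ρ g (ρ g x - x) = ρ g x - x := by
    have h3 := congrArg (fun f : Module.End K U => ((f ⟨ρ g x - x, hw⟩ : U) : V)) h1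
    simpa [res, LinearMap.restrict_apply] using h3
  have hpow : ∀ k : ℕ, ρ (g ^ k) x = x + (k : K) • (ρ g x - x) := by
    intro k
    induction k with
    | zero => simp
    | succ k ih =>
      rw [pow_succ', map_mul, Module.End.mul_apply, ih, map_add, map_smul, hfix]
      push_cast
      rw [add_smul, one_smul]
      abel
  have h4 := hpow (p ^ i)
  rw [hi, map_one, Module.End.one_apply, left_eq_add, Nat.cast_pow] at h4
  rw [Module.End.one_apply, ← sub_eq_zero]
  exact (smul_eq_zero.1 h4).resolve_left (pow_ne_zero _ hchar)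

theorem split_ker {p : ℕ} (hp : IsPGroup p P) (hchar : (p : K) ≠ 0) (U : Submodule K V)
    (hU : Inv ρ U) {D : Subgroup P} (h1 : D ≤ (res ρ U hU).ker) (h2 : D ≤ (quo ρ U hU).ker) :
    D ≤ ρ.ker := fun g hg =>
  MonoidHom.mem_ker.2 (split ρ hp hchar U hU (MonoidHom.mem_ker.1 (h1 hg)) (MonoidHom.mem_ker.1 (h2 hg)))

theorem exists_inv_of_not_irred (h : ¬ Irred ρ) : ∃ U : Submodule K V, Inv ρ U ∧ U ≠ ⊥ ∧ U ≠ ⊤ := by
  unfold Irred at h
  push Not at h
  exact h

/-- Passing to the quotient by the kernel. -/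
def faithful : P ⧸ ρ.ker →* Module.End K V := QuotientGroup.lift ρ.ker ρ le_rfl

theorem faithful_mk (g : P) : faithful ρ (g : P ⧸ ρ.ker) = ρ g := rfl

theorem faithful_injective : Function.Injective (faithful ρ) := by
  intro a b h
  obtain ⟨g, rfl⟩ := QuotientGroup.mk_surjective a
  obtain ⟨g', rfl⟩ := QuotientGroup.mk_surjective b
  rw [faithful_mk, faithful_mk] at h
  rw [QuotientGroup.eq, MonoidHom.mem_ker, map_mul, ← h, ← map_mul, inv_mul_cancel, map_one]

theorem irred_faithful (h : Irred ρ) : Irred (faithful ρ) := fun U hU =>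
  h U fun g x hx => hU (g : P ⧸ ρ.ker) x hx

theorem le_ker_of_faithful {n : ℕ} (h : derivedSeries (P ⧸ ρ.ker) n = ⊥) :
    derivedSeries P n ≤ ρ.ker := by
  intro g hg
  have h1 := map_derivedSeries_le_derivedSeries (QuotientGroup.mk' ρ.ker) n (mem_map_of_mem _ hg)
  rw [h, mem_bot] at h1
  exact (QuotientGroup.eq_one_iff g).1 h1

/-- The derived series drops by one step into a subgroup containing the commutator subgroup. -/
theorem derived_succ_le {M : Subgroup P} (hM : commutator P ≤ M) :
    ∀ k : ℕ, derivedSeries P (k + 1) ≤ (derivedSeries M k).map M.subtype := by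
  intro k
  induction k with
  | zero =>
    rw [derivedSeries_zero, ← MonoidHom.range_eq_map, Subgroup.range_subtype, derivedSeries_one]
    exact hM
  | succ k ih =>
    rw [derivedSeries_succ, derivedSeries_succ M k, Subgroup.map_commutator]
    exact Subgroup.commutator_mono ih ih

end Basic

/-- The bound, for spaces of dimension `m`. -/
def Bound (p m : ℕ) : Prop :=
  ∀ (K V : Type u) [Field K] [AddCommGroup V] [Module K V] [FiniteDimensional K V]
    (P : Type v) [Group P] [Finite P], IsPGroup p P → (p : K) ≠ 0 → ∀ ρ : P →* Module.End K V,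
    Module.finrank K V = m → derivedSeries P (Nat.log 2 m + 1) ≤ ρ.ker

theorem log_succ_le {m m' : ℕ} (hm : 2 ≤ m) (hm' : m' ≤ m / 2) :
    Nat.log 2 m' + 1 ≤ Nat.log 2 m := by
  have h := Nat.log_mono_right (b := 2) hm'
  rw [Nat.log_div_base] at h
  have := Nat.log_pos one_lt_two hm
  omega

section Steps

variable {p : ℕ} {K : Type u} {V : Type u} [Field K] [AddCommGroup V] [Module K V]
  [FiniteDimensional K V] {P : Type v} [Group P] [Finite P]

/-- A non-scalar element commuting with an irreducible representation gives a larger field. -/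
theorem extend_field (ρ : P →* Module.End K V) (hirr : Irred ρ) [Nontrivial V]
    (f : Module.End K V) (hf : ∀ g, Commute f (ρ g)) :
    ∃ (L : Type u) (_ : Field L) (_ : Algebra K L) (_ : FiniteDimensional K L) (_ : Module L V)
      (_ : FiniteDimensional L V) (ρ' : P →* Module.End L V) (φ : L),
      Module.finrank K L * Module.finrank L V = Module.finrank K V ∧
      (∀ g, ρ' g = 1 → ρ g = 1) ∧ (∀ x : V, φ • x = f x) ∧
      (f ∉ (⊥ : Subalgebra K (Module.End K V)) → 2 ≤ Module.finrank K L) := by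
  let S := Algebra.adjoin K ({f} : Set (Module.End K V))
  have hS : ∀ x ∈ S, ∀ g, Commute x (ρ g) := by
    have h : S ≤ Subalgebra.centralizer K (Set.range ρ) := Algebra.adjoin_le (by
      rintro _ rfl _ ⟨g, rfl⟩
      exact (hf g).eq.symm)
    intro x hx g
    exact (h hx (ρ g) ⟨g, rfl⟩).symm
  have hcomm : ∀ x y : S, x * y = y * x := by
    intro x y
    have h1 : S ≤ Subalgebra.centralizer K ({f} : Set (Module.End K V)) :=
      Algebra.adjoin_le (fun a ha b hb => by rw [Set.mem_singleton_iff] at ha hb; rw [ha, hb])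
    have h2 : S ≤ Subalgebra.centralizer K (S : Set (Module.End K V)) :=
      Algebra.adjoin_le (fun a ha y hy => by
        rw [Set.mem_singleton_iff] at ha; rw [ha]; exact (h1 hy f rfl).symm)
    exact Subtype.ext (h2 y.2 (x : Module.End K V) x.2)
  letI : CommRing S := { (inferInstance : Ring S) with mul_comm := hcomm }
  have hinj : ∀ x : S, x ≠ 0 → Function.Injective (x : Module.End K V) := by
    intro x hx
    rw [← LinearMap.ker_eq_bot]
    rcases hirr (LinearMap.ker (x : Module.End K V)) (fun g v hv => by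
      rw [LinearMap.mem_ker] at hv ⊢
      rw [← Module.End.mul_apply, (hS x x.2 g).eq, Module.End.mul_apply, hv, map_zero]) with h | h
    · exact h
    · exact absurd (Subtype.ext (LinearMap.ker_eq_top.1 h)) hx
  have : NoZeroDivisors S := ⟨fun {x y} h => by
    by_contra hne
    push Not at hne
    apply hne.2
    refine Subtype.ext (LinearMap.ext fun v => hinj x hne.1 ?_)
    have h' := congrArg (fun z : S => (z : Module.End K V) v) h
    simpa using h'⟩
  have : IsDomain S := NoZeroDivisors.to_isDomain _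
  letI : Field S := fieldOfFiniteDimensional K S
  let ρ' : P →* Module.End S V :=
    { toFun := fun g =>
        { toFun := ρ g
          map_add' := map_add (ρ g)
          map_smul' := fun s x => by
            show ρ g ((s : Module.End K V) x) = (s : Module.End K V) (ρ g x)
            rw [← Module.End.mul_apply, ← (hS s s.2 g).eq, Module.End.mul_apply] }
      map_one' := by ext x; simp
      map_mul' := fun g h => by ext x; simp }
  have hfin : FiniteDimensional S V := FiniteDimensional.right K S V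
  refine ⟨S, inferInstance, inferInstance, inferInstance, inferInstance, hfin, ρ',
    ⟨f, Algebra.self_mem_adjoin_singleton K f⟩, Module.finrank_mul_finrank K S V, fun g hg => ?_,
    fun x => rfl, fun hns => ?_⟩
  · exact LinearMap.ext fun x => congrArg (fun φ : Module.End S V => φ x) hg
  · have h1 : 0 < Module.finrank K S := Module.finrank_pos
    have h2 : Module.finrank K S ≠ 1 := fun h => hns (by
      have := Subalgebra.finrank_eq_one_iff.1 h
      exact this ▸ Algebra.self_mem_adjoin_singleton K f)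
    omega

theorem two_le_finrank_of_not_scalar {f : Module.End K V}
    (hns : f ∉ (⊥ : Subalgebra K (Module.End K V))) : 2 ≤ Module.finrank K V := by
  by_contra h
  apply hns
  rcases Nat.lt_or_ge (Module.finrank K V) 1 with h0 | h1
  · have : Subsingleton V := Module.finrank_zero_iff.1 (by omega : Module.finrank K V = 0)
    exact (Subsingleton.elim (0 : Module.End K V) f) ▸ Subalgebra.zero_mem _
  · obtain ⟨v, hv, hgen⟩ := (finrank_eq_one_iff' (K := K) (V := V)).1 (by omega)
    obtain ⟨c, hc⟩ := hgen (f v)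
    refine Algebra.mem_bot.2 ⟨c, LinearMap.ext fun x => ?_⟩
    obtain ⟨d, rfl⟩ := hgen x
    simp [← hc, smul_comm c d v]

theorem field_step {m : ℕ} (hp : IsPGroup p P) (hchar : (p : K) ≠ 0) (ρ : P →* Module.End K V)
    (hirr : Irred ρ) (hm : Module.finrank K V = m) (ih : ∀ m' < m, Bound.{u, v} p m')
    (f : Module.End K V) (hf : ∀ g, Commute f (ρ g))
    (hns : f ∉ (⊥ : Subalgebra K (Module.End K V))) :
    derivedSeries P (Nat.log 2 m) ≤ ρ.ker := by
  have h2 := two_le_finrank_of_not_scalar hns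
  have : Nontrivial V := Module.nontrivial_of_finrank_pos (R := K) (by omega)
  obtain ⟨L, _, _, _, _, _, ρ', φ, hmul, hker, -, hdim⟩ := extend_field ρ hirr f hf
  have hk := hdim hns
  have hcharL : (p : L) ≠ 0 := by
    rw [← map_natCast (algebraMap K L)]
    exact fun h => hchar ((algebraMap K L).injective (h.trans (map_zero _).symm))
  have hle : Module.finrank L V ≤ m / 2 := by
    rw [Nat.le_div_iff_mul_le two_pos, ← hm, ← hmul, mul_comm]
    exact Nat.mul_le_mul_right _ hk
  have h := ih (Module.finrank L V) (by omega) L V P hp hcharL ρ' rfl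
  intro g hg
  exact MonoidHom.mem_ker.2 (hker g (MonoidHom.mem_ker.1
    (h (derivedSeries_antitone _ (log_succ_le (by omega) hle) hg))))

theorem irred_case {m : ℕ} (hp : IsPGroup p P) [Fact p.Prime] (hchar : (p : K) ≠ 0)
    (ρ : P →* Module.End K V) (hirr : Irred ρ) (hinj : Function.Injective ρ)
    (hm : Module.finrank K V = m) (ih : ∀ m' < m, Bound.{u, v} p m') :
    derivedSeries P (Nat.log 2 m + 1) = ⊥ := by
  have hbot : ∀ {D : Subgroup P}, D ≤ ρ.ker → D = ⊥ := fun h => by
    rwa [(MonoidHom.ker_eq_bot_iff ρ).2 hinj, le_bot_iff] at h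
  by_cases hA : ∃ g : P, (∀ h, Commute g h) ∧ ρ g ∉ (⊥ : Subalgebra K (Module.End K V))
  · obtain ⟨g, hg, hns⟩ := hA
    exact le_bot_iff.1 ((derivedSeries_antitone _ (Nat.le_succ _)).trans
      (hbot (field_step hp hchar ρ hirr hm ih (ρ g) (fun h => (hg h).map ρ) hns)).le)
  push Not at hA
  by_cases hc : commutator P = ⊥
  · exact le_bot_iff.1 ((derivedSeries_antitone _ (Nat.succ_le_succ (Nat.zero_le _))).trans
      (le_of_eq (by rw [derivedSeries_one, hc])))
  have hZ : center P ≠ ⊤ := fun h => hc ((commutator_eq_bot_iff_center_eq_top _).2 h)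
  have : Nontrivial (P ⧸ center P) := by
    by_contra hn
    rw [not_nontrivial_iff_subsingleton, QuotientGroup.subsingleton_iff] at hn
    exact hZ hn
  have := (hp.to_quotient (center P)).center_nontrivial
  obtain ⟨⟨ā, hā⟩, hne⟩ := exists_ne (1 : center (P ⧸ center P))
  obtain ⟨a, rfl⟩ := QuotientGroup.mk_surjective ā
  have ha : a ∉ center P := fun h => hne (Subtype.ext ((QuotientGroup.eq_one_iff a).2 h))
  have hmemZ : ∀ g : P, g * a * g⁻¹ * a⁻¹ ∈ center P := fun g => by
    rw [← QuotientGroup.eq_one_iff]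
    have := mem_center_iff.1 hā (g : P ⧸ center P)
    simp only [QuotientGroup.mk_mul, QuotientGroup.mk_inv]
    rw [mul_inv_eq_one, mul_inv_eq_iff_eq_mul, this]
  let χ : P →* center P := MonoidHom.mk' (fun g => ⟨g * a * g⁻¹ * a⁻¹, hmemZ g⟩) fun g h => by
    refine Subtype.ext ?_
    show g * h * a * (g * h)⁻¹ * a⁻¹ = (g * a * g⁻¹ * a⁻¹) * (h * a * h⁻¹ * a⁻¹)
    have hcz := mem_center_iff.1 (hmemZ h)
    calc g * h * a * (g * h)⁻¹ * a⁻¹
        = g * (h * a * h⁻¹ * a⁻¹) * (a * g⁻¹ * a⁻¹) := by group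
      _ = (h * a * h⁻¹ * a⁻¹) * g * (a * g⁻¹ * a⁻¹) := by rw [hcz g]
      _ = (h * a * h⁻¹ * a⁻¹) * (g * a * g⁻¹ * a⁻¹) := by group
      _ = _ := (hcz _).symm
  set M := χ.ker with hM
  have hMc : commutator P ≤ M := by
    rw [commutator_def, Subgroup.commutator_le]
    intro g _ h _
    rw [hM, MonoidHom.mem_ker, map_commutatorElement, commutatorElement_eq_one_iff_mul_comm]
    exact Subtype.ext (mem_center_iff.1 (χ h).2 (χ g : P))
  have hMa : ∀ g ∈ M, Commute a g := fun g hg => by
    have h1 : g * a * g⁻¹ * a⁻¹ = 1 := congrArg Subtype.val hg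
    rw [mul_inv_eq_one, mul_inv_eq_iff_eq_mul] at h1
    exact h1.symm
  have hns : ρ a ∉ (⊥ : Subalgebra K (Module.End K V)) := fun h => by
    obtain ⟨c, hc⟩ := Algebra.mem_bot.1 h
    refine ha (mem_center_iff.2 fun g => hinj ?_)
    rw [map_mul, map_mul, ← hc]
    exact (Algebra.commutes c (ρ g)).symm
  let ρM := ρ.comp M.subtype
  suffices hkey : derivedSeries M (Nat.log 2 m) ≤ ρM.ker by
    refine le_bot_iff.1 ((derived_succ_le hMc _).trans ?_)
    rw [← (MonoidHom.ker_eq_bot_iff ρ).2 hinj]
    rintro _ ⟨g, hg, rfl⟩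
    exact hkey hg
  by_cases hMi : Irred ρM
  · exact field_step (hp.to_subgroup M) hchar ρM hMi hm ih (ρ a) (fun g => (hMa g g.2).map ρ) hns
  -- the reducible case
  obtain ⟨U, hUm, hUmin⟩ : ∃ U : Submodule K V, (Inv ρM U ∧ U ≠ ⊥ ∧ U ≠ ⊤) ∧
      ∀ W : Submodule K V, Inv ρM W → W ≠ ⊥ → ¬ W < U := by
    obtain ⟨U₁, hU₁⟩ := exists_inv_of_not_irred ρM hMi
    obtain ⟨U, hU, hmin⟩ := (IsWellFounded.wf (r := ((· < ·) : Submodule K V → Submodule K V → Prop))).has_min
      {U | Inv ρM U ∧ U ≠ ⊥ ∧ U ≠ ⊤} ⟨U₁, hU₁⟩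
    exact ⟨U, hU, fun W hW hW0 hlt => hmin W ⟨hW, hW0, ne_top_of_lt hlt⟩ hlt⟩
  obtain ⟨hUi, hU0, hUt⟩ := hUm
  have hMn : M.Normal := inferInstance
  let T : P → Submodule K V := fun g => U.map (ρ g)
  have hTi : ∀ g, Inv ρM (T g) := by
    rintro g w _ ⟨x, hx, rfl⟩
    show ρ (w : P) (ρ g x) ∈ U.map (ρ g)
    refine Submodule.mem_map.2 ⟨ρ (g⁻¹ * w * g⁻¹⁻¹) x, hUi ⟨_, hMn.conj_mem w w.2 g⁻¹⟩ x hx, ?_⟩
    show ρ g (ρ (g⁻¹ * (w : P) * g⁻¹⁻¹) x) = ρ (w : P) (ρ g x)
    rw [← Module.End.mul_apply, ← Module.End.mul_apply, ← map_mul, ← map_mul]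
    congr 2; group
  have hTd : ∀ g, Module.finrank K (T g) = Module.finrank K U := fun g =>
    (Submodule.equivMapOfInjective _ (apply_injective ρ g) U).finrank_eq.symm
  have hsum : (⨆ g, T g) = ⊤ := by
    refine (hirr (⨆ g, T g) ?_).resolve_left fun h => hU0 ?_
    · intro h x hx
      have hle : (⨆ g, T g).map (ρ h) ≤ ⨆ g, T g := by
        rw [Submodule.map_iSup]
        refine iSup_le fun g => le_iSup_of_le (h * g) ?_
        rintro _ ⟨_, ⟨y, hy, rfl⟩, rfl⟩
        exact ⟨y, hy, by rw [map_mul, Module.End.mul_apply]⟩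
      exact hle ⟨x, hx, rfl⟩
    · rw [eq_bot_iff, ← h]
      refine le_iSup_of_le 1 fun x hx => ⟨x, hx, ?_⟩
      rw [map_one, Module.End.one_apply]
  have hdimU : Module.finrank K U ≤ m / 2 := by
    obtain ⟨g, hg⟩ : ∃ g, ¬ T g ≤ U := by
      by_contra! h
      exact hUt (top_le_iff.1 (hsum ▸ iSup_le h))
    have hinf : U ⊓ T g = ⊥ := by
      by_contra hne
      rcases (inf_le_left : U ⊓ T g ≤ U).eq_or_lt with he | hlt
      · apply hg
        refine le_of_eq (Submodule.eq_of_le_of_finrank_eq ?_ (hTd g).symm).symm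
        exact he ▸ inf_le_right
      · exact hUmin (U ⊓ T g) (fun w x hx => ⟨hUi w x hx.1, hTi g w x hx.2⟩) hne hlt
    have h1 := Submodule.finrank_sup_add_finrank_inf_eq U (T g)
    rw [hinf, finrank_bot, hTd g, add_zero] at h1
    have h2 := Submodule.finrank_le (U ⊔ T g)
    rw [Nat.le_div_iff_mul_le two_pos]
    omega
  have hm2 : 2 ≤ m := by
    have : 0 < Module.finrank K U := by
      rw [Module.finrank_pos_iff, Submodule.nontrivial_iff_ne_bot]
      exact hU0
    omega
  intro w hw
  rw [MonoidHom.mem_ker]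
  refine LinearMap.ext fun x => ?_
  have hx : x ∈ ⨆ g, T g := hsum ▸ Submodule.mem_top
  have hle : (⨆ g, T g) ≤ LinearMap.eqLocus (ρM w) 1 := iSup_le fun g => fun y hy => by
    have h := ih (Module.finrank K (T g)) (by rw [hTd g]; omega) K (T g) M (hp.to_subgroup M) hchar
      (res ρM (T g) (hTi g)) rfl (derivedSeries_antitone _ (by rw [hTd g]; exact log_succ_le hm2 hdimU) hw)
    exact congrArg (fun φ : Module.End K (T g) => ((φ ⟨y, hy⟩ : T g) : V)) (MonoidHom.mem_ker.1 h)
  exact hle hx

end Steps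

theorem bound (p : ℕ) [Fact p.Prime] (m : ℕ) : Bound.{u, v} p m := by
  induction m using Nat.strong_induction_on with
  | _ m ih =>
    intro K V _ _ _ _ P _ _ hp hchar ρ hm
    by_cases hirr : Irred ρ
    · exact le_ker_of_faithful ρ (irred_case (hp.to_quotient _) hchar (faithful ρ)
        (irred_faithful ρ hirr) (faithful_injective ρ) hm ih)
    obtain ⟨U, hU, hU0, hUt⟩ := exists_inv_of_not_irred ρ hirr
    have h1 : Module.finrank K U < m := hm ▸ Submodule.finrank_lt hUt
    have h2 : Module.finrank K (V ⧸ U) < m := by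
      have := U.finrank_quotient_add_finrank
      have : 0 < Module.finrank K U := by
        rw [Module.finrank_pos_iff, Submodule.nontrivial_iff_ne_bot]
        exact hU0
      omega
    refine split_ker ρ hp hchar U hU
      ((derivedSeries_antitone _ ?_).trans (ih _ h1 K U P hp hchar (res ρ U hU) rfl))
      ((derivedSeries_antitone _ ?_).trans (ih _ h2 K (V ⧸ U) P hp hchar (quo ρ U hU) rfl))
    · exact Nat.succ_le_succ (Nat.log_mono_right h1.le)
    · exact Nat.succ_le_succ (Nat.log_mono_right h2.le)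

end Cfsg.Agent.Lib.PSubgroupGL
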