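import Mathlib.GroupTheory.Transfer
import Mathlib.GroupTheory.Sylow
import Mathlib.GroupTheory.Abelianization.Defs
import Mathlib.GroupTheory.PGroup

/-!
Finite groups with an element `x` of prime order `p` such that `C(x) = ⟨x⟩`.
-/

set_option autoImplicit false

namespace Cfsg.Agent.Lib.SelfCentral

variable {G : Type*} [Group G] [Finite G] {p : ℕ} {x : G}

theorem card_zpow (hx : orderOf x = p) : Nat.card (Subgroup.zpowers x) = p := by
  rw [Nat.card_zpowers, hx]

theorem zpowers_eq_of_ne_one (hp : p.Prime) (hx : orderOf x = p) {y : G}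
    (hy : y ∈ Subgroup.zpowers x) (hy1 : y ≠ 1) : Subgroup.zpowers y = Subgroup.zpowers x := by
  have hle : Subgroup.zpowers y ≤ Subgroup.zpowers x := Subgroup.zpowers_le.mpr hy
  refine Subgroup.eq_of_le_of_card_ge hle ?_
  rw [card_zpow hx, Nat.card_zpowers]
  rcases (Nat.dvd_prime hp).mp ((hx ▸ orderOf_dvd_of_mem_zpowers hy : orderOf y ∣ p)) with h | h
  · exact absurd (orderOf_eq_one_iff.mp h) hy1
  · omega

theorem mem_zpowers_of_commute (hC : Subgroup.centralizer ({x} : Set G) = Subgroup.zpowers x)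
    {g : G} (h : Commute g x) : g ∈ Subgroup.zpowers x := by
  rw [← hC, Subgroup.mem_centralizer_singleton_iff]
  exact h.eq

theorem commute_of_mem_zpowers {g : G} (h : g ∈ Subgroup.zpowers x) : Commute g x := by
  obtain ⟨k, rfl⟩ := Subgroup.mem_zpowers_iff.mp h
  exact (Commute.refl x).zpow_left k

theorem exists_sylow (hp : p.Prime) (hx : orderOf x = p)
    (hC : Subgroup.centralizer ({x} : Set G) = Subgroup.zpowers x) :
    ∃ P : Sylow p G, (P : Subgroup G) = Subgroup.zpowers x := by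
  have := Fact.mk hp
  have hX : IsPGroup p (Subgroup.zpowers x) := IsPGroup.of_card (n := 1) (by rw [card_zpow hx, pow_one])
  obtain ⟨P, hP⟩ := hX.exists_le_sylow
  refine ⟨P, le_antisymm ?_ hP⟩
  have hxP : x ∈ (P : Subgroup G) := hP (Subgroup.mem_zpowers x)
  have : Nontrivial (P : Subgroup G) :=
    ⟨⟨x, hxP⟩, 1, fun h => hp.one_lt.ne' (by rw [← hx, show x = 1 from congrArg Subtype.val h, orderOf_one])⟩
  have := P.2.center_nontrivial
  obtain ⟨z, hz⟩ := exists_ne (1 : Subgroup.center (P : Subgroup G))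
  have hzc : ∀ q : (P : Subgroup G), q * (z : (P : Subgroup G)) = (z : (P : Subgroup G)) * q :=
    Subgroup.mem_center_iff.mp z.2
  have hzx : ((z : (P : Subgroup G)) : G) ∈ Subgroup.zpowers x :=
    mem_zpowers_of_commute hC (congrArg Subtype.val (hzc ⟨x, hxP⟩)).symm
  have hz1 : ((z : (P : Subgroup G)) : G) ≠ 1 := fun h => hz (Subtype.ext (Subtype.ext h))
  intro q hq
  refine mem_zpowers_of_commute hC ?_
  have hxz : x ∈ Subgroup.zpowers ((z : (P : Subgroup G)) : G) := by
    rw [zpowers_eq_of_ne_one hp hx hzx hz1]; exact Subgroup.mem_zpowers x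
  obtain ⟨k, hk⟩ := Subgroup.mem_zpowers_iff.mp hxz
  rw [← hk]
  exact Commute.zpow_right (congrArg Subtype.val (hzc ⟨q, hq⟩)) k

theorem normalizer_comm (hC : Subgroup.centralizer ({x} : Set G) = Subgroup.zpowers x) {a b : G}
    (ha : a ∈ Subgroup.normalizer (Subgroup.zpowers x : Set G))
    (hb : b ∈ Subgroup.normalizer (Subgroup.zpowers x : Set G)) :
    a * b * a⁻¹ * b⁻¹ ∈ Subgroup.zpowers x := by
  obtain ⟨i, hi⟩ : ∃ i : ℤ, a * x * a⁻¹ = x ^ i := by
    obtain ⟨i, hi⟩ := Subgroup.mem_zpowers_iff.mp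
      ((Subgroup.mem_normalizer_iff.mp ha x).mp (Subgroup.mem_zpowers x))
    exact ⟨i, hi.symm⟩
  obtain ⟨j, hj⟩ : ∃ j : ℤ, b * x * b⁻¹ = x ^ j := by
    obtain ⟨j, hj⟩ := Subgroup.mem_zpowers_iff.mp
      ((Subgroup.mem_normalizer_iff.mp hb x).mp (Subgroup.mem_zpowers x))
    exact ⟨j, hj.symm⟩
  refine mem_zpowers_of_commute hC ?_
  have hab : a * b * x * (a * b)⁻¹ = x ^ (j * i) := by
    rw [show a * b * x * (a * b)⁻¹ = a * (b * x * b⁻¹) * a⁻¹ by group, hj, ← conj_zpow, hi, ← zpow_mul]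
    ring_nf
  have hba : b * a * x * (b * a)⁻¹ = x ^ (j * i) := by
    rw [show b * a * x * (b * a)⁻¹ = b * (a * x * a⁻¹) * b⁻¹ by group, hi, ← conj_zpow, hj, ← zpow_mul]
  have e : (b * a)⁻¹ * (a * b) * x = x * ((b * a)⁻¹ * (a * b)) := by
    calc (b * a)⁻¹ * (a * b) * x = (b * a)⁻¹ * (a * b * x * (a * b)⁻¹) * (a * b) := by group
      _ = (b * a)⁻¹ * (b * a * x * (b * a)⁻¹) * (a * b) := by rw [hab, hba]
      _ = x * ((b * a)⁻¹ * (a * b)) := by group
  have hc : Commute ((b * a)⁻¹ * (a * b)) x := e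
  have hmem := mem_zpowers_of_commute hC hc
  have hn : b * a ∈ Subgroup.normalizer (Subgroup.zpowers x : Set G) := mul_mem hb ha
  have := (Subgroup.mem_normalizer_iff.mp hn _).mp hmem
  rw [show (b * a) * ((b * a)⁻¹ * (a * b)) * (b * a)⁻¹ = a * b * a⁻¹ * b⁻¹ by group] at this
  exact (commute_of_mem_zpowers this).eq

theorem zpowers_le_of_dvd (hp : p.Prime) (hx : orderOf x = p)
    (hC : Subgroup.centralizer ({x} : Set G) = Subgroup.zpowers x) (S : Subgroup G) [hS : S.Normal]
    (h : p ∣ Nat.card S) : Subgroup.zpowers x ≤ S := by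
  have := Fact.mk hp
  obtain ⟨P, hP⟩ := exists_sylow hp hx hC
  obtain ⟨y, hy⟩ := exists_prime_orderOf_dvd_card' p h
  have hY : IsPGroup p (Subgroup.zpowers (y : G)) :=
    IsPGroup.of_card (n := 1) (by rw [Nat.card_zpowers, Subgroup.orderOf_coe, hy, pow_one])
  obtain ⟨Q, hQ⟩ := hY.exists_le_sylow
  obtain ⟨g, rfl⟩ := MulAction.exists_smul_eq G P Q
  have hy' : g⁻¹ * y * g ∈ Subgroup.zpowers x := by
    have := hQ (Subgroup.mem_zpowers (y : G))
    rw [Sylow.coe_subgroup_smul, Subgroup.mem_pointwise_smul_iff_inv_smul_mem, hP] at this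
    simpa [MulAut.conj_apply] using this
  have hne : g⁻¹ * y * g ≠ 1 := by
    intro h1
    have h2 : (y : G) = 1 := by
      calc (y : G) = g * (g⁻¹ * y * g) * g⁻¹ := by group
        _ = 1 := by rw [h1]; group
    rw [← Subgroup.orderOf_coe, h2, orderOf_one] at hy
    exact hp.ne_one hy.symm
  rw [← zpowers_eq_of_ne_one hp hx hy' hne, Subgroup.zpowers_le]
  simpa using hS.conj_mem y y.2 g⁻¹

theorem commutator_le_of_dvd (hp : p.Prime) (hx : orderOf x = p)
    (hC : Subgroup.centralizer ({x} : Set G) = Subgroup.zpowers x) (S : Subgroup G) [S.Normal]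
    (h : p ∣ Nat.card S) : commutator G ≤ S := by
  have := Fact.mk hp
  obtain ⟨P, hP⟩ := exists_sylow hp hx hC
  have hle := zpowers_le_of_dvd hp hx hC S h
  have hsup : Subgroup.normalizer ((P : Subgroup G) : Set G) ⊔ S = ⊤ :=
    P.normalizer_sup_eq_top' (hP ▸ hle : (P : Subgroup G) ≤ S)
  rw [commutator_def, Subgroup.commutator_le]
  intro a _ b _
  rw [← QuotientGroup.eq_one_iff]
  have key : ∀ g : G, ∃ n ∈ Subgroup.normalizer (Subgroup.zpowers x : Set G),
      (g : G ⧸ S) = (n : G ⧸ S) := by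
    intro g
    have hg : g ∈ Subgroup.normalizer ((P : Subgroup G) : Set G) ⊔ S := by rw [hsup]; trivial
    obtain ⟨n, hn, s, hs, rfl⟩ := Subgroup.mem_sup_of_normal_right.mp hg
    refine ⟨n, hP ▸ hn, ?_⟩
    rw [QuotientGroup.mk_mul, (QuotientGroup.eq_one_iff s).mpr hs, mul_one]
  obtain ⟨m, hm, ea⟩ := key a
  obtain ⟨n, hn, eb⟩ := key b
  rw [commutatorElement_def, QuotientGroup.mk_mul, QuotientGroup.mk_mul, QuotientGroup.mk_mul,
    QuotientGroup.mk_inv, QuotientGroup.mk_inv, ea, eb, ← QuotientGroup.mk_inv, ← QuotientGroup.mk_inv,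
    ← QuotientGroup.mk_mul, ← QuotientGroup.mk_mul, ← QuotientGroup.mk_mul, QuotientGroup.eq_one_iff]
  exact hle (normalizer_comm hC hm hn)

theorem eq_one_of_commute (hp : p.Prime) (hx : orderOf x = p)
    (hC : Subgroup.centralizer ({x} : Set G) = Subgroup.zpowers x) {S : Subgroup G}
    (h : ¬ p ∣ Nat.card S) {s : G} (hs : s ∈ S) (hc : s ∈ Subgroup.zpowers x) : s = 1 := by
  by_contra h1
  refine h ?_
  have h2 : orderOf s = p := by
    rw [← Nat.card_zpowers, zpowers_eq_of_ne_one hp hx hc h1, card_zpow hx]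
  rw [← h2]
  show orderOf ((⟨s, hs⟩ : S) : G) ∣ Nat.card S
  rw [Subgroup.orderOf_coe]
  exact orderOf_dvd_natCard _

theorem exists_commutator (hp : p.Prime) (hx : orderOf x = p)
    (hC : Subgroup.centralizer ({x} : Set G) = Subgroup.zpowers x) (S : Subgroup G) [hS : S.Normal]
    (h : ¬ p ∣ Nat.card S) {u : G} (hu : u ∈ S) : ∃ s ∈ S, s * x * s⁻¹ * x⁻¹ = u := by
  let f : S → S := fun s => ⟨s * x * (s : G)⁻¹ * x⁻¹, by
    rw [show (s : G) * x * (s : G)⁻¹ * x⁻¹ = s * (x * (s : G)⁻¹ * x⁻¹) by group]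
    exact mul_mem s.2 (hS.conj_mem _ (inv_mem s.2) x)⟩
  have hf : Function.Injective f := by
    intro a b hab
    have e : (a : G) * x * (a : G)⁻¹ = b * x * (b : G)⁻¹ :=
      mul_right_cancel (congrArg Subtype.val hab)
    have hc : Commute ((b : G)⁻¹ * a) x := by
      show (b : G)⁻¹ * a * x = x * ((b : G)⁻¹ * a)
      calc (b : G)⁻¹ * a * x = (b : G)⁻¹ * (a * x * (a : G)⁻¹) * a := by group
        _ = x * ((b : G)⁻¹ * a) := by rw [e]; group
    have := eq_one_of_commute hp hx hC h (mul_mem (inv_mem b.2) a.2) (mem_zpowers_of_commute hC hc)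
    exact Subtype.ext (inv_mul_eq_one.mp this).symm
  obtain ⟨s, hs⟩ := Finite.surjective_of_injective hf ⟨u, hu⟩
  exact ⟨s, s.2, congrArg Subtype.val hs⟩

theorem le_commutator (hp : p.Prime) (hx : orderOf x = p)
    (hC : Subgroup.centralizer ({x} : Set G) = Subgroup.zpowers x) (S : Subgroup G) [S.Normal]
    (h : ¬ p ∣ Nat.card S) : S ≤ commutator G := by
  intro u hu
  obtain ⟨s, hs, rfl⟩ := exists_commutator hp hx hC S h hu
  rw [commutator_def]
  exact Subgroup.commutator_mem_commutator (Subgroup.mem_top s) (Subgroup.mem_top x)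

theorem orderOf_mk (hp : p.Prime) (hx : orderOf x = p)
    (hC : Subgroup.centralizer ({x} : Set G) = Subgroup.zpowers x) (S : Subgroup G) [S.Normal]
    (h : ¬ p ∣ Nat.card S) : orderOf (QuotientGroup.mk x : G ⧸ S) = p := by
  have h1 : orderOf (QuotientGroup.mk x : G ⧸ S) ∣ p := hx ▸ orderOf_map_dvd (QuotientGroup.mk' S) x
  rcases (Nat.dvd_prime hp).mp h1 with h2 | h2
  · rw [orderOf_eq_one_iff, QuotientGroup.eq_one_iff] at h2
    have := eq_one_of_commute hp hx hC h h2 (Subgroup.mem_zpowers x)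
    rw [this, orderOf_one] at hx
    exact absurd hx.symm hp.ne_one
  · exact h2

theorem centralizer_mk (hp : p.Prime) (hx : orderOf x = p)
    (hC : Subgroup.centralizer ({x} : Set G) = Subgroup.zpowers x) (S : Subgroup G) [S.Normal]
    (h : ¬ p ∣ Nat.card S) :
    Subgroup.centralizer ({(QuotientGroup.mk x : G ⧸ S)} : Set (G ⧸ S)) =
      Subgroup.zpowers (QuotientGroup.mk x : G ⧸ S) := by
  refine le_antisymm (fun q hq => ?_) ?_
  · obtain ⟨g, rfl⟩ := QuotientGroup.mk_surjective q
    rw [Subgroup.mem_centralizer_singleton_iff] at hq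
    have hmem : g * x * g⁻¹ * x⁻¹ ∈ S := by
      rw [← QuotientGroup.eq_one_iff, QuotientGroup.mk_mul, QuotientGroup.mk_mul,
        QuotientGroup.mk_mul, QuotientGroup.mk_inv, QuotientGroup.mk_inv, hq]
      group
    obtain ⟨s, hs, e⟩ := exists_commutator hp hx hC S h hmem
    have e' : s * x * s⁻¹ = g * x * g⁻¹ := mul_right_cancel e
    have hc : Commute (s⁻¹ * g) x := by
      show s⁻¹ * g * x = x * (s⁻¹ * g)
      calc s⁻¹ * g * x = s⁻¹ * (g * x * g⁻¹) * g := by group
        _ = x * (s⁻¹ * g) := by rw [← e']; group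
    obtain ⟨k, hk⟩ := Subgroup.mem_zpowers_iff.mp (mem_zpowers_of_commute hC hc)
    refine Subgroup.mem_zpowers_iff.mpr ⟨k, ?_⟩
    rw [← QuotientGroup.mk_zpow, hk, QuotientGroup.mk_mul, QuotientGroup.mk_inv,
      (QuotientGroup.eq_one_iff s).mpr hs, inv_one, one_mul]
  · rw [Subgroup.zpowers_le, Subgroup.mem_centralizer_singleton_iff]

theorem card_subgroups_eq_index (hp : p.Prime) (hx : orderOf x = p)
    (hC : Subgroup.centralizer ({x} : Set G) = Subgroup.zpowers x) :
    Nat.card {H : Subgroup G // Nat.card H = p} =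
      (Subgroup.normalizer (Subgroup.zpowers x : Set G)).index := by
  have := Fact.mk hp
  obtain ⟨P, hP⟩ := exists_sylow hp hx hC
  have hcard : ∀ Q : Sylow p G, Nat.card (Q : Subgroup G) = p := by
    intro Q
    rw [Q.card_eq_multiplicity, ← P.card_eq_multiplicity, hP, card_zpow hx]
  let e : Sylow p G ≃ {H : Subgroup G // Nat.card H = p} :=
    Equiv.ofBijective (fun Q => ⟨(Q : Subgroup G), hcard Q⟩)
      ⟨fun Q R h => Sylow.ext (congrArg Subtype.val h), fun H => by
        obtain ⟨Q, hQ⟩ := (IsPGroup.of_card (n := 1) (G := H.1) (by rw [H.2, pow_one])).exists_le_sylow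
        exact ⟨Q, Subtype.ext (Subgroup.eq_of_le_of_card_ge hQ (by rw [hcard Q, H.2])).symm⟩⟩
  rw [← Nat.card_congr e, P.card_eq_index_normalizer, ← hP]
  rfl

theorem card_dvd_index_normalizer (hp : p.Prime) (hx : orderOf x = p)
    (hC : Subgroup.centralizer ({x} : Set G) = Subgroup.zpowers x) (S : Subgroup G) [hS : S.Normal]
    (h : ¬ p ∣ Nat.card S) :
    Nat.card S ∣ (Subgroup.normalizer (Subgroup.zpowers x : Set G)).index := by
  set N := Subgroup.normalizer (Subgroup.zpowers x : Set G) with hN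
  have hker : ∀ n ∈ N, n ∈ S → n = 1 := by
    intro s hs hsS
    refine eq_one_of_commute hp hx hC h hsS (mem_zpowers_of_commute hC ?_)
    have h1 : s * x * s⁻¹ * x⁻¹ ∈ Subgroup.zpowers x :=
      mul_mem ((Subgroup.mem_normalizer_iff.mp hs x).mp (Subgroup.mem_zpowers x))
        (inv_mem (Subgroup.mem_zpowers x))
    have h2 : s * x * s⁻¹ * x⁻¹ ∈ S := by
      rw [show s * x * s⁻¹ * x⁻¹ = s * (x * s⁻¹ * x⁻¹) by group]
      exact mul_mem hsS (hS.conj_mem _ (inv_mem hsS) x)
    have h3 := eq_one_of_commute hp hx hC h h2 h1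
    show s * x = x * s
    calc s * x = (s * x * s⁻¹ * x⁻¹) * (x * s) := by group
      _ = x * s := by rw [h3, one_mul]
  let f : N →* G ⧸ S := (QuotientGroup.mk' S).comp N.subtype
  have hf : Function.Injective f := by
    rw [injective_iff_map_eq_one]
    intro n hn
    exact Subtype.ext (hker n n.2 ((QuotientGroup.eq_one_iff (n : G)).mp hn))
  have hr : Nat.card f.range = Nat.card N := (Nat.card_congr (MonoidHom.ofInjective hf).toEquiv).symm
  refine ⟨f.range.index, Nat.eq_of_mul_eq_mul_left (Nat.card_pos (α := N)) ?_⟩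
  rw [Subgroup.card_mul_index, Subgroup.card_eq_card_quotient_mul_card_subgroup S,
    ← Subgroup.card_mul_index f.range, hr]
  ring

theorem card_modEq_one (hp : p.Prime) (hx : orderOf x = p)
    (hC : Subgroup.centralizer ({x} : Set G) = Subgroup.zpowers x) (S : Subgroup G) [S.Normal]
    (h : ¬ p ∣ Nat.card S) : Nat.card S % p = 1 := by
  have := Fact.mk hp
  let φ : Subgroup.zpowers x →* MulAut S :=
    (MulAut.conjNormal (H := S)).comp (Subgroup.zpowers x).subtype
  letI := MulAction.compHom S φ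
  have hX : IsPGroup p (Subgroup.zpowers x) := IsPGroup.of_card (n := 1) (by rw [card_zpow hx, pow_one])
  have h1 := hX.card_modEq_card_fixedPoints S
  have h2 : MulAction.fixedPoints (Subgroup.zpowers x) S = {1} := by
    ext s
    simp only [MulAction.mem_fixedPoints, Set.mem_singleton_iff]
    constructor
    · intro hs
      have h3 := congrArg Subtype.val (hs ⟨x, Subgroup.mem_zpowers x⟩)
      change x * (s : G) * x⁻¹ = s at h3
      refine Subtype.ext (eq_one_of_commute hp hx hC h s.2 (mem_zpowers_of_commute hC ?_))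
      exact (mul_inv_eq_iff_eq_mul.mp h3).symm
    · rintro rfl g
      exact map_one (φ g)
  rw [h2] at h1
  rw [Nat.ModEq, show Nat.card ({1} : Set S) = 1 from Nat.card_unique, Nat.mod_eq_of_lt hp.one_lt] at h1
  exact h1

theorem classes_mul_relIndex (hp : p.Prime) (hx : orderOf x = p)
    (hC : Subgroup.centralizer ({x} : Set G) = Subgroup.zpowers x) :
    Nat.card {C : ConjClasses G // ∃ g ∈ C.carrier, orderOf g = p} *
      (Subgroup.zpowers x).relIndex (Subgroup.normalizer (Subgroup.zpowers x : Set G)) = p - 1 := by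
  classical
  have := Fact.mk hp
  set X := Subgroup.zpowers x with hX
  set N := Subgroup.normalizer (X : Set G) with hN
  obtain ⟨P, hP⟩ := exists_sylow hp hx hC
  have hord : ∀ y ∈ X, y ≠ 1 → orderOf y = p := fun y hy hy1 => by
    rw [← Nat.card_zpowers, zpowers_eq_of_ne_one hp hx hy hy1, card_zpow hx]
  let T := {y : X // y ≠ 1}
  let Cl := {C : ConjClasses G // ∃ g ∈ C.carrier, orderOf g = p}
  let π : T → Cl := fun y => ⟨ConjClasses.mk ((y.1 : X) : G), ((y.1 : X) : G), ConjClasses.mem_carrier_mk,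
    hord _ y.1.2 fun h => y.2 (Subtype.ext h)⟩
  have hfib : ∀ C : Cl, Nat.card {y : T // π y = C} = X.relIndex N := by
    rintro ⟨C, g, hg, hgo⟩
    have hY : IsPGroup p (Subgroup.zpowers g) :=
      IsPGroup.of_card (n := 1) (by rw [Nat.card_zpowers, hgo, pow_one])
    obtain ⟨Q, hQ⟩ := hY.exists_le_sylow
    obtain ⟨u, rfl⟩ := MulAction.exists_smul_eq G P Q
    set z := u⁻¹ * g * u with hzdef
    have hzX : z ∈ X := by
      have := hQ (Subgroup.mem_zpowers g)
      rw [Sylow.coe_subgroup_smul, Subgroup.mem_pointwise_smul_iff_inv_smul_mem, hP] at this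
      simpa [MulAut.conj_apply, hzdef] using this
    have hz1 : z ≠ 1 := by
      intro h1
      have : g = 1 := by
        calc g = u * z * u⁻¹ := by rw [hzdef]; group
          _ = 1 := by rw [h1]; group
      rw [this, orderOf_one] at hgo
      exact hp.ne_one hgo.symm
    have hCz : C = ConjClasses.mk z := by
      rw [← ConjClasses.mem_carrier_iff_mk_eq.mp hg, ConjClasses.mk_eq_mk_iff_isConj, isConj_iff]
      exact ⟨u⁻¹, by rw [hzdef]; group⟩
    have hxz : x ∈ Subgroup.zpowers z := by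
      rw [zpowers_eq_of_ne_one hp hx hzX hz1]; exact Subgroup.mem_zpowers x
    let F : N → {y : T // π y = ⟨C, g, hg, hgo⟩} := fun n =>
      ⟨⟨⟨n * z * (n : G)⁻¹, (Subgroup.mem_normalizer_iff.mp n.2 z).mp hzX⟩, fun h =>
        hz1 (conj_eq_one_iff.mp (congrArg Subtype.val h))⟩, Subtype.ext (by
          show ConjClasses.mk ((n : G) * z * (n : G)⁻¹) = C
          rw [hCz, ConjClasses.mk_eq_mk_iff_isConj, isConj_iff]
          exact ⟨(n : G)⁻¹, by group⟩)⟩
    have hFeq : ∀ m n : N, F m = F n ↔ (m : N ⧸ X.subgroupOf N) = (n : N ⧸ X.subgroupOf N) := by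
      intro m n
      rw [QuotientGroup.eq, Subgroup.mem_subgroupOf, Subgroup.coe_mul, Subgroup.coe_inv]
      have key : F m = F n ↔ Commute ((m : G)⁻¹ * n) z := by
        constructor
        · intro h
          have e : (m : G) * z * (m : G)⁻¹ = n * z * (n : G)⁻¹ :=
            congrArg (fun y : {y : T // π y = ⟨C, g, hg, hgo⟩} => ((y.1.1 : X) : G)) h
          show (m : G)⁻¹ * n * z = z * ((m : G)⁻¹ * n)
          calc (m : G)⁻¹ * n * z = (m : G)⁻¹ * (n * z * (n : G)⁻¹) * n := by group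
            _ = z * ((m : G)⁻¹ * n) := by rw [← e]; group
        · intro h
          refine Subtype.ext (Subtype.ext (Subtype.ext ?_))
          show (m : G) * z * (m : G)⁻¹ = n * z * (n : G)⁻¹
          calc (m : G) * z * (m : G)⁻¹ = m * (z * ((m : G)⁻¹ * n)) * (n : G)⁻¹ := by group
            _ = n * z * (n : G)⁻¹ := by rw [← h.eq]; group
      rw [key]
      constructor
      · intro h
        obtain ⟨k, hk⟩ := Subgroup.mem_zpowers_iff.mp hxz
        exact mem_zpowers_of_commute hC (hk ▸ h.zpow_right k)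
      · intro h
        obtain ⟨k, hk⟩ := Subgroup.mem_zpowers_iff.mp hzX
        exact hk ▸ (commute_of_mem_zpowers h).zpow_right k
    have hsurj : Function.Surjective F := by
      rintro ⟨y, hy⟩
      obtain ⟨w, hw⟩ : ∃ w, w * z * w⁻¹ = ((y.1 : X) : G) := by
        have e := congrArg Subtype.val hy
        change ConjClasses.mk ((y.1 : X) : G) = C at e
        rw [hCz, ConjClasses.mk_eq_mk_iff_isConj, isConj_comm, isConj_iff] at e
        exact e
      have hwN : w ∈ N := by
        rw [hN, Subgroup.mem_normalizer_iff_map_conj_eq]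
        have hzz : Subgroup.zpowers z = X := zpowers_eq_of_ne_one hp hx hzX hz1
        conv_lhs => rw [← hzz, MonoidHom.map_zpowers]
        simp only [MonoidHom.coe_coe, MulAut.conj_apply, hw]
        exact zpowers_eq_of_ne_one hp hx y.1.2 fun h => y.2 (Subtype.ext h)
      exact ⟨⟨w, hwN⟩, Subtype.ext (Subtype.ext (Subtype.ext hw))⟩
    rw [Subgroup.relIndex, Subgroup.index_eq_card]
    refine (Nat.card_congr (Equiv.ofBijective (fun q : N ⧸ X.subgroupOf N => F q.out) ⟨?_, ?_⟩)).symm
    · intro a b hab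
      have := (hFeq _ _).mp hab
      rwa [QuotientGroup.out_eq', QuotientGroup.out_eq'] at this
    · intro y
      obtain ⟨n, rfl⟩ := hsurj y
      exact ⟨(n : N ⧸ X.subgroupOf N), (hFeq _ _).mpr (QuotientGroup.out_eq' _)⟩
  have h1 : Nat.card T = p - 1 := by
    letI := Fintype.ofFinite X
    rw [Nat.card_eq_fintype_card, Fintype.card_subtype_compl, Fintype.card_subtype_eq,
      ← Nat.card_eq_fintype_card, card_zpow hx]
  rw [← h1, ← Nat.card_congr (Equiv.sigmaFiberEquiv π)]
  have : Finite (ConjClasses G) := Quotient.finite _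
  have hfin : Finite Cl := Subtype.finite
  letI := Fintype.ofFinite Cl
  rw [Nat.card_sigma]
  simp only [hfib, Finset.sum_const, Finset.card_univ, smul_eq_mul]
  rw [Nat.card_eq_fintype_card]

theorem exists_complement (hp : p.Prime) (hx : orderOf x = p)
    (hC : Subgroup.centralizer ({x} : Set G) = Subgroup.zpowers x)
    (he : (Subgroup.zpowers x).relIndex (Subgroup.normalizer (Subgroup.zpowers x : Set G)) = 1) :
    ¬ p ∣ Nat.card (commutator G) ∧ (commutator G).index = p := by
  have := Fact.mk hp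
  obtain ⟨P, hP⟩ := exists_sylow hp hx hC
  rw [Subgroup.relIndex_eq_one, ← hP] at he
  have hcen : Subgroup.normalizer ((P : Subgroup G) : Set G) ≤
      Subgroup.centralizer ((P : Subgroup G) : Set G) := by
    intro n hn y hy
    have h1 : n ∈ Subgroup.zpowers x := hP ▸ he hn
    rw [hP] at hy
    obtain ⟨k, rfl⟩ := Subgroup.mem_zpowers_iff.mp hy
    exact ((commute_of_mem_zpowers h1).zpow_right k).symm.eq
  set K := (MonoidHom.transferSylow P hcen).ker with hK
  have hnd : ¬ p ∣ Nat.card K := MonoidHom.not_dvd_card_ker_transferSylow P hcen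
  have hidx : K.index = p := by
    rw [(MonoidHom.ker_transferSylow_isComplement' P hcen).symm.index_eq_card, hP, card_zpow hx]
  have h2 : K ≤ commutator G := le_commutator hp hx hC K hnd
  have h3 : commutator G ≤ K := by
    have : IsMulCommutative (G ⧸ K) :=
      (isCyclic_of_prime_card (p := p) (by rw [← Subgroup.index_eq_card, hidx])).isMulCommutative
    rw [commutator_def, Subgroup.commutator_le]
    intro a _ b _
    rw [← QuotientGroup.eq_one_iff, commutatorElement_def, QuotientGroup.mk_mul, QuotientGroup.mk_mul,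
      QuotientGroup.mk_mul, QuotientGroup.mk_inv, QuotientGroup.mk_inv,
      mul_comm' (a : G ⧸ K) (b : G ⧸ K)]
    group
  rw [le_antisymm h3 h2]
  exact ⟨hnd, hidx⟩

theorem zpowers_le_commutator (hp : p.Prime) (hx : orderOf x = p)
    (hC : Subgroup.centralizer ({x} : Set G) = Subgroup.zpowers x)
    (he : (Subgroup.zpowers x).relIndex (Subgroup.normalizer (Subgroup.zpowers x : Set G)) ≠ 1) :
    Subgroup.zpowers x ≤ commutator G := by
  rw [ne_eq, Subgroup.relIndex_eq_one] at he
  obtain ⟨n, hn, hnX⟩ := SetLike.not_le_iff_exists.mp he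
  have h1 : n * x * n⁻¹ * x⁻¹ ∈ Subgroup.zpowers x :=
    mul_mem ((Subgroup.mem_normalizer_iff.mp hn x).mp (Subgroup.mem_zpowers x))
      (inv_mem (Subgroup.mem_zpowers x))
  have h2 : n * x * n⁻¹ * x⁻¹ ≠ 1 := fun h => hnX (mem_zpowers_of_commute hC (by
    show n * x = x * n
    calc n * x = (n * x * n⁻¹ * x⁻¹) * (x * n) := by group
      _ = x * n := by rw [h, one_mul]))
  rw [← zpowers_eq_of_ne_one hp hx h1 h2, Subgroup.zpowers_le, commutator_def]
  exact Subgroup.commutator_mem_commutator (Subgroup.mem_top n) (Subgroup.mem_top x)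

theorem index_commutator_dvd (hp : p.Prime) (hx : orderOf x = p)
    (hC : Subgroup.centralizer ({x} : Set G) = Subgroup.zpowers x)
    (he : (Subgroup.zpowers x).relIndex (Subgroup.normalizer (Subgroup.zpowers x : Set G)) ≠ 1) :
    (commutator G).index ∣
      (Subgroup.zpowers x).relIndex (Subgroup.normalizer (Subgroup.zpowers x : Set G)) := by
  have := Fact.mk hp
  obtain ⟨P, hP⟩ := exists_sylow hp hx hC
  have hle := zpowers_le_commutator hp hx hC he
  have hsup : Subgroup.normalizer ((P : Subgroup G) : Set G) ⊔ commutator G = ⊤ :=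
    P.normalizer_sup_eq_top' (hP ▸ hle : (P : Subgroup G) ≤ commutator G)
  rw [hP] at hsup
  set N := Subgroup.normalizer (Subgroup.zpowers x : Set G) with hN
  rw [← Subgroup.relIndex_top_right, ← hsup, Subgroup.relIndex_sup_right]
  exact Subgroup.relIndex_dvd_of_le_left N hle

end Cfsg.Agent.Lib.SelfCentral
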