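import Cfsg.Agent.Lib.RegularUnipotent

/-!
Regular unipotent matrices: conjugacy in GL, centraliser, determinants of centralising elements, the standard one.
-/

set_option autoImplicit false

namespace Cfsg.Agent.Lib.RegularUnipotentMatrix

open Module LinearMap Cfsg.Agent.Lib.RegularUnipotent

variable {F : Type*} [Field F] {n : ℕ}

/-- `u - 1` is nilpotent of rank `n - 1`. -/
def IsRegUnip (u : Matrix (Fin n) (Fin n) F) : Prop := (u - 1) ^ n = 0 ∧ (u - 1).rank = n - 1

theorem IsRegUnip.isRegNilp {u : Matrix (Fin n) (Fin n) F} (h : IsRegUnip u) :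
    IsRegNilp (Matrix.toLin' (u - 1)) := isRegNilp_toLin' _ h.1 h.2

/-- An invertible linear map as a general linear group element. -/
def glOfEquiv (e : (Fin n → F) ≃ₗ[F] (Fin n → F)) : GL (Fin n) F where
  val := LinearMap.toMatrix' (e : (Fin n → F) →ₗ[F] (Fin n → F))
  inv := LinearMap.toMatrix' (e.symm : (Fin n → F) →ₗ[F] (Fin n → F))
  val_inv := by rw [← LinearMap.toMatrix'_comp]; simp
  inv_val := by rw [← LinearMap.toMatrix'_comp]; simp

theorem glOfEquiv_mulVec (e : (Fin n → F) ≃ₗ[F] (Fin n → F)) (x : Fin n → F) :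
    (glOfEquiv e : Matrix (Fin n) (Fin n) F).mulVec x = e x := by
  show (LinearMap.toMatrix' (e : (Fin n → F) →ₗ[F] (Fin n → F))).mulVec x = e x
  rw [LinearMap.toMatrix'_mulVec]
  rfl

theorem ext_mulVec {A B : Matrix (Fin n) (Fin n) F} (h : ∀ x, A.mulVec x = B.mulVec x) : A = B :=
  Matrix.toLin'.injective (LinearMap.ext fun x => by simpa [Matrix.toLin'_apply] using h x)

/-- All regular unipotent matrices are conjugate, prescribing the image of a cyclic vector. -/
theorem exists_conj {u u' : Matrix (Fin n) (Fin n) F} (hu : IsRegUnip u) (hu' : IsRegUnip u')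
    {v v' : Fin n → F} (hv : ((u - 1) ^ (n - 1)).mulVec v ≠ 0) (hv' : ((u' - 1) ^ (n - 1)).mulVec v' ≠ 0) :
    ∃ g : GL (Fin n) F, (g : Matrix (Fin n) (Fin n) F).mulVec v = v' ∧
      (g : Matrix (Fin n) (Fin n) F) * u = u' * g := by
  have hmem : ∀ (w : Matrix (Fin n) (Fin n) F) (x : Fin n → F),
      ((w - 1) ^ (n - 1)).mulVec x ≠ 0 →
      x ∉ ker (Matrix.toLin' (w - 1) ^ (finrank F (Fin n → F) - 1)) := by
    intro w x hx
    rw [finrank_pi, Fintype.card_fin, ← Matrix.toLin'_pow, LinearMap.mem_ker, Matrix.toLin'_apply]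
    exact hx
  obtain ⟨e, he, hcomm⟩ := exists_equiv hu.isRegNilp hu'.isRegNilp rfl (hmem _ _ hv) (hmem _ _ hv')
  refine ⟨glOfEquiv e, by rw [glOfEquiv_mulVec, he], ext_mulVec fun x => ?_⟩
  rw [← Matrix.mulVec_mulVec, ← Matrix.mulVec_mulVec, glOfEquiv_mulVec, glOfEquiv_mulVec]
  have h1 := hcomm x
  simp only [Matrix.toLin'_apply, Matrix.sub_mulVec, Matrix.one_mulVec, map_sub] at h1
  simpa using h1

theorem exists_cyclicVec {u : Matrix (Fin n) (Fin n) F} (hu : IsRegUnip u) (hn : 1 ≤ n) :
    ∃ v : Fin n → F, ((u - 1) ^ (n - 1)).mulVec v ≠ 0 := by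
  obtain ⟨v, hv⟩ := exists_cyclic hu.isRegNilp (by rw [finrank_pi, Fintype.card_fin]; omega)
  refine ⟨v, fun h => hv ?_⟩
  rw [finrank_pi, Fintype.card_fin, ← Matrix.toLin'_pow, LinearMap.mem_ker, Matrix.toLin'_apply]
  exact h

theorem isConj {u u' : GL (Fin n) F} (hu : IsRegUnip (u : Matrix (Fin n) (Fin n) F))
    (hu' : IsRegUnip (u' : Matrix (Fin n) (Fin n) F)) : IsConj u u' := by
  rcases Nat.eq_zero_or_pos n with rfl | hn
  · rw [show u = u' from Units.ext (Matrix.ext fun i => i.elim0)]
  obtain ⟨v, hv⟩ := exists_cyclicVec hu hn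
  obtain ⟨v', hv'⟩ := exists_cyclicVec hu' hn
  obtain ⟨g, -, hg⟩ := exists_conj hu hu' hv hv'
  exact isConj_iff.2 ⟨g, mul_inv_eq_iff_eq_mul.2 (Units.ext hg)⟩

theorem centralizer_ext {u : Matrix (Fin n) (Fin n) F} (hu : IsRegUnip u)
    {v : Fin n → F} (hv : ((u - 1) ^ (n - 1)).mulVec v ≠ 0) {A B : Matrix (Fin n) (Fin n) F}
    (hA : Commute A u) (hB : Commute B u) (h : A.mulVec v = B.mulVec v) : A = B := by
  apply Matrix.toLin'.injective
  have hc : ∀ C : Matrix (Fin n) (Fin n) F, Commute C u →
      Commute (Matrix.toLin' C) (Matrix.toLin' (u - 1)) := fun C hC =>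
    (hC.sub_right (Commute.one_right C)).map (Matrix.toLinAlgEquiv' (R := F) (n := Fin n))
  refine commute_ext hu.isRegNilp (v := v) ?_ (hc A hA) (hc B hB) (by simpa [Matrix.toLin'_apply] using h)
  rw [finrank_pi, Fintype.card_fin, ← Matrix.toLin'_pow, LinearMap.mem_ker, Matrix.toLin'_apply]
  exact hv

/-- A matrix centralising a regular unipotent is scalar plus nilpotent, so its determinant is an `n`-th power. -/
theorem exists_det_eq_pow {u : Matrix (Fin n) (Fin n) F} (hu : IsRegUnip u) (hn : 1 ≤ n)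
    {A : Matrix (Fin n) (Fin n) F} (hA : Commute A u) : ∃ a : F, A.det = a ^ n := by
  classical
  set N := Matrix.toLin' (u - 1) with hNdef
  have hN : IsRegNilp N := hu.isRegNilp
  have hd : finrank F (Fin n → F) = n := by rw [finrank_pi, Fintype.card_fin]
  obtain ⟨v, hv⟩ := exists_cyclic hN (by omega)
  let b := chainBasis hN hv
  let i0 : Fin (finrank F (Fin n → F)) := ⟨0, by omega⟩
  let a := b.repr (Matrix.toLin' A v) i0
  set C := Matrix.toLin' A - a • (1 : Module.End F (Fin n → F)) with hCdef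
  have hAN : Commute (Matrix.toLin' A) N :=
    (hA.sub_right (Commute.one_right A)).map (Matrix.toLinAlgEquiv' (R := F) (n := Fin n))
  have hCN : Commute C N := hAN.sub_left ((Commute.one_left N).smul_left a)
  have hCv : (N ^ (finrank F (Fin n → F) - 1)) (C v) = 0 := by
    have h1 : C v = ∑ i, b.repr (C v) i • b i := (b.sum_repr _).symm
    rw [h1, map_sum]
    refine Finset.sum_eq_zero fun i _ => ?_
    by_cases hi : (i : ℕ) = 0
    · have hi' : i = i0 := Fin.ext hi
      have hb0 : b i0 = v := by simp [b, chainBasis_apply, i0]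
      have h2 : b.repr (C v) i0 = 0 := by
        rw [hCdef, LinearMap.sub_apply, LinearMap.smul_apply, Module.End.one_apply]
        conv_lhs => rw [map_sub, map_smul]; rw [← hb0, b.repr_self]
        rw [hb0]
        simp [a]
      rw [hi', h2, zero_smul, map_zero]
    · rw [map_smul, show b i = (N ^ (i : ℕ)) v from chainBasis_apply hN hv i, ← Module.End.mul_apply,
        ← pow_add]
      obtain ⟨d, hd'⟩ : ∃ d, finrank F (Fin n → F) - 1 + (i : ℕ) = finrank F (Fin n → F) + d :=
        ⟨(i : ℕ) - 1, by omega⟩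
      rw [hd', pow_add, hN.pow_eq_zero, zero_mul, LinearMap.zero_apply, smul_zero]
  have hall : ∀ y, (N ^ (finrank F (Fin n → F) - 1)) (C y) = 0 := by
    have : (N ^ (finrank F (Fin n → F) - 1)) * C = 0 := by
      refine b.ext fun i => ?_
      rw [show b i = (N ^ (i : ℕ)) v from chainBasis_apply hN hv i, LinearMap.zero_apply,
        Module.End.mul_apply, ← Module.End.mul_apply C, (hCN.pow_right _).eq, Module.End.mul_apply,
        ← Module.End.mul_apply, ← pow_add, add_comm, pow_add, Module.End.mul_apply, hCv, map_zero]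
    exact fun y => LinearMap.congr_fun this y
  have hkill : ∀ z, N z = 0 → C z = 0 := by
    intro z hz
    have hz' : z ∈ ker (N ^ 1) := by rw [pow_one]; exact hz
    rw [← range_pow_sub hN (show 1 ≤ _ by omega)] at hz'
    obtain ⟨y, rfl⟩ := hz'
    rw [← Module.End.mul_apply, (hCN.pow_right _).eq, Module.End.mul_apply, hall]
  have hnil : ∀ i ≤ finrank F (Fin n → F), ∀ x, (N ^ (finrank F (Fin n → F) - i)) ((C ^ i) x) = 0 := by
    intro i
    induction i with
    | zero => intro _ x; rw [Nat.sub_zero, hN.pow_eq_zero, LinearMap.zero_apply]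
    | succ i ih =>
      intro hi x
      rw [pow_succ', Module.End.mul_apply, ← Module.End.mul_apply, ← (hCN.pow_right _).eq,
        Module.End.mul_apply]
      apply hkill
      rw [← Module.End.mul_apply, ← pow_succ',
        show finrank F (Fin n → F) - (i + 1) + 1 = finrank F (Fin n → F) - i by omega, ih (by omega)]
  have hCpow : C ^ n = 0 := LinearMap.ext fun x => by
    have := hnil n (by omega) x
    rwa [hd, Nat.sub_self, pow_zero, Module.End.one_apply] at this
  refine ⟨a, ?_⟩
  set D : Matrix (Fin n) (Fin n) F := -(LinearMap.toMatrix' C) with hD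
  have hDnil : IsNilpotent D := by
    refine IsNilpotent.neg ⟨n, ?_⟩
    apply Matrix.toLin'.injective
    rw [Matrix.toLin'_pow, Matrix.toLin'_toMatrix', hCpow, map_zero]
  have hA' : A = Matrix.scalar (Fin n) a - D := by
    apply Matrix.toLin'.injective
    rw [hD, sub_neg_eq_add, map_add, Matrix.toLin'_toMatrix', hCdef]
    refine LinearMap.ext fun x => ?_
    simp [Matrix.scalar_apply, ← Matrix.smul_one_eq_diagonal]
  have hch : D.charpoly = Polynomial.X ^ n := by
    have h := Matrix.isNilpotent_charpoly_sub_pow_of_isNilpotent hDnil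
    rw [Fintype.card_fin] at h
    exact sub_eq_zero.1 h.eq_zero
  rw [hA', ← Matrix.eval_charpoly, hch, Polynomial.eval_pow, Polynomial.eval_X]

/-- The shift matrix `e_j ↦ e_(j+1)`. -/
def shift (F : Type*) [Field F] (n : ℕ) : Matrix (Fin n) (Fin n) F :=
  Matrix.of fun i j => if (i : ℕ) = (j : ℕ) + 1 then 1 else 0

theorem shift_pow_apply (k : ℕ) (i j : Fin n) :
    (shift F n ^ k) i j = if (i : ℕ) = (j : ℕ) + k then 1 else 0 := by
  induction k generalizing i j with
  | zero =>
    rw [pow_zero, Matrix.one_apply]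
    simp [Fin.ext_iff]
  | succ k ih =>
    rw [pow_succ', Matrix.mul_apply]
    simp only [shift, Matrix.of_apply, ite_mul, one_mul, zero_mul]
    by_cases hi : (i : ℕ) = 0
    · rw [Finset.sum_eq_zero fun x _ => if_neg (by omega), if_neg (by omega)]
    · rw [Finset.sum_eq_single (⟨(i : ℕ) - 1, by omega⟩ : Fin n)]
      · rw [if_pos (show (i : ℕ) = (i : ℕ) - 1 + 1 by omega)]
        have := ih ⟨(i : ℕ) - 1, by omega⟩ j
        rw [show (shift F n ^ k) = (Matrix.of (fun i j : Fin n => if (i : ℕ) = (j : ℕ) + 1 then (1 : F) else 0)) ^ k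
          from rfl] at this
        rw [this]
        by_cases h : (i : ℕ) = (j : ℕ) + (k + 1)
        · rw [if_pos h, if_pos (show ((⟨(i : ℕ) - 1, _⟩ : Fin n) : ℕ) = _ by simp only [Fin.val_mk]; omega)]
        · rw [if_neg h, if_neg (show ¬ ((⟨(i : ℕ) - 1, _⟩ : Fin n) : ℕ) = _ by simp only [Fin.val_mk]; omega)]
      · intro x _ hx
        rw [if_neg]
        intro h
        exact hx (Fin.ext (by simp only [Fin.val_mk]; omega))
      · simp

theorem isRegUnip_one_add_shift (hn : 1 ≤ n) : IsRegUnip (1 + shift F n) := by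
  unfold IsRegUnip
  rw [add_sub_cancel_left]
  have hz : shift F n ^ n = 0 := by
    ext i j
    rw [shift_pow_apply, if_neg (by omega), Matrix.zero_apply]
  refine ⟨hz, ?_⟩
  have hN : IsRegNilp (Matrix.toLin' (shift F n)) := by
    refine ⟨?_, ?_⟩
    · rw [finrank_pi, Fintype.card_fin, ← Matrix.toLin'_pow, hz, map_zero]
    · let π : ker (Matrix.toLin' (shift F n)) →ₗ[F] F :=
        (LinearMap.proj (⟨n - 1, by omega⟩ : Fin n)).comp (ker (Matrix.toLin' (shift F n))).subtype
      refine (LinearMap.finrank_le_finrank_of_injective (f := π) ?_).trans (by rw [Module.finrank_self])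
      rw [← LinearMap.ker_eq_bot, LinearMap.ker_eq_bot']
      intro x hx
      apply Subtype.ext
      funext j
      by_cases hj : (j : ℕ) = n - 1
      · have : j = ⟨n - 1, by omega⟩ := Fin.ext hj
        rw [this]
        exact hx
      · have hmem := LinearMap.mem_ker.1 x.2
        have h := congrFun hmem ⟨(j : ℕ) + 1, by omega⟩
        rw [Matrix.toLin'_apply, Matrix.mulVec, dotProduct, Finset.sum_eq_single j] at h
        · simpa [shift] using h
        · intro y _ hy
          simp only [shift, Matrix.of_apply]; rw [if_neg, zero_mul]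
          intro h'
          exact hy (Fin.ext (by omega))
        · simp
  have h := finrank_range_pow hN (k := 1) (by rw [finrank_pi, Fintype.card_fin]; omega)
  rw [pow_one, finrank_pi, Fintype.card_fin] at h
  exact h

theorem det_one_add_shift : (1 + shift F n).det = 1 := by
  rw [Matrix.det_of_isLowerTriangular]
  · exact Finset.prod_eq_one fun i _ => by simp [shift]
  · intro i j hij
    have hij' : (i : ℕ) < j := hij
    rw [Matrix.add_apply, Matrix.one_apply_ne (Fin.ne_of_lt hij'), shift, Matrix.of_apply,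
      if_neg (by omega), zero_add]

end Cfsg.Agent.Lib.RegularUnipotentMatrix
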