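/-
Regular unipotent elements of the unitary groups: existence and the determinants of their centralisers.
-/
import Cfsg.Agent.Lib.RegularUnipotentMatrix
import Cfsg.Agent.Lib.Unitary.Basic
import Cfsg.Agent.S2587
import Cfsg.Agent.S2588

set_option autoImplicit false
set_option linter.unusedSectionVars false

namespace Cfsg.Agent.Lib.RegularUnipotentSU52

open Module LinearMap Matrix Cfsg.Agent.Lib.RegularUnipotent Cfsg.Agent.Lib.RegularUnipotentMatrix

variable {K : Type*} [Field K] {n : ℕ}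

/-- A matrix centralising a regular unipotent is a scalar plus a nilpotent. -/
theorem exists_sub_scalar_nilpotent {u : Matrix (Fin n) (Fin n) K} (hu : IsRegUnip u) (hn : 1 ≤ n)
    {A : Matrix (Fin n) (Fin n) K} (hA : Commute A u) : ∃ a : K, IsNilpotent (A - a • 1) := by
  classical
  set N := Matrix.toLin' (u - 1) with hNdef
  have hN : IsRegNilp N := hu.isRegNilp
  have hd : finrank K (Fin n → K) = n := by rw [finrank_pi, Fintype.card_fin]
  obtain ⟨v, hv⟩ := exists_cyclic hN (by omega)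
  let b := chainBasis hN hv
  let c := b.repr (Matrix.toLin' A v)
  let i0 : Fin (finrank K (Fin n → K)) := ⟨0, by omega⟩
  set P : Module.End K (Fin n → K) := ∑ i, c i • N ^ (i : ℕ) with hP
  have hPc : Commute P N := Commute.sum_left _ _ _ fun i _ => ((Commute.refl N).pow_left _).smul_left _
  have hAN : Commute (Matrix.toLin' A) N :=
    (hA.sub_right (Commute.one_right A)).map (Matrix.toLinAlgEquiv' (R := K) (n := Fin n))
  have hAP : Matrix.toLin' A = P := by
    refine commute_ext hN hv hAN hPc ?_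
    rw [hP, LinearMap.sum_apply]
    conv_lhs => rw [← b.sum_repr (Matrix.toLin' A v)]
    exact Finset.sum_congr rfl fun i _ => by simp [b, c, chainBasis_apply]
  refine ⟨c i0, ?_⟩
  have hnil : IsNilpotent (∑ i ∈ Finset.univ.erase i0, c i • N ^ (i : ℕ)) := by
    refine Commute.isNilpotent_sum (fun i hi => ?_) fun i j _ _ =>
      (((Commute.refl N).pow_pow _ _).smul_left _).smul_right _
    have hi0 : (i : ℕ) ≠ 0 := fun h => Finset.ne_of_mem_erase hi (Fin.ext h)
    exact ((IsNilpotent.pow_of_pos ⟨_, hN.pow_eq_zero⟩ hi0).smul _)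
  have hmap : Matrix.toLinAlgEquiv' (A - c i0 • 1) = ∑ i ∈ Finset.univ.erase i0, c i • N ^ (i : ℕ) := by
    rw [map_sub, map_smul, map_one]
    show Matrix.toLin' A - _ = _
    rw [hAP, hP, ← Finset.add_sum_erase _ _ (Finset.mem_univ i0), show ((i0 : ℕ)) = 0 from rfl, pow_zero]
    abel
  have := (hmap ▸ hnil).map (Matrix.toLinAlgEquiv' (R := K) (n := Fin n)).symm
  rwa [AlgEquiv.symm_apply_apply] at this

theorem det_of_sub_scalar_nilpotent {A : Matrix (Fin n) (Fin n) K} {a : K}
    (h : IsNilpotent (A - a • 1)) : A.det = a ^ n := by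
  have hA' : A = Matrix.scalar (Fin n) a - (-(A - a • 1)) := by
    simp [Matrix.scalar_apply, ← Matrix.smul_one_eq_diagonal]
  have hch : (-(A - a • 1)).charpoly = Polynomial.X ^ n := by
    have h' := Matrix.isNilpotent_charpoly_sub_pow_of_isNilpotent h.neg
    rw [Fintype.card_fin] at h'
    exact sub_eq_zero.1 h'.eq_zero
  conv_lhs => rw [hA']
  rw [← Matrix.eval_charpoly, hch, Polynomial.eval_pow, Polynomial.eval_X]

variable [Fintype K] {q : ℕ} (hK : Fintype.card K = q ^ 2)

include hK in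
theorem conjTranspose_mul {A : GL (Fin n) K} (hA : A ∈ Cfsg.GU n K q) :
    ((A : Matrix (Fin n) (Fin n) K).map (Unitary.conj hK))ᵀ * (A : Matrix (Fin n) (Fin n) K) = 1 := by
  ext i j
  have h := hA (Pi.single j 1) (Pi.single i 1)
  simp only [Cfsg.hermForm, Units.coeHom_apply, Matrix.mulVec_single_one, Matrix.col_apply] at h
  rw [Matrix.mul_apply, Matrix.one_apply]
  refine (Finset.sum_congr rfl fun l _ => ?_).trans (h.trans ?_)
  · exact mul_comm _ _
  · rw [Finset.sum_eq_single j (fun b _ hb => by rw [Pi.single_eq_of_ne hb, zero_mul]) (by simp)]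
    rcases eq_or_ne i j with rfl | hij
    · simp
    · rw [if_neg hij, Pi.single_eq_of_ne (Ne.symm hij), zero_pow (Unitary.q_ne_zero hK), mul_zero]

include hK in
theorem detGU_pow (g : Cfsg.GU n K q) : Unitary.detGU n K q g ^ (q + 1) = 1 := by
  refine Units.ext ?_
  have h := congrArg Matrix.det (conjTranspose_mul hK g.2)
  rw [Matrix.det_mul, Matrix.det_transpose, ← RingHom.mapMatrix_apply, ← RingHom.map_det,
    Matrix.det_one, Unitary.conj_apply] at h
  rw [Units.val_pow_eq_pow_val, pow_succ, Units.val_one, Unitary.detGU_val]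
  exact h

include hK in
/-- A unitary element centralising a regular unipotent has determinant the `n`-th power of a norm-one scalar. -/
theorem exists_norm_one_detGU {u : Matrix (Fin n) (Fin n) K} (hu : IsRegUnip u) (hn : 1 ≤ n)
    (A : Cfsg.GU n K q) (hA : Commute ((A : GL (Fin n) K) : Matrix (Fin n) (Fin n) K) u) :
    ∃ c : Kˣ, c ^ (q + 1) = 1 ∧ Unitary.detGU n K q A = c ^ n := by
  classical
  set M := ((A : GL (Fin n) K) : Matrix (Fin n) (Fin n) K) with hM
  set σ := Unitary.conj hK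
  obtain ⟨a, ha⟩ := exists_sub_scalar_nilpotent hu hn hA
  have hdet := det_of_sub_scalar_nilpotent ha
  have ha0 : a ≠ 0 := fun h => by
    rw [h, zero_pow (by omega)] at hdet
    exact Unitary.det_ne_zero_of_preserving hK A.2 hdet
  set B := (M.map σ)ᵀ with hB
  have hBM : B * M = 1 := conjTranspose_mul hK A.2
  have hMB : M * B = 1 := mul_eq_one_comm.1 hBM
  have hB1 : IsNilpotent (B - a ^ q • 1) := by
    obtain ⟨k, hk⟩ := ha.map σ.mapMatrix
    refine ⟨k, ?_⟩
    have : B - a ^ q • 1 = (σ.mapMatrix (M - a • 1))ᵀ := by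
      ext i j
      by_cases hij : i = j
      · subst hij; simp [hB, σ, Unitary.sub_pow_q hK, Matrix.map_apply]
      · simp [hB, σ, Unitary.sub_pow_q hK, Matrix.map_apply, hij, Ne.symm hij, Unitary.zero_pow_q hK]
    rw [this, ← Matrix.transpose_pow, hk, Matrix.transpose_zero]
  have hB2 : IsNilpotent (B - a⁻¹ • 1) := by
    have e : B - a⁻¹ • 1 = (-a⁻¹) • (B * (M - a • 1)) := by
      rw [mul_sub, hBM, Matrix.mul_smul, mul_one, smul_sub, neg_smul, neg_smul, smul_smul, inv_mul_cancel₀ ha0,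
        one_smul]
      abel
    rw [e]
    refine IsNilpotent.smul ?_ _
    exact Commute.isNilpotent_mul_left ((show Commute B M from hBM.trans hMB.symm).sub_right
      ((Commute.one_right B).smul_right a)) ha
  have hnil : IsNilpotent ((a⁻¹ - a ^ q) • (1 : Matrix (Fin n) (Fin n) K)) := by
    have hc : Commute (B - a ^ q • 1) (B - a⁻¹ • 1) :=
      ((Commute.refl B).sub_right ((Commute.one_right B).smul_right _)).sub_left
        ((Commute.one_left _).smul_left _)
    have := hc.isNilpotent_sub hB1 hB2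
    rw [sub_sub_sub_cancel_left, ← sub_smul] at this
    exact this
  obtain ⟨k, hk⟩ := hnil
  rw [smul_pow, one_pow] at hk
  have hk0 := congrFun (congrFun hk ⟨0, hn⟩) ⟨0, hn⟩
  simp at hk0
  refine ⟨Units.mk0 a ha0, Units.ext ?_, Units.ext ?_⟩
  · rw [Units.val_pow_eq_pow_val, Units.val_one, Units.val_mk0, pow_succ, ← sub_eq_zero.1 hk0.1,
      inv_mul_cancel₀ ha0]
  · rw [Unitary.detGU_val, Units.val_pow_eq_pow_val, Units.val_mk0]
    exact hdet

omit [Fintype K] in
theorem isRegUnip_of_inv {A : GL (Fin n) K} {B : Matrix (Fin n) (Fin n) K}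
    (hA : IsRegUnip (A : Matrix (Fin n) (Fin n) K)) (hB : B = ((A⁻¹ : GL (Fin n) K) : Matrix (Fin n) (Fin n) K)) :
    IsRegUnip B := by
  subst hB
  set M := (A : Matrix (Fin n) (Fin n) K)
  set Mi := ((A⁻¹ : GL (Fin n) K) : Matrix (Fin n) (Fin n) K)
  have e : Mi - 1 = -(Mi * (M - 1)) := by
    rw [mul_sub, show Mi * M = 1 from A.inv_mul, mul_one]
    abel
  have hc : Commute Mi (M - 1) := ((show Commute Mi M from A.inv_mul.trans A.mul_inv.symm)).sub_right
    (Commute.one_right _)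
  refine ⟨?_, ?_⟩
  · rw [e, neg_pow, hc.mul_pow, hA.1, mul_zero, mul_zero]
  · rw [e, ← neg_mul, Matrix.rank_mul_eq_right_of_isUnit_det]
    · exact hA.2
    · rw [← Matrix.isUnit_iff_isUnit_det]
      exact (A⁻¹).isUnit.neg

include hK in
theorem exists_regUnip (hn : 1 ≤ n) : ∃ u : Cfsg.GU n K q,
    IsRegUnip ((u : GL (Fin n) K) : Matrix (Fin n) (Fin n) K) ∧ Unitary.detGU n K q u = 1 := by
  classical
  let A : GL (Fin n) K := Matrix.GeneralLinearGroup.mkOfDetNeZero (1 + shift K n)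
    (by rw [det_one_add_shift]; exact one_ne_zero)
  have hA : IsRegUnip (A : Matrix (Fin n) (Fin n) K) := isRegUnip_one_add_shift hn
  have hmap : (A : Matrix (Fin n) (Fin n) K).map (fun x : K => x ^ q) = (A : Matrix (Fin n) (Fin n) K) := by
    ext i j
    show ((1 + shift K n) i j) ^ q = (1 + shift K n) i j
    rw [Matrix.add_apply, Matrix.one_apply, shift, Matrix.of_apply]
    split_ifs with h1 h2 h3
    · exact absurd h2 (by rw [h1]; omega)
    all_goals simp [Unitary.q_ne_zero hK]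
  have hdetT : ((A : Matrix (Fin n) (Fin n) K))ᵀ.det ≠ 0 := by
    rw [Matrix.det_transpose]
    show (1 + shift K n).det ≠ 0
    rw [det_one_add_shift]; exact one_ne_zero
  let T : GL (Fin n) K := Matrix.GeneralLinearGroup.mkOfDetNeZero _ hdetT
  have hT : IsRegUnip (T : Matrix (Fin n) (Fin n) K) := by
    constructor
    · show ((A : Matrix (Fin n) (Fin n) K)ᵀ - 1) ^ n = 0
      rw [← Matrix.transpose_one, ← Matrix.transpose_sub, ← Matrix.transpose_pow, hA.1, Matrix.transpose_zero]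
    · show ((A : Matrix (Fin n) (Fin n) K)ᵀ - 1).rank = n - 1
      rw [← Matrix.transpose_one, ← Matrix.transpose_sub, Matrix.rank_transpose, hA.2]
  have hTi : ((A : Matrix (Fin n) (Fin n) K).map (fun x : K => x ^ q)).transpose⁻¹ =
      ((T⁻¹ : GL (Fin n) K) : Matrix (Fin n) (Fin n) K) := by
    rw [hmap, Matrix.coe_units_inv]
    rfl
  obtain ⟨B, hB⟩ := (Cfsg.Agent.S2588.result hK A).2 (by
    rw [hTi]
    exact (Units.coeHom _).map_isConj
      (RegularUnipotentMatrix.isConj hA (isRegUnip_of_inv hT rfl)))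
  obtain ⟨c, hc⟩ := isConj_iff.1 hB
  refine ⟨B, ?_, ?_⟩
  · rw [← hc]
    set C := (c : Matrix (Fin n) (Fin n) K)
    set Ci := ((c⁻¹ : GL (Fin n) K) : Matrix (Fin n) (Fin n) K)
    have e : ((c * A * c⁻¹ : GL (Fin n) K) : Matrix (Fin n) (Fin n) K) - 1 =
        C * ((A : Matrix (Fin n) (Fin n) K) - 1) * Ci := by
      simp [C, Ci, mul_sub, sub_mul]
    refine ⟨?_, ?_⟩
    · rw [e, Units.conj_pow c, hA.1, mul_zero, zero_mul]
    · rw [e, Matrix.rank_mul_eq_left_of_isUnit_det _ _
        ((Matrix.isUnit_iff_isUnit_det _).1 c⁻¹.isUnit), Matrix.rank_mul_eq_right_of_isUnit_det _ _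
        ((Matrix.isUnit_iff_isUnit_det _).1 c.isUnit), hA.2]
  · show Matrix.GeneralLinearGroup.det (B : GL (Fin n) K) = 1
    rw [← hc, map_mul, map_mul, map_inv, mul_comm (Matrix.GeneralLinearGroup.det c), mul_inv_cancel_right]
    exact Units.ext det_one_add_shift

include hK in
theorem exists_detGU_eq (hn : 1 ≤ n) {k : Kˣ} (hk : k ^ (q + 1) = 1) :
    ∃ g : Cfsg.GU n K q, Unitary.detGU n K q g = k := by
  classical
  let d : Fin n → K := Function.update 1 ⟨0, hn⟩ k
  have hd : ∀ i, d i * d i ^ q = 1 := fun i => by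
    by_cases h : i = ⟨0, hn⟩
    · subst h
      simp only [d, Function.update_self]
      rw [← pow_succ', ← Units.val_pow_eq_pow_val, hk, Units.val_one]
    · simp [d, Function.update_of_ne h]
  refine ⟨Unitary.mkGU hK (Matrix.diagonal d) fun u v => ?_, Units.ext ?_⟩
  · simp only [Cfsg.hermForm, Matrix.mulVec_diagonal]
    exact Finset.sum_congr rfl fun i _ => by linear_combination (u i * v i ^ q) * hd i
  · rw [Unitary.detGU_val, Unitary.mkGU_val, Matrix.det_diagonal, Finset.prod_eq_single ⟨0, hn⟩]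
    · simp [d]
    · intro b _ hb; simp [d, Function.update_of_ne hb]
    · simp

include hK in
/-- The classes of `SU` inside the class in `GU` of the regular unipotents. -/
theorem card_classes (hn : 1 ≤ n) :
    Nat.card {C : ConjClasses (Cfsg.SU n K q) //
      ∃ u : Cfsg.SU n K q, ConjClasses.mk u = C ∧ IsRegUnip ((u : GL (Fin n) K) : Matrix (Fin n) (Fin n) K)} =
      Nat.gcd n (q + 1) := by
  classical
  obtain ⟨u₀, hu₀, hdet₀⟩ := exists_regUnip hK hn
  let N := (Unitary.normHom K q).ker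
  let R := (powMonoidHom n : N →* N).range
  have hR : Nat.card (N ⧸ R) = Nat.gcd n (q + 1) := by
    show R.index = _
    rw [IsCyclic.index_powMonoidHom_range, show Nat.card N = q + 1 from (Unitary.card_normHom hK).1,
      Nat.gcd_comm]
  rw [← hR]
  have hrep : ∀ C : {C : ConjClasses (Cfsg.SU n K q) //
      ∃ u : Cfsg.SU n K q, ConjClasses.mk u = C ∧ IsRegUnip ((u : GL (Fin n) K) : Matrix (Fin n) (Fin n) K)},
      ∃ u : Cfsg.SU n K q, ∃ g : Cfsg.GU n K q, ConjClasses.mk u = C.1 ∧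
        g * u₀ * g⁻¹ = Unitary.suToGU n K q u := fun C => by
    obtain ⟨u, hu, hreg⟩ := C.2
    obtain ⟨g, hg⟩ := isConj_iff.1 ((Cfsg.Agent.S2587.result hK u₀ (Unitary.suToGU n K q u)).2
      (RegularUnipotentMatrix.isConj hu₀ hreg))
    exact ⟨u, g, hu, hg⟩
  choose u g hu hg using hrep
  have hN : ∀ x : Cfsg.GU n K q, Unitary.detGU n K q x ∈ N := fun x => detGU_pow hK x
  refine Nat.card_congr (Equiv.ofBijective
    (fun C => (QuotientGroup.mk ⟨Unitary.detGU n K q (g C), hN (g C)⟩ : N ⧸ R)) ⟨?_, ?_⟩)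
  · intro C C' h
    obtain ⟨c, hc⟩ := QuotientGroup.eq.1 h
    rw [powMonoidHom_apply] at hc
    have hc' : (c : Kˣ) ^ n = (Unitary.detGU n K q (g C))⁻¹ * Unitary.detGU n K q (g C') :=
      congrArg Subtype.val hc
    have hc1 : (c : Kˣ) ^ (q + 1) = 1 := c.2
    let B : Cfsg.GU n K q := Unitary.mkGU hK ((c : Kˣ).1 • 1) fun x y => by
      simp only [Matrix.smul_mulVec, Matrix.one_mulVec, Unitary.herm_smul_left, Unitary.herm_smul_right]
      rw [← mul_assoc, ← pow_succ, ← Units.val_pow_eq_pow_val, hc1, Units.val_one, one_mul]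
    have hB : B * u₀ = u₀ * B := Subtype.ext (Units.ext (by simp [B]))
    have hBdet : Unitary.detGU n K q B = (c : Kˣ) ^ n := Units.ext (by simp [B])
    set h' := g C' * (g C * B)⁻¹ with hh'
    have h1 : Unitary.detGU n K q h' = 1 := by
      rw [hh', map_mul, map_inv, map_mul, hBdet, hc']
      group
    obtain ⟨s, hs⟩ : h' ∈ (Unitary.suToGU n K q).range := by
      rw [Unitary.suToGU_range]; exact h1
    refine Subtype.ext ?_
    rw [← hu C, ← hu C']
    refine ConjClasses.mk_eq_mk_iff_isConj.2 (isConj_iff.2 ⟨s, ?_⟩)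
    apply Unitary.suToGU_injective
    rw [map_mul, map_mul, map_inv, hs, ← hg C, ← hg C', hh']
    have h2 : B⁻¹ * u₀ * B = u₀ := by rw [mul_assoc, ← hB, inv_mul_cancel_left]
    calc _ = g C' * (B⁻¹ * u₀ * B) * (g C')⁻¹ := by group
      _ = _ := by rw [h2]
  · intro x
    obtain ⟨⟨k, hk⟩, rfl⟩ := QuotientGroup.mk_surjective x
    obtain ⟨h, hh⟩ := exists_detGU_eq hK hn (k := k) hk
    obtain ⟨w, hw⟩ : h * u₀ * h⁻¹ ∈ (Unitary.suToGU n K q).range := by
      rw [Unitary.suToGU_range, MonoidHom.mem_ker, map_mul, map_mul, map_inv, hdet₀, mul_one, mul_inv_cancel]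
    have hwreg : IsRegUnip ((w : GL (Fin n) K) : Matrix (Fin n) (Fin n) K) := by
      have e : ((w : GL (Fin n) K) : Matrix (Fin n) (Fin n) K) =
          (((h * u₀ * h⁻¹ : Cfsg.GU n K q) : GL (Fin n) K) : Matrix (Fin n) (Fin n) K) := by
        rw [← hw]; rfl
      set H := ((h : GL (Fin n) K) : Matrix (Fin n) (Fin n) K)
      have e2 : ((w : GL (Fin n) K) : Matrix (Fin n) (Fin n) K) - 1 =
          H * (((u₀ : GL (Fin n) K) : Matrix (Fin n) (Fin n) K) - 1) *
            (((h : GL (Fin n) K)⁻¹ : GL (Fin n) K) : Matrix (Fin n) (Fin n) K) := by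
        rw [e]; simp [H, mul_sub, sub_mul]
      refine ⟨?_, ?_⟩
      · rw [e2, Units.conj_pow (h : GL (Fin n) K), hu₀.1, mul_zero, zero_mul]
      · rw [e2, Matrix.rank_mul_eq_left_of_isUnit_det _ _
          ((Matrix.isUnit_iff_isUnit_det _).1 (h : GL (Fin n) K)⁻¹.isUnit),
          Matrix.rank_mul_eq_right_of_isUnit_det _ _
          ((Matrix.isUnit_iff_isUnit_det _).1 (h : GL (Fin n) K).isUnit), hu₀.2]
    set C : {C : ConjClasses (Cfsg.SU n K q) //
      ∃ u : Cfsg.SU n K q, ConjClasses.mk u = C ∧ IsRegUnip ((u : GL (Fin n) K) : Matrix (Fin n) (Fin n) K)} :=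
      ⟨ConjClasses.mk w, w, rfl, hwreg⟩
    refine ⟨C, QuotientGroup.eq.2 ?_⟩
    obtain ⟨s, hs⟩ := isConj_iff.1 (ConjClasses.mk_eq_mk_iff_isConj.1 (hu C).symm)
    set S := Unitary.suToGU n K q s
    have hS : Unitary.detGU n K q S = 1 := by
      have : S ∈ (Unitary.detGU n K q).ker := by rw [← Unitary.suToGU_range]; exact ⟨s, rfl⟩
      exact this
    have h3 : S * (h * u₀ * h⁻¹) * S⁻¹ = g C * u₀ * (g C)⁻¹ := by
      rw [hg C, ← hw, ← hs, map_mul, map_mul, map_inv]
    set B := (g C)⁻¹ * S * h with hBdef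
    have hBc : B * u₀ = u₀ * B := by
      have : B * u₀ * B⁻¹ = u₀ :=
        calc B * u₀ * B⁻¹ = (g C)⁻¹ * (S * (h * u₀ * h⁻¹) * S⁻¹) * g C := by rw [hBdef]; group
          _ = u₀ := by rw [h3]; group
      exact mul_inv_eq_iff_eq_mul.1 this
    obtain ⟨c, hc1, hc⟩ := exists_norm_one_detGU hK hu₀ hn B
      (congrArg (fun z : Cfsg.GU n K q => ((z : GL (Fin n) K) : Matrix (Fin n) (Fin n) K)) hBc)
    refine ⟨⟨c, hc1⟩, Subtype.ext ?_⟩
    show c ^ n = (Unitary.detGU n K q (g C))⁻¹ * k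
    rw [← hc, hBdef, map_mul, map_mul, map_inv, hS, mul_one, hh]

end Cfsg.Agent.Lib.RegularUnipotentSU52
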