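import Mathlib

/-!
The even stabiliser of a partition of `a * b` points into `b` parts of size `a` is a maximal
subgroup of the alternating group, unless `(a, b) = (2, 4)`.
-/

namespace Cfsg.Agent.Lib.Imprimitive

open Equiv Equiv.Perm MulAction
open scoped Pointwise

variable {Ω : Type*} {ι : Type*}

/-- The stabiliser of the partition into the fibres of `f`. -/
def fibreStabilizer (f : Ω → ι) : Subgroup (Perm Ω) where
  carrier := {g | ∀ x y : Ω, f x = f y ↔ f (g x) = f (g y)}
  one_mem' := fun _ _ => Iff.rfl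
  mul_mem' := fun {g h} hg hh x y => (hh x y).trans (hg (h x) (h y))
  inv_mem' := fun {g} hg x y => by
    rw [hg (g⁻¹ x) (g⁻¹ y)]
    simp

theorem mem_fibreStabilizer {f : Ω → ι} {g : Perm Ω} :
    g ∈ fibreStabilizer f ↔ ∀ x y : Ω, f x = f y ↔ f (g x) = f (g y) := Iff.rfl

theorem closure_eq_fibreStabilizer (f : Ω → ι) :
    Subgroup.closure {g : Perm Ω | ∀ x y : Ω, f x = f y ↔ f (g x) = f (g y)} = fibreStabilizer f :=
  Subgroup.closure_eq (fibreStabilizer f)

theorem swap_mem_fibreStabilizer [DecidableEq Ω] (f : Ω → ι) {x y : Ω} (h : f x = f y) :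
    swap x y ∈ fibreStabilizer f := by
  have key : ∀ u, f (swap x y u) = f u := by
    intro u
    rcases eq_or_ne u x with rfl | hx
    · simp [h]
    rcases eq_or_ne u y with rfl | hy
    · simp [h]
    · rw [swap_apply_of_ne_of_ne hx hy]
  intro u v
  rw [key, key]

theorem exists_equiv_prod [Finite Ω] {a b : ℕ} (f : Ω → Fin b)
    (hf : ∀ i : Fin b, Nat.card {x : Ω // f x = i} = a) :
    ∃ e : Ω ≃ Fin b × Fin a, ∀ x, (e x).1 = f x := by
  let e₁ : ∀ i, {x : Ω // f x = i} ≃ Fin a := fun i =>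
    (Finite.equivFin _).trans (finCongr (hf i))
  refine ⟨(Equiv.sigmaFiberEquiv f).symm.trans
    ((Equiv.sigmaCongrRight e₁).trans (Equiv.sigmaEquivProd _ _)), fun x => ?_⟩
  simp [Equiv.sigmaFiberEquiv, Equiv.sigmaCongrRight]

section main

variable [Fintype Ω] [DecidableEq Ω] {a b : ℕ} {f : Ω → Fin b}

theorem exists_partner (hf : ∀ i : Fin b, Nat.card {x : Ω // f x = i} = a) (ha : 2 ≤ a) (x : Ω) :
    ∃ y, y ≠ x ∧ f y = f x := by
  obtain ⟨e, he⟩ := exists_equiv_prod f hf
  obtain ⟨j, hj⟩ : ∃ j : Fin a, j ≠ (e x).2 := by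
    haveI : Nontrivial (Fin a) := Fin.nontrivial_iff_two_le.mpr ha
    exact exists_ne _
  refine ⟨e.symm ((e x).1, j), fun h => hj ?_, ?_⟩
  · rw [← h]; simp
  · rw [← he, ← he]; simp

theorem exists_third (hf : ∀ i : Fin b, Nat.card {x : Ω // f x = i} = a) (ha : 3 ≤ a) (x y : Ω) :
    ∃ z, z ≠ x ∧ z ≠ y ∧ f z = f x := by
  obtain ⟨e, he⟩ := exists_equiv_prod f hf
  obtain ⟨j, hj⟩ : ∃ j : Fin a, j ∉ ({(e x).2, (e y).2} : Finset (Fin a)) := by
    suffices h : _ < (Finset.univ : Finset _).card from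
      (Finset.exists_mem_notMem_of_card_lt_card h).imp fun _ h => h.2
    calc ({(e x).2, (e y).2} : Finset (Fin a)).card ≤ 2 := Finset.card_le_two
      _ < a := by omega
      _ = _ := by simp
  refine ⟨e.symm ((e x).1, j), fun h => hj ?_, fun h => hj ?_, ?_⟩
  · rw [← h]; simp
  · rw [← h]; simp
  · rw [← he, ← he]; simp

theorem exists_fibre_swap (hf : ∀ i : Fin b, Nat.card {x : Ω // f x = i} = a) (ha : 2 ≤ a)
    (hb : 2 ≤ b) (u v : Ω) (hh : f u = f v ∨ 3 ≤ a ∨ 3 ≤ b) :
    ∃ s ∈ fibreStabilizer f, sign s = -1 ∧ s u = u ∧ s v = v := by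
  suffices h : ∃ x y, x ≠ y ∧ f x = f y ∧ x ≠ u ∧ x ≠ v ∧ y ≠ u ∧ y ≠ v by
    obtain ⟨x, y, hxy, hfxy, h1, h2, h3, h4⟩ := h
    exact ⟨swap x y, swap_mem_fibreStabilizer f hfxy, sign_swap hxy,
      swap_apply_of_ne_of_ne h1.symm h3.symm, swap_apply_of_ne_of_ne h2.symm h4.symm⟩
  by_cases h : ∃ i, i ≠ f u ∧ i ≠ f v
  · obtain ⟨i, hiu, hiv⟩ := h
    obtain ⟨e, he⟩ := exists_equiv_prod f hf
    have hx : f (e.symm (i, ⟨0, by omega⟩)) = i := by rw [← he]; simp
    obtain ⟨y, hy, hfy⟩ := exists_partner hf ha (e.symm (i, ⟨0, by omega⟩))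
    refine ⟨_, y, hy.symm, hfy.symm, ?_, ?_, ?_, ?_⟩ <;> intro heq <;> subst heq
    · exact hiu hx.symm
    · exact hiv hx.symm
    · exact hiu (hfy.trans hx).symm
    · exact hiv (hfy.trans hx).symm
  · push Not at h
    have hne : f u ≠ f v := by
      intro he
      haveI : Nontrivial (Fin b) := Fin.nontrivial_iff_two_le.mpr hb
      obtain ⟨i, hi⟩ := exists_ne (f u)
      exact hi ((h i hi).trans he.symm)
    have ha3 : 3 ≤ a := by
      rcases hh with hh | hh | hh
      · exact absurd hh hne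
      · exact hh
      · exfalso
        obtain ⟨i, hi⟩ : ∃ i : Fin b, i ∉ ({f u, f v} : Finset (Fin b)) := by
          suffices h : _ < (Finset.univ : Finset _).card from
      (Finset.exists_mem_notMem_of_card_lt_card h).imp fun _ h => h.2
          calc ({f u, f v} : Finset (Fin b)).card ≤ 2 := Finset.card_le_two
            _ < b := by omega
            _ = _ := by simp
        simp only [Finset.mem_insert, Finset.mem_singleton, not_or] at hi
        exact hi.2 (h i hi.1)
    obtain ⟨x, hxu, hfx⟩ := exists_partner hf ha u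
    obtain ⟨y, hyu, hyx, hfy⟩ := exists_third hf ha3 u x
    refine ⟨x, y, hyx.symm, hfx.trans hfy.symm, hxu, ?_, hyu, ?_⟩ <;> intro heq <;> subst heq
    · exact hne hfx.symm
    · exact hne hfy.symm

theorem exists_even_move (hf : ∀ i : Fin b, Nat.card {x : Ω // f x = i} = a) (ha : 2 ≤ a)
    (hb : 2 ≤ b) (x y z : Ω) (hh : (f x = f z ↔ f x = f y) ∧ (f x = f z ∨ 3 ≤ a ∨ 3 ≤ b))
    (hyx : y ≠ x) (hzx : z ≠ x) :
    ∃ k ∈ fibreStabilizer f ⊓ alternatingGroup Ω, k x = x ∧ k y = z := by
  obtain ⟨hiff, hh⟩ := hh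
  obtain ⟨e, he⟩ := exists_equiv_prod f hf
  let q : Perm Ω := e.symm.permCongr ((swap (f y) (f z)).prodCongr (Equiv.refl (Fin a)))
  have hq : q ∈ fibreStabilizer f := by
    intro u v
    simp [q, ← he]
  have hfx : f x ≠ f y ∨ f y = f z := by
    by_cases h : f x = f y
    · exact Or.inr (h.symm.trans (hiff.mpr h))
    · exact Or.inl h
  have hqx : q x = x := by
    apply e.injective
    rcases hfx with h | h
    · have h' : f x ≠ f z := fun h' => h (hiff.mp h')
      simp [q, Equiv.permCongr_apply, Prod.ext_iff, he, swap_apply_of_ne_of_ne h h']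
    · simp [q, Equiv.permCongr_apply, Prod.ext_iff, he, h]
  have hqy : f (q y) = f z := by
    rw [← he (q y)]
    simp [q, Equiv.permCongr_apply, he]
  let r : Perm Ω := swap (q y) z * q
  have hr : r ∈ fibreStabilizer f :=
    Subgroup.mul_mem _ (swap_mem_fibreStabilizer f hqy) hq
  have hrx : r x = x := by
    have h1 : x ≠ q y := fun h => hyx (q.injective (h.symm.trans hqx.symm))
    simp [r, hqx, swap_apply_of_ne_of_ne h1 hzx.symm]
  have hry : r y = z := by simp [r]
  rcases Int.units_eq_one_or (sign r) with hs | hs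
  · exact ⟨r, ⟨hr, hs⟩, hrx, hry⟩
  · obtain ⟨s, hsP, hss, hsx, hsz⟩ := exists_fibre_swap hf ha hb x z hh
    exact ⟨s * r, ⟨Subgroup.mul_mem _ hsP hr, by simp [hs, hss]⟩, by simp [hrx, hsx],
      by simp [hry, hsz]⟩

theorem exists_even_to (hf : ∀ i : Fin b, Nat.card {x : Ω // f x = i} = a) (ha : 2 ≤ a)
    (hb : 2 ≤ b) (x z : Ω) :
    ∃ k ∈ fibreStabilizer f ⊓ alternatingGroup Ω, k x = z := by
  obtain ⟨e, he⟩ := exists_equiv_prod f hf
  let q : Perm Ω := e.symm.permCongr ((swap (f x) (f z)).prodCongr (Equiv.refl (Fin a)))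
  have hq : q ∈ fibreStabilizer f := by
    intro u v
    simp [q, ← he]
  have hqx : f (q x) = f z := by
    rw [← he (q x)]
    simp [q, Equiv.permCongr_apply, he]
  let r : Perm Ω := swap (q x) z * q
  have hr : r ∈ fibreStabilizer f :=
    Subgroup.mul_mem _ (swap_mem_fibreStabilizer f hqx) hq
  have hrx : r x = z := by simp [r]
  rcases Int.units_eq_one_or (sign r) with hs | hs
  · exact ⟨r, ⟨hr, hs⟩, hrx⟩
  · obtain ⟨s, hsP, hss, hsz, -⟩ := exists_fibre_swap hf ha hb z z (Or.inl rfl)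
    exact ⟨s * r, ⟨Subgroup.mul_mem _ hsP hr, by simp [hs, hss]⟩, by simp [hrx, hsz]⟩

variable {H : Subgroup (Perm Ω)}

/-- A subgroup strictly above the even partition stabiliser is primitive. -/
theorem isPreprimitive_of_le (hf : ∀ i : Fin b, Nat.card {x : Ω // f x = i} = a) (ha : 2 ≤ a)
    (hb : 2 ≤ b) (hab : 3 ≤ a ∨ 3 ≤ b) (hK : fibreStabilizer f ⊓ alternatingGroup Ω ≤ H)
    {g : Perm Ω} (hg : g ∈ H) (hgP : g ∉ fibreStabilizer f) :
    IsPreprimitive H Ω := by
  haveI : IsPretransitive H Ω := ⟨fun x z => by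
    obtain ⟨k, hk, hkx⟩ := exists_even_to hf ha hb x z
    exact ⟨⟨k, hK hk⟩, hkx⟩⟩
  refine ⟨fun {B} hB => ?_⟩
  by_contra hnt
  obtain ⟨hns, hnu⟩ := not_or.mp hnt
  rw [Set.not_subsingleton_iff] at hns
  -- a block contains, with two points, the whole orbit of the stabiliser of the first
  have move : ∀ {k : Perm Ω}, k ∈ H → ∀ {x y z : Ω}, x ∈ B → y ∈ B → k x = x → k y = z → z ∈ B := by
    intro k hk x y z hx hy hkx hky
    have hmem : x ∈ (⟨k, hk⟩ : H) • B := ⟨x, hx, hkx⟩
    rcases MulAction.isBlock_iff_smul_eq_or_disjoint.mp hB ⟨k, hk⟩ with h | h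
    · rw [← h]; exact ⟨y, hy, hky⟩
    · exact absurd hx (Set.disjoint_left.mp h hmem)
  have inside : ∀ x ∈ B, ∀ y ∈ B, f x = f y := by
    by_contra hc
    push Not at hc
    obtain ⟨x, hx, y, hy, hxy⟩ := hc
    have out : ∀ x ∈ B, ∀ y ∈ B, f x ≠ f y → ∀ z, f z ≠ f x → z ∈ B := by
      intro x hx y hy hxy z hz
      obtain ⟨k, hk, hkx, hky⟩ := exists_even_move hf ha hb x y z
        ⟨iff_of_false hz.symm hxy, Or.inr hab⟩
        (fun h => hxy (h ▸ rfl)) (fun h => hz (h ▸ rfl))
      exact move (hK hk) hx hy hkx hky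
    apply hnu
    refine Set.eq_univ_of_forall fun z => ?_
    by_cases hz : f z = f x
    · exact out y hy x hx hxy.symm z (hz ▸ hxy)
    · exact out x hx y hy hxy z hz
  obtain ⟨x, hx, y, hy, hxy⟩ := hns
  have whole : ∀ z, f z = f x → z ∈ B := by
    intro z hz
    rcases eq_or_ne z x with rfl | hzx
    · exact hx
    · obtain ⟨k, hk, hkx, hky⟩ := exists_even_move hf ha hb x y z
        ⟨iff_of_true hz.symm (inside x hx y hy), Or.inl hz.symm⟩ hxy.symm hzx
      exact move (hK hk) hx hy hkx hky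
  -- so every fibre is a translate of `B`, hence `g` permutes the fibres
  apply hgP
  have key : ∀ h : H, ∀ u v, f u = f v → f ((h : Perm Ω) u) = f ((h : Perm Ω) v) := by
    intro h u v huv
    obtain ⟨k, hk, hkx⟩ := exists_even_to hf ha hb x u
    obtain ⟨w, hwB, hwv⟩ : ∃ w ∈ B, k w = v := by
      refine ⟨k⁻¹ v, whole _ ?_, by simp⟩
      rw [(hk.1 (k⁻¹ v) x), hkx]
      simpa using huv.symm
    obtain ⟨l, hl, hlx⟩ := exists_even_to hf ha hb ((h : Perm Ω) u) x
    have h1 : (l * h * k : Perm Ω) x = x := by simp [hkx, hlx]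
    have h2 := move (H.mul_mem (H.mul_mem (hK hl) h.2) (hK hk)) hx hwB h1 rfl
    rw [(hl.1 ((h : Perm Ω) u) ((h : Perm Ω) v)), hlx]
    have h3 := inside x hx _ h2
    simpa [hwv] using h3
  intro u v
  refine ⟨key ⟨g, hg⟩ u v, fun h => ?_⟩
  simpa using key ⟨g⁻¹, H.inv_mem hg⟩ (g u) (g v) h

theorem card_even_fibreStabilizer_three_two :
    (Finset.univ.filter fun g : Perm (Fin 3 × Fin 2) =>
      (∀ x y, x.1 = y.1 ↔ (g x).1 = (g y).1) ∧ sign g = 1).card = 24 := by
  decide +kernel

theorem card_even_fibreStabilizer_two_two :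
    (Finset.univ.filter fun g : Perm (Fin 2 × Fin 2) =>
      (∀ x y, x.1 = y.1 ↔ (g x).1 = (g y).1) ∧ sign g = 1).card = 4 := by
  decide +kernel

theorem card_even_fibreStabilizer (e : Ω ≃ Fin b × Fin a) (he : ∀ x, (e x).1 = f x) :
    Nat.card (fibreStabilizer f ⊓ alternatingGroup Ω : Subgroup (Perm Ω)) =
      (Finset.univ.filter fun g : Perm (Fin b × Fin a) =>
        (∀ x y, x.1 = y.1 ↔ (g x).1 = (g y).1) ∧ sign g = 1).card := by
  rw [← Fintype.card_subtype, ← Nat.card_eq_fintype_card]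
  refine Nat.card_congr ((e.permCongr).subtypeEquiv fun g => ?_)
  rw [Subgroup.mem_inf, mem_fibreStabilizer, mem_alternatingGroup, sign_permCongr]
  refine and_congr_left' ?_
  constructor
  · intro h x y
    have := h (e.symm x) (e.symm y)
    simpa [← he, Equiv.permCongr_apply] using this
  · intro h x y
    have := h (e x) (e y)
    simpa [← he, Equiv.permCongr_apply] using this

theorem double_swap_three_cycle {A B C D E G K : Ω} (hAB : A ≠ B) (hAE : A ≠ E) (hBE : B ≠ E)
    (hC : C ∉ [A, B, E, G, K]) (hD : D ∉ [A, B, E, G, K]) (hG : G ∉ [A, B, E])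
    (hK : K ∉ [A, B, E]) :
    IsThreeCycle (((swap A B * swap C D) * (swap A E * swap G K)) ^ 2) := by
  simp only [List.mem_cons, List.not_mem_nil, or_false, not_or] at hC hD hG hK
  obtain ⟨hCA, hCB, hCE, hCG, hCK⟩ := hC
  obtain ⟨hDA, hDB, hDE, hDG, hDK⟩ := hD
  obtain ⟨hGA, hGB, hGE⟩ := hG
  obtain ⟨hKA, hKB, hKE⟩ := hK
  have comm : ∀ {p q r s : Ω}, p ≠ r → p ≠ s → q ≠ r → q ≠ s →
      Commute (swap p q) (swap r s) := by
    intro p q r s h1 h2 h3 h4
    apply Perm.Disjoint.commute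
    intro x
    by_cases h : x = p ∨ x = q
    · right
      rcases h with rfl | rfl
      · exact swap_apply_of_ne_of_ne h1 h2
      · exact swap_apply_of_ne_of_ne h3 h4
    · push Not at h
      exact Or.inl (swap_apply_of_ne_of_ne h.1 h.2)
  have h1 : Commute (swap C D) (swap A E) := comm hCA hCE hDA hDE
  have h2 : (swap A B * swap C D) * (swap A E * swap G K) =
      (swap A B * swap A E) * (swap C D * swap G K) := by
    rw [mul_assoc, ← mul_assoc (swap C D), h1.eq, mul_assoc, ← mul_assoc (swap A B)]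
  have h3 : Commute (swap A B * swap A E) (swap C D * swap G K) := by
    refine Commute.mul_left (Commute.mul_right ?_ ?_) (Commute.mul_right ?_ ?_)
    · exact (comm hCA hCB hDA hDB).symm
    · exact (comm hGA hGB hKA hKB).symm
    · exact h1.symm
    · exact (comm hGA hGE hKA hKE).symm
  have h4 : (swap C D * swap G K) ^ 2 = 1 := by
    rw [(comm hCG hCK hDG hDK).mul_pow, sq, sq, swap_mul_self, swap_mul_self, one_mul]
  rw [h2, h3.mul_pow, h4, mul_one, sq]
  exact (isThreeCycle_swap_mul_swap_same hAB hAE hBE).isThreeCycle_sq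

theorem swap_mul_swap_mem (f : Ω → Fin b) {x y u v : Ω} (hxy : x ≠ y) (huv : u ≠ v)
    (h : f x = f y) (h' : f u = f v) :
    swap x y * swap u v ∈ fibreStabilizer f ⊓ alternatingGroup Ω :=
  ⟨Subgroup.mul_mem _ (swap_mem_fibreStabilizer f h) (swap_mem_fibreStabilizer f h'),
    by simp [sign_swap hxy, sign_swap huv]⟩

theorem exists_threeCycle_of_pairs (hf : ∀ i : Fin b, Nat.card {x : Ω // f x = i} = 2)
    (hb : 5 ≤ b) (hK : fibreStabilizer f ⊓ alternatingGroup Ω ≤ H) {g : Perm Ω} (hg : g ∈ H)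
    (hgP : g ∉ fibreStabilizer f) : ∃ c ∈ H, IsThreeCycle c := by
  obtain ⟨e, he⟩ := exists_equiv_prod f hf
  have two : ∀ p q r : Ω, f q = f p → f r = f p → q ≠ p → r ≠ p → q = r := by
    intro p q r hq hr hqp hrp
    have key : ∀ i j k : Fin 2, j ≠ i → k ≠ i → j = k := by decide
    apply e.injective
    refine Prod.ext (by rw [he, he, hq, hr]) (key (e p).2 _ _ ?_ ?_)
    · exact fun h => hqp (e.injective (Prod.ext (by rw [he, he, hq]) h))
    · exact fun h => hrp (e.injective (Prod.ext (by rw [he, he, hr]) h))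
  -- some fibre is torn apart by some element of `H`
  obtain ⟨g, hg, x, y, hfxy, hgxy⟩ :
      ∃ g ∈ H, ∃ x y, f x = f y ∧ f (g x) ≠ f (g y) := by
    rw [mem_fibreStabilizer] at hgP
    push Not at hgP
    obtain ⟨x, y, h | h⟩ := hgP
    · exact ⟨g, hg, x, y, h⟩
    · exact ⟨g⁻¹, H.inv_mem hg, g x, g y, by simpa using h.2, by simpa using h.1⟩
  have hxy : x ≠ y := fun h => hgxy (h ▸ rfl)
  obtain ⟨E, hE, hfE⟩ := exists_partner hf le_rfl (g x)
  -- a second fibre missing `x` and the preimage of `E`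
  obtain ⟨i, hi⟩ : ∃ i : Fin b, i ∉ ({f x, f (g⁻¹ E)} : Finset (Fin b)) := by
    suffices h : _ < (Finset.univ : Finset _).card from
      (Finset.exists_mem_notMem_of_card_lt_card h).imp fun _ h => h.2
    calc ({f x, f (g⁻¹ E)} : Finset (Fin b)).card ≤ 2 := Finset.card_le_two
      _ < b := by omega
      _ = _ := by simp
  simp only [Finset.mem_insert, Finset.mem_singleton, not_or] at hi
  obtain ⟨hix, hiE⟩ := hi
  let u : Ω := e.symm (i, 0)
  let v : Ω := e.symm (i, 1)
  have hu : f u = i := by rw [← he]; simp [u]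
  have hv : f v = i := by rw [← he]; simp [v]
  have huv : u ≠ v := by simp [u, v]
  -- a fibre free of the four images
  obtain ⟨m, hm⟩ : ∃ m : Fin b, m ∉ ({f (g x), f (g y), f (g u), f (g v)} : Finset (Fin b)) := by
    suffices h : _ < (Finset.univ : Finset _).card from
      (Finset.exists_mem_notMem_of_card_lt_card h).imp fun _ h => h.2
    calc ({f (g x), f (g y), f (g u), f (g v)} : Finset (Fin b)).card ≤ 4 := Finset.card_le_four
      _ < b := by omega
      _ = _ := by simp
  simp only [Finset.mem_insert, Finset.mem_singleton, not_or] at hm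
  obtain ⟨hm1, hm2, hm3, hm4⟩ := hm
  let G : Ω := e.symm (m, 0)
  let K : Ω := e.symm (m, 1)
  have hG : f G = m := by rw [← he]; simp [G]
  have hK' : f K = m := by rw [← he]; simp [K]
  have hGK : G ≠ K := by simp [G, K]
  have hBE : g y ≠ E := fun h => hgxy (by rw [h, hfE])
  refine ⟨((swap (g x) (g y) * swap (g u) (g v)) * (swap (g x) E * swap G K)) ^ 2, ?_, ?_⟩
  · refine H.pow_mem (H.mul_mem ?_ (hK (swap_mul_swap_mem f hE.symm hGK hfE.symm
      (hG.trans hK'.symm)))) 2
    have := H.mul_mem (H.mul_mem hg (hK (swap_mul_swap_mem f hxy huv hfxy (hu.trans hv.symm))))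
      (H.inv_mem hg)
    convert this using 1
    rw [swap_apply_apply, swap_apply_apply]
    group
  · apply double_swap_three_cycle (fun h => hxy (g.injective h)) hE.symm hBE
    all_goals simp only [List.mem_cons, List.not_mem_nil, or_false, not_or]
    · exact ⟨fun h => hix (by rw [← hu, g.injective h]),
        fun h => hix (by rw [← hu, g.injective h, hfxy]),
        fun h => hiE (by rw [← hu, ← h]; simp),
        fun h => hm3 (by rw [h, hG]), fun h => hm3 (by rw [h, hK'])⟩
    · exact ⟨fun h => hix (by rw [← hv, g.injective h]),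
        fun h => hix (by rw [← hv, g.injective h, hfxy]),
        fun h => hiE (by rw [← hv, ← h]; simp),
        fun h => hm4 (by rw [h, hG]), fun h => hm4 (by rw [h, hK'])⟩
    · exact ⟨fun h => hm1 (by rw [← h, hG]), fun h => hm2 (by rw [← h, hG]),
        fun h => hm1 (by rw [← hfE, ← h, hG])⟩
    · exact ⟨fun h => hm1 (by rw [← h, hK']), fun h => hm2 (by rw [← h, hK']),
        fun h => hm1 (by rw [← hfE, ← h, hK'])⟩

/-- **Maximality of the imprimitive wreath product.** A subgroup containing the even stabiliser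
of a partition into `b ≥ 2` parts of size `a ≥ 2`, `a * b ≠ 8`, and an even element outside it
contains the alternating group. -/
theorem alternatingGroup_le_of_fibreStabilizer_le (h8 : Fintype.card Ω ≠ 8) (ha : 2 ≤ a)
    (hb : 2 ≤ b) (hf : ∀ i : Fin b, Nat.card {x : Ω // f x = i} = a)
    (hK : fibreStabilizer f ⊓ alternatingGroup Ω ≤ H)
    {g : Perm Ω} (hg : g ∈ H) (hgP : g ∉ fibreStabilizer f)
    (hgA : a = 2 → b ≤ 3 → g ∈ alternatingGroup Ω) :
    alternatingGroup Ω ≤ H := by
  obtain ⟨e, he⟩ := exists_equiv_prod f hf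
  have hcard : Fintype.card Ω = b * a := by simp [Fintype.card_congr e]
  by_cases ha3 : 3 ≤ a
  · let x : Ω := e.symm (⟨0, by omega⟩, ⟨0, by omega⟩)
    let y : Ω := e.symm (⟨0, by omega⟩, ⟨1, by omega⟩)
    let z : Ω := e.symm (⟨0, by omega⟩, ⟨2, by omega⟩)
    have hxy : x ≠ y := by simp [x, y]
    have hxz : x ≠ z := by simp [x, z]
    have hyz : y ≠ z := by simp [y, z]
    have hfxy : f x = f y := by rw [← he, ← he]; simp [x, y]
    have hfxz : f x = f z := by rw [← he, ← he]; simp [x, z]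
    exact alternatingGroup_le_of_isPreprimitive_of_isThreeCycle_mem
      (isPreprimitive_of_le hf ha hb (Or.inl ha3) hK hg hgP)
      (isThreeCycle_swap_mul_swap_same hxy hxz hyz)
      (hK (swap_mul_swap_mem f hxy hxz hfxy hfxz))
  obtain rfl : a = 2 := by omega
  by_cases hb5 : 5 ≤ b
  · obtain ⟨c, hc, hc3⟩ := exists_threeCycle_of_pairs hf hb5 hK hg hgP
    exact alternatingGroup_le_of_isPreprimitive_of_isThreeCycle_mem
      (isPreprimitive_of_le hf ha hb (Or.inr (by omega)) hK hg hgP) hc3 hc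
  have hb3 : b ≤ 3 := by
    rcases Nat.lt_or_ge b 4 with h | h
    · omega
    · obtain rfl : b = 4 := by omega
      exact absurd hcard h8
  -- small cases, by order
  haveI : Nontrivial Ω := Fintype.one_lt_card_iff_nontrivial.mp (by omega)
  have hA : 2 * Nat.card (alternatingGroup Ω) = (Fintype.card Ω).factorial := by
    rw [two_mul_nat_card_alternatingGroup, Nat.card_perm, Nat.card_eq_fintype_card]
  let K := (fibreStabilizer f ⊓ alternatingGroup Ω).subgroupOf (alternatingGroup Ω)
  let L := H.subgroupOf (alternatingGroup Ω)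
  suffices hL : L = ⊤ by
    intro z hz
    exact (hL.symm.le (Subgroup.mem_top (⟨z, hz⟩ : alternatingGroup Ω)) : _)
  have hKL : K ≤ L := fun z hz => hK hz
  have hne : K ≠ L := fun h =>
    hgP (h.symm.le (show (⟨g, hgA rfl hb3⟩ : alternatingGroup Ω) ∈ L from hg)).1
  have hcardK : Nat.card K = Nat.card (fibreStabilizer f ⊓ alternatingGroup Ω : Subgroup (Perm Ω)) :=
    Nat.card_congr (Subgroup.subgroupOfEquivOfLe inf_le_right).toEquiv
  have hdvd : L.index ∣ K.index := Subgroup.index_dvd_of_le hKL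
  have hlt : L.index ≠ K.index := fun h => hne
    (Subgroup.eq_of_le_of_card_ge hKL (by
      have h1 := L.index_mul_card
      have h2 := K.index_mul_card
      rw [h] at h1
      exact le_of_eq (Nat.eq_of_mul_eq_mul_left (Nat.pos_of_ne_zero
        Subgroup.index_ne_zero_of_finite) (h1.trans h2.symm))))
  have hKidx := K.index_mul_card
  rw [hcardK, card_even_fibreStabilizer e he] at hKidx
  rw [hcard] at hA
  obtain rfl | rfl : b = 2 ∨ b = 3 := by omega
  · rw [card_even_fibreStabilizer_two_two] at hKidx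
    rw [show (2 * 2 : ℕ).factorial = 24 by decide] at hA
    have : K.index = 3 := by omega
    rw [this] at hdvd hlt
    rcases (Nat.dvd_prime (by norm_num)).mp hdvd with h | h
    · exact Subgroup.index_eq_one.mp h
    · exact absurd h hlt
  · rw [card_even_fibreStabilizer_three_two] at hKidx
    rw [show (3 * 2 : ℕ).factorial = 720 by decide] at hA
    have hK15 : K.index = 15 := by omega
    rw [hK15] at hdvd hlt
    have hle : L.index ≤ 15 := Nat.le_of_dvd (by norm_num) hdvd
    haveI : IsSimpleGroup (alternatingGroup Ω) :=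
      alternatingGroup.isSimpleGroup (by rw [Nat.card_eq_fintype_card, hcard]; norm_num)
    by_contra hL
    have hcore : L.normalCore = ⊥ :=
      (inferInstance : L.normalCore.Normal).eq_bot_or_eq_top.resolve_right
        (fun h => hL (top_le_iff.mp (h ▸ L.normalCore_le)))
    have hinj : Function.Injective (MulAction.toPermHom (alternatingGroup Ω) (alternatingGroup Ω ⧸ L)) := by
      rw [← MonoidHom.ker_eq_bot_iff, ← Subgroup.normalCore_eq_ker, hcore]
    have hb' := Nat.card_le_card_of_injective _ hinj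
    rw [Nat.card_perm] at hb'
    change Nat.card (alternatingGroup Ω) ≤ L.index.factorial at hb'
    have h1 : L.index ≠ 1 := fun h => hL (Subgroup.index_eq_one.mp h)
    have hpos : L.index ≠ 0 := Subgroup.index_ne_zero_of_finite
    have hlt15 : L.index < 15 := lt_of_le_of_ne hle hlt
    interval_cases L.index <;> simp_all [Nat.factorial] <;> omega

end main

end Cfsg.Agent.Lib.Imprimitive
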