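import Mathlib
import Cfsg.Agent.Lib.Alternating.Stabilizer

/-!
Subgroups of index `n` in `A_n` and `S_n` (`n ≥ 5`) are isomorphic to `A_(n-1)` and `S_(n-1)`.
-/

set_option autoImplicit false

namespace Cfsg.Agent.Lib.IndexNStab

open Equiv Equiv.Perm

/-- A subgroup of index `m + 1` of `A_(m+1)` is `A_m`. -/
theorem alt_index {m : ℕ} (hm : 4 ≤ m) (K : Subgroup (alternatingGroup (Fin (m + 1)))) (hK : K.index = m + 1) :
    Nonempty (K ≃* alternatingGroup (Fin m)) := by
  classical
  haveI : IsSimpleGroup (alternatingGroup (Fin (m + 1))) := alternatingGroup.isSimpleGroup (by simp; omega)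
  haveI : Nontrivial (Fin (m + 1)) := Fin.nontrivial_iff_two_le.2 (by omega)
  let e : (alternatingGroup (Fin (m + 1)) ⧸ K) ≃ Fin (m + 1) :=
    (Finite.equivFinOfCardEq (by rw [← Subgroup.index_eq_card, hK]))
  let ρ : alternatingGroup (Fin (m + 1)) →* Perm (Fin (m + 1)) :=
    (e.permCongrHom).toMonoidHom.comp (MulAction.toPermHom _ (alternatingGroup (Fin (m + 1)) ⧸ K))
  have hρ : ∀ g x, ρ g (e x) = e (g • x) := fun g x => by
    simp [ρ, Equiv.permCongrHom, Equiv.permCongr_apply]
  have hρinj : Function.Injective ρ := by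
    rw [← MonoidHom.ker_eq_bot_iff]
    refine (MonoidHom.normal_ker ρ).eq_bot_or_eq_top.resolve_right fun h => ?_
    have hKtop : K = ⊤ := by
      rw [eq_top_iff]
      intro g _
      have h1 : ρ g = 1 := MonoidHom.mem_ker.1 (h ▸ Subgroup.mem_top g)
      have h2 := Equiv.congr_fun h1 (e (QuotientGroup.mk 1))
      rw [hρ, Equiv.Perm.one_apply, EmbeddingLike.apply_eq_iff_eq] at h2
      have h3 : ((g * 1 : alternatingGroup (Fin (m + 1))) : alternatingGroup (Fin (m + 1)) ⧸ K)
          = ((1 : alternatingGroup (Fin (m + 1))) : alternatingGroup (Fin (m + 1)) ⧸ K) := h2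
      rw [mul_one, QuotientGroup.eq, mul_one] at h3
      exact inv_mem_iff.1 h3
    rw [hKtop, Subgroup.index_top] at hK
    omega
  have hrange : ρ.range = alternatingGroup (Fin (m + 1)) := by
    refine Equiv.Perm.eq_alternatingGroup_of_index_eq_two ?_
    have h1 := ρ.range.card_mul_index
    have h2 := two_mul_nat_card_alternatingGroup (α := Fin (m + 1))
    rw [Nat.card_congr (MonoidHom.ofInjective hρinj).toEquiv.symm, ← h2, mul_comm 2] at h1
    exact Nat.eq_of_mul_eq_mul_left Nat.card_pos h1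
  let ρ' : alternatingGroup (Fin (m + 1)) ≃* alternatingGroup (Fin (m + 1)) :=
    (MonoidHom.ofInjective hρinj).trans (MulEquiv.subgroupCongr hrange)
  have hmap : K.map ρ'.toMonoidHom
      = MulAction.stabilizer (alternatingGroup (Fin (m + 1))) (e (QuotientGroup.mk 1)) := by
    ext y
    obtain ⟨g, rfl⟩ := ρ'.surjective y
    rw [Subgroup.mem_map_equiv, MulEquiv.symm_apply_apply, MulAction.mem_stabilizer_iff]
    show _ ↔ ρ g (e _) = _
    rw [hρ, EmbeddingLike.apply_eq_iff_eq]
    show _ ↔ ((g * 1 : alternatingGroup (Fin (m + 1))) : alternatingGroup (Fin (m + 1)) ⧸ K) = _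
    rw [mul_one, QuotientGroup.eq, mul_one, inv_mem_iff]
  exact ⟨(K.equivMapOfInjective _ ρ'.injective).trans ((MulEquiv.subgroupCongr hmap).trans
    (Alternating.altStabilizerEquiv _ (Fintype.card_fin _)).symm)⟩

/-- A subgroup of index `m + 1` of `S_(m+1)` is `S_m`. -/
theorem perm_index {m : ℕ} (hm : 4 ≤ m) (K : Subgroup (Perm (Fin (m + 1)))) (hK : K.index = m + 1) :
    Nonempty (K ≃* Perm (Fin m)) := by
  classical
  haveI : Nontrivial (Fin (m + 1)) := Fin.nontrivial_iff_two_le.2 (by omega)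
  let e : (Perm (Fin (m + 1)) ⧸ K) ≃ Fin (m + 1) :=
    (Finite.equivFinOfCardEq (by rw [← Subgroup.index_eq_card, hK]))
  let ρ : Perm (Fin (m + 1)) →* Perm (Fin (m + 1)) :=
    (e.permCongrHom).toMonoidHom.comp (MulAction.toPermHom _ (Perm (Fin (m + 1)) ⧸ K))
  have hρ : ∀ g x, ρ g (e x) = e (g • x) := fun g x => by
    simp [ρ, Equiv.permCongrHom, Equiv.permCongr_apply]
  have hker : ρ.ker ≤ K := by
    intro g hg
    have h1 : ρ g = 1 := MonoidHom.mem_ker.1 hg
    have h2 := Equiv.congr_fun h1 (e (QuotientGroup.mk 1))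
    rw [hρ, Equiv.Perm.one_apply, EmbeddingLike.apply_eq_iff_eq] at h2
    have h3 : ((g * 1 : Perm (Fin (m + 1))) : Perm (Fin (m + 1)) ⧸ K)
        = ((1 : Perm (Fin (m + 1))) : Perm (Fin (m + 1)) ⧸ K) := h2
    rw [mul_one, QuotientGroup.eq, mul_one] at h3
    exact inv_mem_iff.1 h3
  have hρinj : Function.Injective ρ := by
    rw [← MonoidHom.ker_eq_bot_iff]
    rcases Alternating.normal_perm (by simp; omega) ρ.ker with h | h | h
    · exact h
    · exfalso
      have h2 := Subgroup.index_dvd_of_le (h ▸ hker)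
      rw [alternatingGroup.index_eq_two, hK] at h2
      have := Nat.le_of_dvd (by omega) h2
      omega
    · exfalso
      have h2 := Subgroup.index_dvd_of_le (h ▸ hker)
      rw [Subgroup.index_top, hK] at h2
      have := Nat.le_of_dvd (by omega) h2
      omega
  have hbij : Function.Bijective ρ := Finite.injective_iff_bijective.1 hρinj
  let ρ' : Perm (Fin (m + 1)) ≃* Perm (Fin (m + 1)) := MulEquiv.ofBijective ρ hbij
  have hmap : K.map ρ'.toMonoidHom
      = MulAction.stabilizer (Perm (Fin (m + 1))) (e (QuotientGroup.mk 1)) := by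
    ext y
    obtain ⟨g, rfl⟩ := ρ'.surjective y
    rw [Subgroup.mem_map_equiv, MulEquiv.symm_apply_apply, MulAction.mem_stabilizer_iff]
    show _ ↔ ρ g (e _) = _
    rw [hρ, EmbeddingLike.apply_eq_iff_eq]
    show _ ↔ ((g * 1 : Perm (Fin (m + 1))) : Perm (Fin (m + 1)) ⧸ K) = _
    rw [mul_one, QuotientGroup.eq, mul_one, inv_mem_iff]
  let S : Finset (Fin (m + 1)) := Finset.univ.erase (e (QuotientGroup.mk 1))
  have hS : Fintype.card S = m := by
    rw [Fintype.card_coe, Finset.card_erase_of_mem (Finset.mem_univ _), Finset.card_univ, Fintype.card_fin]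
    rfl
  have hrange : (Equiv.Perm.ofSubtype (p := fun x => x ∈ S)).range
      = MulAction.stabilizer (Perm (Fin (m + 1))) (e (QuotientGroup.mk 1)) := by
    ext g
    rw [MulAction.mem_stabilizer_iff]
    constructor
    · rintro ⟨σ, rfl⟩
      exact Equiv.Perm.ofSubtype_apply_of_not_mem σ (by simp [S])
    · intro hg
      have hg' : ∀ x, x ∈ S ↔ g x ∈ S := fun x => by
        simp only [S, Finset.mem_erase, Finset.mem_univ, and_true]
        exact not_congr ⟨fun hx => hx ▸ hg, fun hx => g.injective (hx.trans hg.symm)⟩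
      refine ⟨g.subtypePerm (fun x => (hg' x).symm), Equiv.Perm.ofSubtype_subtypePerm _ fun x hx => ?_⟩
      simp only [S, Finset.mem_erase, Finset.mem_univ, and_true]
      rintro rfl
      exact hx hg
  exact ⟨(K.equivMapOfInjective _ ρ'.injective).trans ((MulEquiv.subgroupCongr (hmap.trans hrange.symm)).trans
    ((MonoidHom.ofInjective Equiv.Perm.ofSubtype_injective).symm.trans
      (Fintype.equivFinOfCardEq hS).permCongrHom))⟩

end Cfsg.Agent.Lib.IndexNStab
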