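import Mathlib.GroupTheory.Sylow
import Mathlib.GroupTheory.Nilpotent
import Mathlib.GroupTheory.GroupAction.ConjAct

/-!
# Subgroups of index `p` in `p`-groups
-/

set_option autoImplicit false
set_option linter.style.haveILetI false

open scoped commutatorElement

namespace Cfsg.Agent.Lib.IndexP

variable {S : Type*} [Group S] [Finite S] {p : ℕ} [hp : Fact p.Prime]

omit [Finite S] in
theorem isCoatom_of_index (Q : Subgroup S) (h : Q.index = p) : IsCoatom Q := by
  refine ⟨fun e => hp.out.ne_one (by rw [← h, e, Subgroup.index_top]), fun B hB => ?_⟩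
  rcases (Nat.dvd_prime hp.out).1 (h ▸ Subgroup.index_dvd_of_le hB.le) with h1 | h1
  · exact Subgroup.index_eq_one.1 h1
  · exfalso
    have h2 := Subgroup.relIndex_mul_index hB.le
    rw [h, h1] at h2
    have h3 : Q.relIndex B = 1 := Nat.eq_of_mul_eq_mul_right hp.out.pos (h2.trans (one_mul p).symm)
    exact hB.not_ge (Subgroup.relIndex_eq_one.1 h3)

theorem normal_of_index (hS : IsPGroup p S) (Q : Subgroup S) (h : Q.index = p) : Q.Normal := by
  haveI := hS.isNilpotent
  exact Subgroup.NormalizerCondition.normal_of_coatom Q Group.normalizerCondition_of_isNilpotent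
    (isCoatom_of_index Q h)

theorem normal_prime_le_center (hS : IsPGroup p S) (Z : Subgroup S) [hZ : Z.Normal]
    (h : Nat.card Z = p) : Z ≤ Subgroup.center S := by
  intro z hz
  rw [Subgroup.mem_center_iff]
  intro g
  haveI : Fact (Nat.card Z).Prime := ⟨h ▸ hp.out⟩
  haveI := hS.isNilpotent
  by_contra hne
  -- the normaliser condition: `[g, z]` generates `Z` and descends forever
  have hmem : ∀ n : ℕ, Z ≤ (⊤ : Subgroup S).lowerCentralSeries n := by
    intro n
    induction n with
    | zero => simp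
    | succ n ih =>
      have hc : ⁅g, z⁆ ∈ (⊤ : Subgroup S).lowerCentralSeries (n + 1) := by
        rw [Subgroup.lowerCentralSeries_succ]
        rw [← commutatorElement_inv]
        exact inv_mem (Subgroup.commutator_mem_commutator (ih hz) (Subgroup.mem_top g))
      have hcZ : ⁅g, z⁆ ∈ Z := by
        rw [commutatorElement_def]
        exact Z.mul_mem (hZ.conj_mem z hz g) (Z.inv_mem hz)
      rcases Subgroup.eq_bot_or_eq_top_of_prime_card
        (((⊤ : Subgroup S).lowerCentralSeries (n + 1)).subgroupOf Z) with h1 | h1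
      · exfalso
        have h2 : (⟨_, hcZ⟩ : Z) ∈ ((⊤ : Subgroup S).lowerCentralSeries (n + 1)).subgroupOf Z := hc
        rw [h1, Subgroup.mem_bot] at h2
        have h3 : ⁅g, z⁆ = 1 := congrArg Subtype.val h2
        exact hne (commutatorElement_eq_one_iff_mul_comm.1 h3)
      · exact Subgroup.subgroupOf_eq_top.1 h1
  obtain ⟨n, hn⟩ := Subgroup.nilpotent_iff_lowerCentralSeries.1 (inferInstance : Group.IsNilpotent S)
  have := hmem n
  rw [hn, le_bot_iff] at this
  rw [this] at hz
  rw [Subgroup.mem_bot.1 hz] at hne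
  simp at hne

omit [Finite S] in
theorem normal_of_le_center (W : Subgroup S) (h : W ≤ Subgroup.center S) : W.Normal :=
  ⟨fun n hn g => by
    rw [Subgroup.mem_center_iff.1 (h hn) g, mul_inv_cancel_right]
    exact hn⟩

/-- A nontrivial normal subgroup of a finite `p`-group meets the centre. -/
theorem exists_center_mem (hS : IsPGroup p S) (N : Subgroup S) [hN : N.Normal] (hne : N ≠ ⊥) :
    ∃ y ∈ N ⊓ Subgroup.center S, y ≠ 1 := by
  haveI := hS.isNilpotent
  have key : ∀ k, ¬ N ⊓ (⊤ : Subgroup S).lowerCentralSeries k = ⊥ →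
      N ⊓ (⊤ : Subgroup S).lowerCentralSeries (k + 1) = ⊥ → ∃ y ∈ N ⊓ Subgroup.center S, y ≠ 1 := by
    intro k h1 h2
    obtain ⟨⟨y, hy⟩, hy1⟩ := Subgroup.ne_bot_iff_exists_ne_one.1 h1
    refine ⟨y, ⟨hy.1, Subgroup.mem_center_iff.2 fun g => ?_⟩, fun h => hy1 (Subtype.ext h)⟩
    have h3 : ⁅y, g⁆ ∈ N ⊓ (⊤ : Subgroup S).lowerCentralSeries (k + 1) := by
      refine ⟨?_, ?_⟩
      · rw [commutatorElement_def, mul_assoc, mul_assoc, ← mul_assoc g]
        exact N.mul_mem hy.1 (hN.conj_mem _ (N.inv_mem hy.1) g)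
      · rw [Subgroup.lowerCentralSeries_succ]
        exact Subgroup.commutator_mem_commutator hy.2 (Subgroup.mem_top g)
    rw [h2, Subgroup.mem_bot, commutatorElement_eq_one_iff_mul_comm] at h3
    exact h3.symm
  obtain ⟨n, hn⟩ := Subgroup.nilpotent_iff_lowerCentralSeries.1 (inferInstance : Group.IsNilpotent S)
  classical
  have hex : ∃ k, N ⊓ (⊤ : Subgroup S).lowerCentralSeries k = ⊥ := ⟨n, by rw [hn, inf_bot_eq]⟩
  obtain ⟨k, hk⟩ : ∃ k, Nat.find hex = k + 1 := by
    refine Nat.exists_eq_succ_of_ne_zero fun h0 => hne ?_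
    have := Nat.find_spec hex
    rw [h0] at this
    simpa using this
  exact key k (Nat.find_min hex (by omega)) (hk ▸ Nat.find_spec hex)

end Cfsg.Agent.Lib.IndexP
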