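import Mathlib
import Cfsg.Prelude.Def_Solvable
import Cfsg.Agent.Lib.IndexNStab
import Cfsg.Agent.Lib.Cores.Basic
import Cfsg.Agent.Lib.Induced.Burnside
import Cfsg.Agent.Lib.SmallGroups.Counting

/-!
Subgroups of `A₈` without non-trivial normal `p`-subgroups: `A_n` (5..8), `S₅`, `S₆`, or of order 168 (simple) or 1344.
-/

set_option autoImplicit false

namespace Cfsg.Agent.Lib.SubgroupsA8

open Equiv Equiv.Perm Cfsg
open scoped Pointwise

/-- No non-trivial normal `p`-subgroup, for every prime `p`. -/
def NoP (H : Type*) [Group H] : Prop := ∀ p : ℕ, p.Prime → Cfsg.pCore p H = ⊥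

theorem noP_of_cores {H : Type*} [Group H] [Finite H] (hO : Cfsg.pPrimeCore 2 H = ⊥)
    (hO2 : Cfsg.pCore 2 H = ⊥) : NoP H := by
  intro p hp
  by_cases h2 : p = 2
  · exact h2 ▸ hO2
  haveI := Fact.mk hp
  refine le_bot_iff.1 (hO ▸ Cores.le_pPrimeCore (N := Cfsg.pCore p H) (hN := ?_) ?_)
  · infer_instance
  · obtain ⟨k, hk⟩ := IsPGroup.iff_card.1 (Cores.pCore_isPGroup (G := H) p)
    rw [hk]
    exact Nat.Coprime.pow_left k ((Nat.coprime_primes hp Nat.prime_two).2 h2)

theorem noP_normal {H : Type*} [Group H] [Finite H] (h : NoP H) (N : Subgroup H) [N.Normal] : NoP N := by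
  intro p hp
  have h1 := Cores.map_subtype_pCore p N
  rw [h p hp, inf_bot_eq] at h1
  exact (Subgroup.map_eq_bot_iff_of_injective _ N.subtype_injective).1 h1

theorem nontrivial_not_solvable {H : Type*} [Group H] [Finite H] (h : NoP H) [Nontrivial H] :
    ¬ Group.IsSolvable H := by
  intro hs
  have h1 := Cores.fittingSubgroup_ne_bot (G := H)
  rw [Cores.fittingSubgroup_eq_iSup_pCore] at h1
  refine h1 (le_bot_iff.1 (iSup_le fun p => ?_))
  first
    | exact (h _ p.2).le
    | exact iSup_le fun hp => (h _ (by first | exact hp | exact hp.1)).le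

theorem eq_bot_of_solvable {H : Type*} [Group H] [Finite H] (h : NoP H) (N : Subgroup H) [N.Normal]
    (hs : Group.IsSolvable N) : N = ⊥ := by
  by_contra hne
  haveI := (Subgroup.nontrivial_iff_ne_bot N).2 hne
  exact nontrivial_not_solvable (noP_normal h N) hs

theorem isSolvable_of_dvd {H : Type*} [Group H] [Finite H] {p q a b : ℕ} (hp : p.Prime) (hq : q.Prime)
    (h : Nat.card H ∣ p ^ a * q ^ b) : Group.IsSolvable H := by
  obtain ⟨x, y, hx, hy, hxy⟩ := exists_dvd_and_dvd_of_dvd_mul h
  obtain ⟨i, -, rfl⟩ := (Nat.dvd_prime_pow hp).1 hx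
  obtain ⟨j, -, rfl⟩ := (Nat.dvd_prime_pow hq).1 hy
  exact Induced.Burnside.isSolvable_of_card_eq p q i j hp hq hxy

theorem card_sylow_ne_one {H : Type*} [Group H] [Finite H] (h : NoP H) {p : ℕ} [hp : Fact p.Prime]
    (hd : p ∣ Nat.card H) (P : Sylow p H) : Nat.card (Sylow p H) ≠ 1 := by
  intro h1
  haveI : Subsingleton (Sylow p H) := (Nat.card_eq_one_iff_unique.1 h1).1
  have hn : (P : Subgroup H).Normal := P.normal_of_subsingleton
  have h2 : (P : Subgroup H) ≤ Cfsg.pCore p H := Cores.le_pCore P.isPGroup'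
  rw [h p hp.out, le_bot_iff] at h2
  exact P.ne_bot_of_dvd_card hd h2

/-- The normaliser in `A_n` of a subgroup of order `p` (`p ≤ n < 2p`). -/
theorem card_normalizer_alt {n p : ℕ} [hp : Fact p.Prime] (h1 : p ≤ n) (h2 : n < 2 * p) (hp2 : p ≠ 2)
    (Q : Subgroup (alternatingGroup (Fin n))) (hQ : Nat.card Q = p) :
    2 * Nat.card (Subgroup.normalizer (Q : Set (alternatingGroup (Fin n)))) ∣ p * (p - 1) * (n - p).factorial := by
  have hn2 : 2 ≤ n := le_trans hp.out.two_le h1
  haveI : Nontrivial (Fin n) := Fin.nontrivial_iff_two_le.2 hn2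
  let Q' : Subgroup (Perm (Fin n)) := Q.map (alternatingGroup (Fin n)).subtype
  have hQ' : Nat.card Q' = p := by
    rw [Subgroup.card_map_of_injective (Subgroup.subtype_injective _), hQ]
  let P : Sylow p (Perm (Fin n)) := Sylow.ofCard Q' (by
    rw [hQ', Nat.card_perm, Nat.card_fin]
    have hf : (n.factorial).factorization p = 1 := by
      have h := SmallGroups.Counting.card_sylow_perm (α := Fin n) (p := p) (by simpa using h1) (by simpa using h2)
        (default : Sylow p (Perm (Fin n)))
      rw [Sylow.card_eq_multiplicity, Nat.card_perm, Nat.card_fin] at h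
      exact Nat.pow_right_injective hp.out.two_le (h.trans (pow_one p).symm)
    rw [hf, pow_one])
  have hP : (P : Subgroup (Perm (Fin n))) = Q' := rfl
  have hle : (Subgroup.normalizer (Q : Set (alternatingGroup (Fin n)))).map (alternatingGroup (Fin n)).subtype ≤
      Subgroup.normalizer ((P : Subgroup (Perm (Fin n))) : Set (Perm (Fin n))) ⊓ alternatingGroup (Fin n) := by
    rw [hP]
    exact le_inf (Subgroup.le_normalizer_map _) (Subgroup.map_subtype_le _)
  have hd := Subgroup.card_dvd_of_le hle
  rw [Subgroup.card_map_of_injective (Subgroup.subtype_injective _)] at hd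
  have h3 := SmallGroups.Counting.card_normalizer_inf_alternating (α := Fin n) hp2 P
  have h4 := SmallGroups.Counting.card_normalizer_perm (α := Fin n) (p := p) (by simpa using h1) (by simpa using h2) P
  rw [Fintype.card_fin] at h4
  rw [← h4, ← h3]
  exact Nat.mul_dvd_mul_left 2 hd

/-- Sylow data of a subgroup of `A_n` at a large prime. -/
theorem sylow_data {H : Type*} [Group H] [Finite H] (hnp : NoP H) {n p : ℕ} [hp : Fact p.Prime]
    (h1 : p ≤ n) (h2 : n < 2 * p) (hp2 : p ≠ 2) (f : H →* alternatingGroup (Fin n)) (hf : Function.Injective f)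
    (hd : p ∣ Nat.card H) :
    ∃ s m : ℕ, Nat.card H = s * m ∧ p ∣ m ∧ 2 * m ∣ p * (p - 1) * (n - p).factorial ∧ s % p = 1 ∧ s ≠ 1 ∧
      (m = p → ∃ K : Subgroup H, K.Normal ∧ Nat.card K = s) := by
  obtain ⟨P⟩ : Nonempty (Sylow p H) := inferInstance
  set N := Subgroup.normalizer ((P : Subgroup H) : Set H) with hN
  have hnt : Nontrivial (Fin n) := Fin.nontrivial_iff_two_le.2 (le_trans hp.out.two_le h1)
  have hPp : Nat.card P = p := by
    obtain ⟨k, hk⟩ := IsPGroup.iff_card.1 P.isPGroup'
    have hk0 : k ≠ 0 := by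
      rintro rfl
      rw [pow_zero] at hk
      exact P.ne_bot_of_dvd_card hd (Subgroup.card_eq_one.1 hk)
    let g := (alternatingGroup (Fin n)).subtype.comp (f.comp (P : Subgroup H).subtype)
    have hg : Function.Injective g :=
      (Subgroup.subtype_injective _).comp (hf.comp (Subgroup.subtype_injective _))
    have h3 : Nat.card P ∣ Nat.card (Perm (Fin n)) := by
      have := Subgroup.card_dvd_of_injective g hg
      exact this
    rw [hk, Nat.card_perm, Nat.card_fin, Nat.Prime.pow_dvd_iff_le_factorization hp.out (Nat.factorial_ne_zero n)] at h3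
    have h4 := SmallGroups.Counting.card_sylow_perm (α := Fin n) (p := p) (by simpa using h1) (by simpa using h2)
      (default : Sylow p (Perm (Fin n)))
    rw [Sylow.card_eq_multiplicity, Nat.card_perm, Nat.card_fin] at h4
    have := Nat.pow_right_injective hp.out.two_le (h4.trans (pow_one p).symm)
    rw [hk, show k = 1 by omega, pow_one]
  refine ⟨Nat.card (Sylow p H), Nat.card N, ?_, ?_, ?_, ?_, card_sylow_ne_one hnp hd P, ?_⟩
  · rw [P.card_eq_index_normalizer]
    exact N.index_mul_card.symm
  · exact hPp ▸ Subgroup.card_dvd_of_le Subgroup.le_normalizer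
  · have hle : N.map f ≤ Subgroup.normalizer (((P : Subgroup H).map f : Subgroup (alternatingGroup (Fin n))) :
        Set (alternatingGroup (Fin n))) := Subgroup.le_normalizer_map _
    have h3 := Subgroup.card_dvd_of_le hle
    rw [Subgroup.card_map_of_injective hf] at h3
    exact (Nat.mul_dvd_mul_left 2 h3).trans
      (card_normalizer_alt h1 h2 hp2 _ (by rw [Subgroup.card_map_of_injective hf, hPp]))
  · have := card_sylow_modEq_one p H
    rw [Nat.ModEq, Nat.one_mod_eq_one.2 hp.out.ne_one] at this
    exact this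
  · intro hm
    have hPN : (P : Subgroup H) = N :=
      Subgroup.eq_of_le_of_card_ge Subgroup.le_normalizer (by
        show Nat.card N ≤ Nat.card P
        rw [hm, hPp])
    have hPc : IsMulCommutative (P : Subgroup H) := by
      haveI := isCyclic_of_prime_card (α := (P : Subgroup H)) hPp
      exact IsCyclic.isMulCommutative
    have hc : Subgroup.normalizer ((P : Subgroup H) : Set H) ≤ Subgroup.centralizer ((P : Subgroup H) : Set H) := by
      rw [← hN, ← hPN]
      exact Subgroup.le_centralizer_iff_isMulCommutative.2 hPc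
    have hK := MonoidHom.ker_transferSylow_isComplement' P hc
    refine ⟨_, MonoidHom.normal_ker (MonoidHom.transferSylow P hc), ?_⟩
    have h3 := hK.card_mul_card
    have h4 : Nat.card H = Nat.card (Sylow p H) * Nat.card N := by
      rw [P.card_eq_index_normalizer]
      exact N.index_mul_card.symm
    rw [h4, hm] at h3
    rw [show Nat.card ((P : Subgroup H)) = p from hPp] at h3
    exact Nat.eq_of_mul_eq_mul_right hp.out.pos h3

theorem small {H : Type*} [Group H] [Finite H] (hnp : NoP H) {d : ℕ} (hd : d = 5 ∨ d = 6)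
    (ψ : H →* Perm (Fin d)) (hψ : Function.Injective ψ) (h5 : 5 ∣ Nat.card H) :
    (∃ n : ℕ, 5 ≤ n ∧ n ≤ 8 ∧ Nonempty (H ≃* alternatingGroup (Fin n))) ∨
      Nonempty (H ≃* Perm (Fin 5)) ∨ Nonempty (H ≃* Perm (Fin 6)) := by
  haveI : Fact (Nat.Prime 5) := ⟨Nat.prime_five⟩
  haveI : Nontrivial (Fin d) := Fin.nontrivial_iff_two_le.2 (by omega)
  set H₀ := (alternatingGroup (Fin d)).comap ψ with hH₀
  haveI : H₀.Normal := Subgroup.Normal.comap inferInstance ψ
  have hidx : H₀.index ∣ 2 := by
    rw [hH₀, Subgroup.index_comap, ← alternatingGroup.index_eq_two (α := Fin d)]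
    exact Subgroup.relIndex_dvd_index_of_normal _ _
  have hmul := H₀.card_mul_index
  have h50 : 5 ∣ Nat.card H₀ := by
    have h := h5
    rw [← hmul] at h
    exact ((Nat.prime_five.dvd_mul).1 h).resolve_right fun h' => by
      have := h'.trans hidx
      norm_num at this
  let f : H₀ →* alternatingGroup (Fin d) := (ψ.comp H₀.subtype).codRestrict _ fun x => x.2
  have hf : Function.Injective f := fun a b hab => Subtype.ext (hψ (congrArg Subtype.val hab))
  have hnp₀ := noP_normal hnp H₀
  obtain ⟨s, m, hcard, hpm, hm, hs, hs1, hcompl⟩ :=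
    sylow_data hnp₀ (p := 5) (n := d) (by omega) (by omega) (by norm_num) f hf h50
  have hm' : m = 5 ∨ m = 10 := by
    have h20 : 2 * m ∣ 20 := by rcases hd with rfl | rfl <;> simpa using hm
    have h10 : m ∣ 10 := Nat.dvd_of_mul_dvd_mul_left two_pos h20
    have := Nat.le_of_dvd (by norm_num) h10
    interval_cases m <;> omega
  have halt : 2 * Nat.card (alternatingGroup (Fin d)) = d.factorial := by
    rw [two_mul_nat_card_alternatingGroup, Nat.card_perm, Nat.card_fin]
  have hdiv : 2 * (s * m) ∣ d.factorial := by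
    rw [← hcard, ← halt]
    exact Nat.mul_dvd_mul_left 2 (Subgroup.card_dvd_of_injective f hf)
  have hm10 : m = 10 := by
    refine hm'.resolve_left fun h => ?_
    obtain ⟨K, hK, hKs⟩ := hcompl h
    have hs72 : s ∣ 2 ^ 3 * 3 ^ 2 := by
      subst h
      have h1 : 2 * (s * 5) ∣ 720 := hdiv.trans (by rcases hd with rfl | rfl <;> decide)
      obtain ⟨c, hc⟩ := h1
      exact ⟨c, by ring_nf at hc ⊢; omega⟩
    have hKb := eq_bot_of_solvable hnp₀ K (isSolvable_of_dvd Nat.prime_two Nat.prime_three (hKs ▸ hs72))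
    rw [hKb, Subgroup.card_bot] at hKs
    exact hs1 hKs.symm
  subst hm10
  have hs6 : (s = 6) ∨ (s = 36 ∧ d = 6) := by
    rcases hd with rfl | rfl
    · rw [show (5 : ℕ).factorial = 120 from rfl] at hdiv
      have h1 : s ∣ 6 := by
        obtain ⟨c, hc⟩ := hdiv
        exact ⟨c, by ring_nf at hc ⊢; omega⟩
      have := Nat.le_of_dvd (by norm_num) h1
      left; omega
    · rw [show (6 : ℕ).factorial = 720 from rfl] at hdiv
      have h1 : s ∣ 36 := by
        obtain ⟨c, hc⟩ := hdiv
        exact ⟨c, by ring_nf at hc ⊢; omega⟩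
      have := Nat.le_of_dvd (by norm_num) h1
      rcases Nat.lt_or_ge s 36 with h | h
      · left; interval_cases s <;> omega
      · right; omega
  have hi : H₀.index = 1 ∨ H₀.index = 2 := (Nat.dvd_prime Nat.prime_two).1 hidx
  have hdg : d.factorial = if d = 5 then 120 else 720 := by rcases hd with rfl | rfl <;> rfl
  rcases hi with hi | hi
  · -- inside the alternating group
    have htop : H₀ = ⊤ := Subgroup.index_eq_one.1 hi
    let g : H →* alternatingGroup (Fin d) := ψ.codRestrict _ fun x => (htop ▸ Subgroup.mem_top x : x ∈ H₀)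
    have hg : Function.Injective g := fun a b hab => hψ (congrArg Subtype.val hab)
    have hcH : Nat.card H = s * 10 := by rw [← hcard, htop, Subgroup.card_top]
    let eH : H ≃* g.range := MonoidHom.ofInjective hg
    rcases hs6 with rfl | ⟨rfl, rfl⟩
    · rcases hd with rfl | rfl
      · left
        refine ⟨5, le_rfl, by norm_num, ⟨MulEquiv.ofBijective g (hg.bijective_of_nat_card_le ?_)⟩⟩
        have := halt
        rw [show (5 : ℕ).factorial = 120 from rfl] at this
        omega
      · left
        have h1 := g.range.card_mul_index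
        rw [← Nat.card_congr eH.toEquiv, hcH] at h1
        have := halt
        rw [show (6 : ℕ).factorial = 720 from rfl] at this
        obtain ⟨e⟩ := IndexNStab.alt_index (m := 5) (by norm_num) g.range (by omega)
        exact ⟨5, le_rfl, by norm_num, ⟨eH.trans e⟩⟩
    · left
      refine ⟨6, by norm_num, by norm_num, ⟨MulEquiv.ofBijective g (hg.bijective_of_nat_card_le ?_)⟩⟩
      have := halt
      rw [show (6 : ℕ).factorial = 720 from rfl] at this
      omega
  · right
    have hcH : Nat.card H = s * 10 * 2 := by rw [← hcard, ← hi, hmul]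
    have hperm : Nat.card (Perm (Fin d)) = d.factorial := by rw [Nat.card_perm, Nat.card_fin]
    let eH : H ≃* ψ.range := MonoidHom.ofInjective hψ
    rcases hs6 with rfl | ⟨rfl, rfl⟩
    · rcases hd with rfl | rfl
      · left
        refine ⟨MulEquiv.ofBijective ψ (hψ.bijective_of_nat_card_le ?_)⟩
        rw [hperm, hcH]
        decide
      · left
        have h1 := ψ.range.card_mul_index
        rw [← Nat.card_congr eH.toEquiv, hcH, hperm, show (6 : ℕ).factorial = 720 from rfl] at h1
        obtain ⟨e⟩ := IndexNStab.perm_index (m := 5) (by norm_num) ψ.range (by omega)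
        exact ⟨eH.trans e⟩
    · right
      refine ⟨MulEquiv.ofBijective ψ (hψ.bijective_of_nat_card_le ?_)⟩
      rw [hperm, hcH]
      decide

theorem no_order_thirty_five (σ : Perm (Fin 8)) : orderOf σ ≠ 35 := by
  intro h
  have hc : ∀ c ∈ σ.cycleType, c = 5 ∨ c = 7 := by
    intro c hc
    have h1 : c ∣ 35 := h ▸ Equiv.Perm.dvd_of_mem_cycleType hc
    have h2 : c ≤ 8 := by
      calc c ≤ σ.cycleType.sum := Multiset.le_sum_of_mem hc
        _ = σ.support.card := Equiv.Perm.sum_cycleType σ
        _ ≤ 8 := σ.support.card_le_univ.trans (by simp)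
    have h3 := Equiv.Perm.two_le_of_mem_cycleType hc
    interval_cases c <;> omega
  have hl : σ.cycleType.lcm = 35 := by rw [Equiv.Perm.lcm_cycleType, h]
  have h5 : 5 ∈ σ.cycleType := by
    by_contra hcon
    have : σ.cycleType.lcm ∣ 7 := Multiset.lcm_dvd.2 fun c hc' =>
      (hc c hc').elim (fun e => absurd (e ▸ hc') hcon) (fun e => e ▸ dvd_rfl)
    rw [hl] at this
    norm_num at this
  have h7 : 7 ∈ σ.cycleType := by
    by_contra hcon
    have : σ.cycleType.lcm ∣ 5 := Multiset.lcm_dvd.2 fun c hc' =>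
      (hc c hc').elim (fun e => e ▸ dvd_rfl) (fun e => absurd (e ▸ hc') hcon)
    rw [hl] at this
    norm_num at this
  have h7' : 7 ∈ σ.cycleType.erase 5 := (Multiset.mem_erase_of_ne (by norm_num)).2 h7
  have h1 := Multiset.le_sum_of_mem h7'
  have h2 : σ.cycleType.sum = 5 + (σ.cycleType.erase 5).sum := by
    rw [← Multiset.sum_cons, Multiset.cons_erase h5]
  have h3 : σ.cycleType.sum ≤ 8 := by
    rw [Equiv.Perm.sum_cycleType]
    exact σ.support.card_le_univ.trans (by simp)
  omega

theorem seven {H : Type*} [Group H] [Finite H] [Nontrivial H] (hnp : NoP H) (h2 : 2 ∣ Nat.card H)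
    (f : H →* alternatingGroup (Fin 8)) (hf : Function.Injective f) (h7 : 7 ∣ Nat.card H) :
    (∃ n : ℕ, 5 ≤ n ∧ n ≤ 8 ∧ Nonempty (H ≃* alternatingGroup (Fin n))) ∨
      (Nat.card H = 168 ∧ IsSimpleGroup H) ∨ Nat.card H = 1344 := by
  haveI : Fact (Nat.Prime 7) := ⟨by norm_num⟩
  haveI : Fact (Nat.Prime 5) := ⟨Nat.prime_five⟩
  have hA : Nat.card (alternatingGroup (Fin 8)) = 20160 := by
    rw [nat_card_alternatingGroup, Nat.card_fin]
    decide
  have hdvd : Nat.card H ∣ 20160 := hA ▸ Subgroup.card_dvd_of_injective f hf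
  obtain ⟨s, m, hcard, hpm, hm, hs, hs1, hcompl⟩ :=
    sylow_data hnp (p := 7) (n := 8) (by norm_num) (by norm_num) (by norm_num) f hf h7
  have hm' : m = 7 ∨ m = 21 := by
    have h21 : m ∣ 21 := Nat.dvd_of_mul_dvd_mul_left two_pos (by simpa using hm)
    have := Nat.le_of_dvd (by norm_num) h21
    interval_cases m <;> omega
  have hm21 : m = 21 := by
    refine hm'.resolve_left fun h => ?_
    subst h
    obtain ⟨K, hK, hKs⟩ := hcompl rfl
    have hsd : s ∣ 2880 := Nat.dvd_of_mul_dvd_mul_left (show 0 < 7 by norm_num) (by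
      rw [mul_comm 7 s, ← hcard]; exact hdvd)
    have hK1 : K ≠ ⊥ := fun hb => hs1 (by rw [← hKs, hb, Subgroup.card_bot])
    have hK5 : 5 ∣ Nat.card K := by
      by_contra h5
      have hd : Nat.card K ∣ 5 * (2 ^ 6 * 3 ^ 2) := by rw [hKs]; exact hsd.trans (by norm_num)
      exact hK1 (eq_bot_of_solvable hnp K (isSolvable_of_dvd Nat.prime_two Nat.prime_three
        (((Nat.prime_five.coprime_iff_not_dvd).2 h5).symm.dvd_of_dvd_mul_left hd)))
    obtain ⟨R⟩ : Nonempty (Sylow 5 K) := inferInstance
    set R' : Subgroup H := (R : Subgroup K).map K.subtype with hR'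
    have hRcard : Nat.card R' = 5 := by
      rw [hR', Subgroup.card_map_of_injective K.subtype_injective]
      obtain ⟨k, hk⟩ := IsPGroup.iff_card.1 R.isPGroup'
      have hk0 : k ≠ 0 := by
        rintro rfl
        rw [pow_zero] at hk
        exact R.ne_bot_of_dvd_card hK5 (Subgroup.card_eq_one.1 hk)
      have h1 : 5 ^ k ∣ 2880 := hk ▸ ((Subgroup.card_subgroup_dvd_card _).trans (hKs ▸ hsd))
      have hk2 : k < 2 := by
        by_contra hk2
        have : 5 ^ 2 ∣ 2880 := (pow_dvd_pow 5 (by omega)).trans h1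
        norm_num at this
      rw [hk, show k = 1 by omega, pow_one]
    have hfrat : Subgroup.normalizer (R' : Set H) ⊔ K = ⊤ := Sylow.normalizer_sup_eq_top R
    have h7N : 7 ∣ Nat.card (Subgroup.normalizer (R' : Set H)) := by
      have h1 := Cores.card_sup_dvd_mul (Subgroup.normalizer (R' : Set H)) K
      rw [hfrat, Subgroup.card_top] at h1
      refine ((Nat.Prime.dvd_mul (by norm_num)).1 (h7.trans h1)).resolve_right fun h => ?_
      rw [hKs] at h
      omega
    obtain ⟨y, hy⟩ := exists_prime_orderOf_dvd_card' 7 h7N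
    obtain ⟨x, hx⟩ := exists_prime_orderOf_dvd_card' (G := R') 5 (by rw [hRcard])
    have hyo : orderOf (y : H) = 7 := by rw [Subgroup.orderOf_coe, hy]
    have hxo : orderOf (x : H) = 5 := by rw [Subgroup.orderOf_coe, hx]
    have hcomm : (y : H) * x = x * y := by
      let c : MulAut R' := (Subgroup.normalizerMonoidHom R') y
      have h1 : orderOf c ∣ 7 := hy ▸ orderOf_map_dvd _ y
      have h2' : orderOf c ∣ (5 - 1).factorial := by
        have h3 := SmallGroups.Counting.card_mulAut_dvd_factorial R'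
        rw [hRcard] at h3
        exact (orderOf_dvd_natCard c).trans h3
      have hc1 : c = 1 := orderOf_eq_one_iff.1 (Nat.eq_one_of_dvd_coprimes (by decide) h1 h2')
      have h4 : (y : H) * x * (y : H)⁻¹ = x := congrArg Subtype.val (MulEquiv.congr_fun hc1 x)
      exact mul_inv_eq_iff_eq_mul.1 h4
    refine no_order_thirty_five ((alternatingGroup (Fin 8)).subtype (f ((y : H) * x))) ?_
    rw [orderOf_injective _ (Subgroup.subtype_injective _), orderOf_injective _ hf,
      Commute.orderOf_mul_eq_mul_orderOf_of_coprime hcomm (by rw [hyo, hxo]; decide), hyo, hxo]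
  subst hm21
  have hs960 : s ∣ 960 := Nat.dvd_of_mul_dvd_mul_left (show 0 < 21 by norm_num) (by
    rw [mul_comm 21 s, ← hcard]; exact hdvd)
  have hlist : ∀ t ∈ Nat.divisors 960, t % 7 = 1 → t = 1 ∨ t = 8 ∨ t = 15 ∨ t = 64 ∨ t = 120 ∨ t = 960 := by
    decide +kernel
  rcases hlist s (Nat.mem_divisors.2 ⟨hs960, by norm_num⟩) hs with rfl | rfl | rfl | rfl | rfl | rfl
  · exact absurd rfl hs1
  · right; left
    refine ⟨by omega, ⟨fun N hN => ?_⟩⟩
    by_contra hcon
    push Not at hcon
    have hNdvd : Nat.card N ∣ 168 := by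
      have := Subgroup.card_subgroup_dvd_card N
      rwa [hcard] at this
    have h7N : 7 ∣ Nat.card N := by
      by_contra h
      exact hcon.1 (eq_bot_of_solvable hnp N (isSolvable_of_dvd Nat.prime_two Nat.prime_three
        (((Nat.Prime.coprime_iff_not_dvd (by norm_num)).2 h).symm.dvd_of_dvd_mul_left
          (show Nat.card N ∣ 7 * (2 ^ 3 * 3 ^ 1) from hNdvd))))
    obtain ⟨Q⟩ : Nonempty (Sylow 7 N) := inferInstance
    set Q' : Subgroup H := (Q : Subgroup N).map N.subtype
    have hfrat : Subgroup.normalizer (Q' : Set H) ⊔ N = ⊤ := Sylow.normalizer_sup_eq_top Q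
    have hQcard : Nat.card Q' = 7 := by
      rw [Subgroup.card_map_of_injective N.subtype_injective]
      obtain ⟨k, hk⟩ := IsPGroup.iff_card.1 Q.isPGroup'
      have hk0 : k ≠ 0 := by
        rintro rfl
        rw [pow_zero] at hk
        exact Q.ne_bot_of_dvd_card h7N (Subgroup.card_eq_one.1 hk)
      have h1 : 7 ^ k ∣ 168 := hk ▸ ((Subgroup.card_subgroup_dvd_card _).trans hNdvd)
      have hk2 : k < 2 := by
        by_contra hk2
        have : 7 ^ 2 ∣ 168 := (pow_dvd_pow 7 (by omega)).trans h1
        norm_num at this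
      rw [hk, show k = 1 by omega, pow_one]
    have hQN : Nat.card (Subgroup.normalizer (Q' : Set H)) ∣ 21 := by
      have h1 := card_normalizer_alt (n := 8) (p := 7) (by norm_num) (by norm_num) (by norm_num) (Q'.map f)
        (by rw [Subgroup.card_map_of_injective hf, hQcard])
      have h2' := Subgroup.card_dvd_of_le (Subgroup.le_normalizer_map (H := Q') f)
      rw [Subgroup.card_map_of_injective hf] at h2'
      exact h2'.trans (Nat.dvd_of_mul_dvd_mul_left two_pos (by simpa using h1))
    have h8 : 8 ∣ Nat.card N := by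
      have h1 := Cores.card_sup_dvd_mul (Subgroup.normalizer (Q' : Set H)) N
      rw [hfrat, Subgroup.card_top, hcard] at h1
      exact Nat.Coprime.dvd_of_dvd_mul_left (show Nat.Coprime 8 21 by decide)
        (dvd_trans ⟨21, rfl⟩ (h1.trans (Nat.mul_dvd_mul_right hQN _)))
    have h56 : 56 ∣ Nat.card N := Nat.Coprime.mul_dvd_of_dvd_of_dvd (show Nat.Coprime 8 7 by decide) h8 h7N
    have hN3 : Nat.card N = 56 ∨ Nat.card N = 168 := by
      obtain ⟨c, hc⟩ := h56
      have : c ∣ 3 := Nat.dvd_of_mul_dvd_mul_left (show 0 < 56 by norm_num) (hc ▸ hNdvd)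
      rcases (Nat.dvd_prime Nat.prime_three).1 this with rfl | rfl <;> omega
    rcases hN3 with h | h
    · exact hcon.1 (eq_bot_of_solvable hnp N (isSolvable_of_dvd Nat.prime_two (show Nat.Prime 7 by norm_num)
        (show Nat.card N ∣ 2 ^ 3 * 7 ^ 1 by rw [h]; norm_num)))
    · exact hcon.2 (Subgroup.eq_top_of_card_eq N (by rw [h, hcard]))
  · rw [hcard] at h2; norm_num at h2
  · right; right; omega
  · left
    have h1 := f.range.card_mul_index
    rw [← Nat.card_congr (MonoidHom.ofInjective hf).toEquiv, hcard, hA] at h1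
    obtain ⟨e⟩ := IndexNStab.alt_index (m := 7) (by norm_num) f.range (by omega)
    exact ⟨7, by norm_num, by norm_num, ⟨(MonoidHom.ofInjective hf).trans e⟩⟩
  · left
    exact ⟨8, by norm_num, le_rfl, ⟨MulEquiv.ofBijective f (hf.bijective_of_nat_card_le (by omega))⟩⟩

theorem five {H : Type*} [Group H] [Finite H] (hnp : NoP H)
    (f : H →* alternatingGroup (Fin 8)) (hf : Function.Injective f) (h5 : 5 ∣ Nat.card H) (h7 : ¬ 7 ∣ Nat.card H) :
    (∃ n : ℕ, 5 ≤ n ∧ n ≤ 8 ∧ Nonempty (H ≃* alternatingGroup (Fin n))) ∨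
      Nonempty (H ≃* Perm (Fin 5)) ∨ Nonempty (H ≃* Perm (Fin 6)) := by
  classical
  haveI : Fact (Nat.Prime 5) := ⟨Nat.prime_five⟩
  let φ : H →* Perm (Fin 8) := (alternatingGroup (Fin 8)).subtype.comp f
  have hφ : Function.Injective φ := (Subgroup.subtype_injective _).comp hf
  obtain ⟨c, hc⟩ := exists_prime_orderOf_dvd_card' 5 h5
  have hσ : orderOf (φ c) = 5 := by rw [orderOf_injective φ hφ, hc]
  have hcyc : (φ c).IsCycle :=
    Equiv.Perm.isCycle_of_prime_order' (by rw [hσ]; exact Nat.prime_five) (by rw [hσ]; simp)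
  have hsupp : (φ c).support.card = 5 := by rw [← hcyc.orderOf, hσ]
  obtain ⟨a, ha⟩ := hcyc.nonempty_support
  letI : MulAction H (Fin 8) := MulAction.compHom (Fin 8) φ
  have hsmul : ∀ (h : H) (x : Fin 8), h • x = φ h x := fun h x => rfl
  set Δ := MulAction.orbit H a with hΔdef
  have hSΔ : ∀ x ∈ (φ c).support, x ∈ Δ := by
    intro x hx
    obtain ⟨i, hi⟩ := hcyc.exists_zpow_eq (Equiv.Perm.mem_support.1 ha) (Equiv.Perm.mem_support.1 hx)
    exact ⟨c ^ i, by show (c ^ i) • a = x; rw [hsmul, map_zpow, hi]⟩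
  have hΔge : 5 ≤ Nat.card Δ := by
    rw [← hsupp, ← Nat.card_eq_finsetCard]
    exact Nat.card_le_card_of_injective (fun x : {x // x ∈ (φ c).support} => (⟨x.1, hSΔ x.1 x.2⟩ : Δ))
      (fun x y hxy => Subtype.ext (congrArg (fun z : Δ => (z : Fin 8)) hxy))
  have hΔle : Nat.card Δ ≤ 8 := (Nat.card_le_card_of_injective _ Subtype.val_injective).trans (by simp)
  have hΔdvd : Nat.card Δ ∣ Nat.card H := by
    rw [Nat.card_coe_set_eq, ← MulAction.index_stabilizer]
    exact Subgroup.index_dvd_card _
  have hne8 : Nat.card Δ ≠ 8 := by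
    intro h8
    set G := φ.range with hG
    have htop : Δ = Set.univ := by
      rw [Set.eq_univ_iff_ncard, ← Nat.card_coe_set_eq, h8, Nat.card_fin]
    haveI hpre : MulAction.IsPretransitive G (Fin 8) := by
      refine ⟨fun x y => ?_⟩
      obtain ⟨g₁, hg₁⟩ := (htop ▸ Set.mem_univ x : x ∈ Δ)
      obtain ⟨g₂, hg₂⟩ := (htop ▸ Set.mem_univ y : y ∈ Δ)
      refine ⟨⟨φ (g₂ * g₁⁻¹), ⟨_, rfl⟩⟩, ?_⟩
      show (g₂ * g₁⁻¹) • x = y
      rw [← hg₁, ← hg₂, mul_smul, inv_smul_smul]
    have hcG : φ c ∈ G := ⟨c, rfl⟩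
    have hprim : MulAction.IsPreprimitive G (Fin 8) := by
      refine MulAction.IsPreprimitive.of_isTrivialBlock_base a fun {B} haB hB => ?_
      by_contra hnt
      rw [MulAction.IsTrivialBlock] at hnt
      push Not at hnt
      obtain ⟨hsub, huniv⟩ := hnt
      have hdvd : B.ncard ∣ Nat.card (Fin 8) := hB.ncard_dvd_card ⟨a, haB⟩
      have hB1 : 1 < B.ncard := (Set.one_lt_ncard).2 (by
        obtain ⟨x, hx, y, hy, hxy⟩ := hsub
        exact ⟨x, hx, y, hy, hxy⟩)
      have hB8 : B.ncard < 8 := by
        have := Set.ncard_lt_card huniv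
        rwa [Nat.card_fin] at this
      rw [Nat.card_fin] at hdvd
      let gc : G := ⟨φ c, hcG⟩
      have horb : ∀ i : ℕ, gc ^ i • B = B := by
        have h5' : gc ^ 5 = 1 := Subtype.ext (by
          show (φ c) ^ 5 = 1
          rw [← hσ, pow_orderOf_eq_one])
        by_cases hfix : gc • B = B
        · intro i
          induction i with
          | zero => rw [pow_zero, one_smul]
          | succ i ih => rw [pow_succ, mul_smul, hfix, ih]
        exfalso
        have hdisj : ∀ i j : Fin 5, i ≠ j → Disjoint (gc ^ (i : ℕ) • B) (gc ^ (j : ℕ) • B) := by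
          intro i j hij
          refine hB ?_
          intro heq
          apply hfix
          have hgc : orderOf gc = 5 := orderOf_eq_prime h5' (fun h => by
            have := congrArg Subtype.val h
            rw [show ((gc : G) : Perm (Fin 8)) = φ c from rfl] at this
            rw [this] at hσ
            simp at hσ)
          have key : ∀ d : ℕ, d % 5 ≠ 0 → gc ^ d • B = B → gc • B = B := by
            intro d hd hdB
            have hst : gc ^ d ∈ MulAction.stabilizer G B := hdB
            have hcop : (orderOf gc).Coprime d := by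
              rw [hgc]
              exact (Nat.prime_five.coprime_iff_not_dvd).2 (by omega)
            obtain ⟨e, he⟩ := exists_pow_eq_self_of_coprime hcop.symm
            have := pow_mem hst e
            rw [he] at this
            exact this
          rcases lt_or_gt_of_ne (fun h => hij (Fin.ext h)) with h | h
          · refine key ((j : ℕ) - i) (by omega) ?_
            have h' := congrArg ((gc ^ (i : ℕ))⁻¹ • ·) heq
            simp only [inv_smul_smul] at h'
            conv_rhs => rw [h']
            rw [← mul_smul]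
            congr 1
            rw [show gc ^ (j : ℕ) = gc ^ (i : ℕ) * gc ^ ((j : ℕ) - i) by rw [← pow_add]; congr 1; omega,
              inv_mul_cancel_left]
          · refine key ((i : ℕ) - j) (by omega) ?_
            have h' := congrArg ((gc ^ (j : ℕ))⁻¹ • ·) heq.symm
            simp only [inv_smul_smul] at h'
            conv_rhs => rw [h']
            rw [← mul_smul]
            congr 1
            rw [show gc ^ (i : ℕ) = gc ^ (j : ℕ) * gc ^ ((i : ℕ) - j) by rw [← pow_add]; congr 1; omega,
              inv_mul_cancel_left]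
        have hcardB : ∀ i : Fin 5, (gc ^ (i : ℕ) • B).ncard = B.ncard := fun i => Set.ncard_smul_set _ _
        have hU : (⋃ i : Fin 5, gc ^ (i : ℕ) • B).ncard = ∑ i : Fin 5, (gc ^ (i : ℕ) • B).ncard := by
          rw [Set.ncard_iUnion_of_finite (fun _ => Set.toFinite _) (fun i j hij => hdisj i j hij),
            finsum_eq_sum_of_fintype]
        have hle : (⋃ i : Fin 5, gc ^ (i : ℕ) • B).ncard ≤ 8 :=
          (Set.ncard_le_card _).trans (by simp)
        simp only [hcardB, Finset.sum_const, Finset.card_univ, Fintype.card_fin, smul_eq_mul] at hU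
        omega
      have hsuppB : ((φ c).support : Set (Fin 8)) ⊆ B := by
        intro x hx
        obtain ⟨i, hi⟩ := hcyc.exists_pow_eq (Equiv.Perm.mem_support.1 ha) (Equiv.Perm.mem_support.1 hx)
        have hm : (gc ^ i) • a ∈ gc ^ i • B := Set.smul_mem_smul_set haB
        rw [horb i] at hm
        have he : (gc ^ i) • a = x := by
          rw [← hi]
          rfl
        rwa [he] at hm
      have h5B := Set.ncard_le_ncard hsuppB
      rw [Set.ncard_coe_finset, hsupp] at h5B
      interval_cases h : B.ncard <;> omega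
    have hs : (((φ c).support : Set (Fin 8))ᶜ).ncard = 2 + 1 := by
      rw [Set.ncard_compl, Set.ncard_coe_finset, hsupp, Nat.card_fin]
    have h2t : MulAction.IsMultiplyPretransitive G (Fin 8) 2 :=
      hprim.is_two_pretransitive hs (by simp) (Equiv.Perm.isPretransitive_of_isCycle_mem hcyc hcG)
    have h56 : Nat.card (Fin 2 ↪ Fin 8) ∣ Nat.card G := by
      obtain ⟨e₀⟩ : Nonempty (Fin 2 ↪ Fin 8) := ⟨Fin.castLEEmb (by norm_num)⟩
      have horbit : MulAction.orbit G e₀ = Set.univ :=
        Set.eq_univ_of_forall fun x => MulAction.isMultiplyPretransitive_iff.1 h2t e₀ x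
      rw [← Set.ncard_univ, ← horbit]
      refine (dvd_of_eq ?_).trans (Subgroup.index_dvd_card (MulAction.stabilizer G e₀))
      exact (MulAction.index_stabilizer G e₀).symm
    rw [Nat.card_eq_fintype_card, Fintype.card_embedding_eq, Fintype.card_fin, Fintype.card_fin] at h56
    rw [← Nat.card_congr (MonoidHom.ofInjective hφ).toEquiv] at h56
    exact h7 ((show (7 : ℕ) ∣ Nat.descFactorial 8 2 by decide).trans h56)
  have hd : Nat.card Δ = 5 ∨ Nat.card Δ = 6 := by
    have hne7 : Nat.card Δ ≠ 7 := fun h => h7 (h ▸ hΔdvd)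
    omega
  -- restrict to the orbit
  let ψ₀ : H →* Perm Δ := MulAction.toPermHom H Δ
  have hψ₀ : Function.Injective ψ₀ := by
    rw [← MonoidHom.ker_eq_bot_iff]
    refine eq_bot_of_solvable hnp ψ₀.ker ?_
    let q : ψ₀.ker →* Perm {x : Fin 8 // x ∉ Δ} :=
      { toFun := fun h => (φ (h : H)).subtypePerm (fun x => by
          show φ (h : H) x ∉ Δ ↔ x ∉ Δ
          rw [← hsmul]
          exact not_congr ⟨fun hh => by simpa using MulAction.mem_orbit_of_mem_orbit (h : H)⁻¹ hh,
            fun hh => MulAction.mem_orbit_of_mem_orbit _ hh⟩)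
        map_one' := by ext x; simp
        map_mul' := fun g h => Equiv.ext fun x => Subtype.ext (by rw [Equiv.Perm.mul_apply]; simp) }
    have hq : Function.Injective q := by
      intro g h hgh
      refine Subtype.ext (hφ (Equiv.ext fun x => ?_))
      by_cases hx : x ∈ Δ
      · have hg := Equiv.congr_fun (MonoidHom.mem_ker.1 g.2) ⟨x, hx⟩
        have hh := Equiv.congr_fun (MonoidHom.mem_ker.1 h.2) ⟨x, hx⟩
        exact (congrArg Subtype.val hg).trans (congrArg Subtype.val hh).symm
      · exact congrArg Subtype.val (Equiv.congr_fun hgh ⟨x, hx⟩)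
    refine isSolvable_of_dvd Nat.prime_two Nat.prime_three (a := 1) (b := 1) ?_
    refine (Subgroup.card_dvd_of_injective q hq).trans ?_
    rw [Nat.card_perm]
    have : Nat.card {x : Fin 8 // x ∉ Δ} ≤ 3 := by
      have h1 : Nat.card {x : Fin 8 // x ∉ Δ} = Nat.card (Fin 8) - Nat.card Δ := by
        rw [Nat.card_eq_fintype_card, Fintype.card_subtype_compl, Nat.card_eq_fintype_card,
          Nat.card_eq_fintype_card]
      rw [h1, Nat.card_fin]
      omega
    exact Nat.factorial_dvd_factorial this
  rcases hd with h | h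
  · let e := Finite.equivFinOfCardEq h
    exact small hnp (Or.inl rfl) ((e.permCongrHom).toMonoidHom.comp ψ₀) (e.permCongrHom.injective.comp hψ₀) h5
  · let e := Finite.equivFinOfCardEq h
    exact small hnp (Or.inr rfl) ((e.permCongrHom).toMonoidHom.comp ψ₀) (e.permCongrHom.injective.comp hψ₀) h5

/-- Main dichotomy. -/
theorem classify {H : Type*} [Group H] [Finite H] [Nontrivial H] (hO : Cfsg.pPrimeCore 2 H = ⊥)
    (hO2 : Cfsg.pCore 2 H = ⊥) (f : H →* alternatingGroup (Fin 8)) (hf : Function.Injective f) :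
    (∃ n : ℕ, 5 ≤ n ∧ n ≤ 8 ∧ Nonempty (H ≃* alternatingGroup (Fin n))) ∨
      Nonempty (H ≃* Perm (Fin 5)) ∨ Nonempty (H ≃* Perm (Fin 6)) ∨
      (Nat.card H = 168 ∧ IsSimpleGroup H) ∨ Nat.card H = 1344 := by
  have hnp := noP_of_cores hO hO2
  have h2 : 2 ∣ Nat.card H := by
    by_contra h
    have h1 : (⊤ : Subgroup H) ≤ Cfsg.pPrimeCore 2 H := Cores.le_pPrimeCore (by
      rw [Subgroup.card_top]
      exact ((Nat.Prime.coprime_iff_not_dvd Nat.prime_two).2 h).symm)
    rw [hO, le_bot_iff] at h1
    exact top_ne_bot h1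
  by_cases h7 : 7 ∣ Nat.card H
  · rcases seven hnp h2 f hf h7 with h | h | h
    · exact Or.inl h
    · exact Or.inr (Or.inr (Or.inr (Or.inl h)))
    · exact Or.inr (Or.inr (Or.inr (Or.inr h)))
  · have hA : Nat.card (alternatingGroup (Fin 8)) = 20160 := by
      rw [nat_card_alternatingGroup, Nat.card_fin]
      decide
    have hdvd : Nat.card H ∣ 20160 := hA ▸ Subgroup.card_dvd_of_injective f hf
    by_cases h5 : 5 ∣ Nat.card H
    · rcases five hnp f hf h5 h7 with h | h | h
      · exact Or.inl h
      · exact Or.inr (Or.inl h)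
      · exact Or.inr (Or.inr (Or.inl h))
    · refine absurd (isSolvable_of_dvd (a := 6) (b := 2) Nat.prime_two Nat.prime_three ?_)
        (nontrivial_not_solvable hnp)
      have h1 := ((Nat.prime_five.coprime_iff_not_dvd).2 h5).symm.dvd_of_dvd_mul_left
        (show Nat.card H ∣ 5 * (7 * (2 ^ 6 * 3 ^ 2)) from hdvd)
      exact ((Nat.Prime.coprime_iff_not_dvd (by norm_num)).2 h7).symm.dvd_of_dvd_mul_left h1

end Cfsg.Agent.Lib.SubgroupsA8
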