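import Cfsg.Agent.Lib.Char2Inv.OrthMatrixOmega
import Cfsg.Agent.Lib.Forms.Bridge

/-!
# Counting involution classes in symplectic and orthogonal groups in characteristic two

The class of an involution is determined by `(rank (t - 1), type)`; here are the counting lemma, the
index set `shapes m m'` and model square-zero maps realising each shape.
-/

set_option autoImplicit false

namespace Cfsg.Agent.Lib.InvolutionCount

open QuadraticMap Module
open Cfsg.Agent.Lib.Char2Inv Cfsg.Agent.Lib.Char2Inv.Normal Cfsg.Agent.Lib.Char2Inv.OrthMatrix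
open Cfsg.Agent.Lib.Forms (Nondeg qPlus qPlus_apply qPlus_nondeg qPlus_polar)

/-- Classes of involutions are counted by a complete invariant. -/
theorem card_classes {G : Type*} [Group G] [Finite G] {σ : Type*} (f : G → σ) (S : Finset σ)
    (h : ∀ g k, orderOf g = 2 → orderOf k = 2 → (IsConj g k ↔ f g = f k))
    (hmem : ∀ g, orderOf g = 2 → f g ∈ S) (hsurj : ∀ a ∈ S, ∃ g, orderOf g = 2 ∧ f g = a) :
    Nat.card {C : ConjClasses G // ∃ g : G, ConjClasses.mk g = C ∧ orderOf g = 2} = S.card := by
  choose t ht htf using hsurj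
  rw [← Nat.card_eq_finsetCard S]
  refine (Nat.card_eq_of_bijective (fun a : S =>
    (⟨ConjClasses.mk (t a.1 a.2), t a.1 a.2, rfl, ht a.1 a.2⟩ :
      {C : ConjClasses G // ∃ g : G, ConjClasses.mk g = C ∧ orderOf g = 2})) ⟨?_, ?_⟩).symm
  · intro a b hab
    have := (h _ _ (ht a.1 a.2) (ht b.1 b.2)).1
      (ConjClasses.mk_eq_mk_iff_isConj.1 (congrArg Subtype.val hab))
    rw [htf, htf] at this
    exact Subtype.ext this
  · rintro ⟨C, g, rfl, hg⟩
    refine ⟨⟨f g, hmem g hg⟩, Subtype.ext (ConjClasses.mk_eq_mk_iff_isConj.2 ?_)⟩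
    exact (h _ _ (ht _ _) hg).2 (htf _ _)

/-- Shapes: every rank `1..m` non-alternating, every even rank `1..m'` alternating. -/
def shapes (m m' : ℕ) : Finset (ℕ × Bool) :=
  (Finset.Icc 1 m).image (fun s => (s, false)) ∪
    ((Finset.Icc 1 m').filter Even).image (fun s => (s, true))

theorem mem_shapes {m m' s : ℕ} {b : Bool} : (s, b) ∈ shapes m m' ↔
    (b = false ∧ 1 ≤ s ∧ s ≤ m) ∨ (b = true ∧ Even s ∧ 1 ≤ s ∧ s ≤ m') := by
  simp [shapes]; tauto

theorem card_evens (m' : ℕ) : ((Finset.Icc 1 m').filter Even).card = m' / 2 := by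
  induction m' with
  | zero => simp
  | succ n ih =>
    have h : Finset.Icc 1 (n + 1) = insert (n + 1) (Finset.Icc 1 n) := by
      ext x; simp only [Finset.mem_Icc, Finset.mem_insert]; omega
    rw [h, Finset.filter_insert]
    rcases Nat.even_or_odd (n + 1) with he | ho
    · rw [if_pos he, Finset.card_insert_of_notMem (by simp), ih]
      rw [Nat.even_iff] at he; omega
    · rw [if_neg (Nat.not_even_iff_odd.2 ho), ih]
      rw [Nat.odd_iff] at ho; omega

theorem card_shapes (m m' : ℕ) : (shapes m m').card = m + m' / 2 := by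
  rw [shapes, Finset.card_union_of_disjoint, Finset.card_image_of_injective _ fun a b h => (Prod.ext_iff.1 h).1,
    Finset.card_image_of_injective _ fun a b h => (Prod.ext_iff.1 h).1, card_evens, Nat.card_Icc]
  · omega
  · rw [Finset.disjoint_left]; simp

section Orth

variable {F : Type*} [Field F] [CharP F 2] [Finite F] {ι : Type} [Fintype ι] [DecidableEq ι]
  (Q : QuadraticForm F (ι → F)) {f : (ι → F) → F}

/-- The complete invariant of an involution. -/
noncomputable def inv (t : ↥(Cfsg.isometryGroup F f)) : ℕ × Bool :=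
  letI := Classical.propDecidable (∀ v, polar Q v (nil t v) = 0)
  (finrank F (LinearMap.range (nil t)), decide (∀ v, polar Q v (nil t v) = 0))

variable (hf : ∀ v, f v = Q v)
include hf

theorem isConj_iff_inv (hQ : Nondeg Q) {t s : ↥(Cfsg.isometryGroup F f)}
    (ht : orderOf t = 2) (hs : orderOf s = 2) : IsConj t s ↔ inv Q t = inv Q s := by
  classical
  constructor
  · intro h
    obtain ⟨c, hc⟩ := isConj_iff.1 h
    let G := Forms.glEquiv (F := F) (c : GL ι F)
    have hG : ∀ x, G x = ((c : GL ι F) : Matrix ι ι F).mulVec x := fun x => Forms.glEquiv_apply _ x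
    have hcomm : ∀ x, G (nil t x) = nil s (G x) := by
      intro x
      have e := congrArg (fun z : ↥(Cfsg.isometryGroup F f) => ((z : GL ι F) : Matrix ι ι F).mulVec x)
        (mul_inv_eq_iff_eq_mul.1 hc)
      simp only [Subgroup.coe_mul, Units.val_mul, ← Matrix.mulVec_mulVec] at e
      rw [nil_apply, nil_apply, map_sub, hG, hG, e]
    have hpol : ∀ x y, polar Q (G x) (G y) = polar Q x y := fun x y =>
      Forms.polar_map G.toLinearMap (fun v => by
        show Q (G v) = Q v
        rw [hG, ← hf, ← hf]; exact c.2 v v) x y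
    refine Prod.ext ?_ ?_
    · show finrank F _ = finrank F _
      rw [← LinearEquiv.finrank_map_eq G (LinearMap.range (nil t)), ← LinearMap.range_comp,
        show G.toLinearMap.comp (nil t) = (nil s).comp G.toLinearMap from LinearMap.ext hcomm,
        LinearMap.range_comp_of_range_eq_top _ G.range]
    · refine decide_eq_decide.2 ⟨fun h v => ?_, fun h v => ?_⟩
      · obtain ⟨x, rfl⟩ := G.surjective v
        rw [← hcomm, hpol]; exact h x
      · rw [← hpol, hcomm]; exact h _
  · intro h
    obtain ⟨g, hg, hgc⟩ := Symplectic.exists_conj (Orth.polar_isHerm Q) (Orth.polar_alt Q)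
      (Orth.nondegOn_top hQ) (nil_isSqZero Q hf ht) (nil_isSqZero Q hf hs) (congrArg Prod.fst h)
      (decide_eq_decide.1 (congrArg Prod.snd h))
    let u : GL ι F := (Forms.glEquiv (F := F)).symm g
    have hu : ∀ x, (u : Matrix ι ι F).mulVec x = g x := fun x => by
      rw [← Forms.glEquiv_apply, MulEquiv.apply_symm_apply]
    refine isConj_of_polar Q hf hQ ht hs u (fun a b => by rw [hu, hu]; exact hg a b)
      (mul_inv_eq_iff_eq_mul.2 (Units.ext (Matrix.ext_iff_mulVec.2 fun x => ?_)))
    simp only [Units.val_mul, ← Matrix.mulVec_mulVec, hu, mulVec_eq, map_add, hgc]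

theorem rank_bounds {m : ℕ} (hdim : Fintype.card ι = 2 * m) {t : ↥(Cfsg.isometryGroup F f)}
    (ht : orderOf t = 2) :
    1 ≤ finrank F (LinearMap.range (nil t)) ∧ finrank F (LinearMap.range (nil t)) ≤ m := by
  constructor
  · rw [Nat.one_le_iff_ne_zero]
    intro h0
    rw [Submodule.finrank_eq_zero, LinearMap.range_eq_bot] at h0
    have : t = 1 := Subtype.ext (Units.ext (Matrix.ext_iff_mulVec.2 fun x => by
      rw [mulVec_eq, h0, LinearMap.zero_apply, add_zero]
      exact (Matrix.one_mulVec x).symm))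
    rw [this, orderOf_one] at ht
    exact absurd ht (by norm_num)
  · have hle : LinearMap.range (nil t) ≤ LinearMap.ker (nil t) := by
      rintro _ ⟨x, rfl⟩; exact (nil_isSqZero Q hf ht).sq x
    have h1 := Submodule.finrank_mono hle
    have h2 := LinearMap.finrank_range_add_finrank_ker (nil t)
    rw [finrank_fintype_fun_eq_card, hdim] at h2
    omega

theorem inv_mem (hQ : Nondeg Q) {m : ℕ} (hdim : Fintype.card ι = 2 * m)
    {t : ↥(Cfsg.isometryGroup F f)} (ht : orderOf t = 2) : inv Q t ∈ shapes m m := by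
  classical
  obtain ⟨h1, h2⟩ := rank_bounds Q hf hdim ht
  rw [inv, mem_shapes]
  by_cases h : ∀ v, polar Q v (nil t v) = 0
  · exact Or.inr ⟨decide_eq_true h, Symplectic.even_rank_of_alt (Orth.polar_isHerm Q) (Orth.polar_alt Q)
      (nil_isSqZero Q hf ht) (Orth.nondegOn_top hQ) h, h1, h2⟩
  · exact Or.inl ⟨decide_eq_false h, h1, h2⟩

/-- A square-zero map preserving the form gives an involution. -/
theorem exists_involution {N : (ι → F) →ₗ[F] (ι → F)} (hsq : ∀ x, N (N x) = 0)
    (hI : ∀ x, Q (x + N x) = Q x) (hne : N ≠ 0) :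
    ∃ t : ↥(Cfsg.isometryGroup F f), orderOf t = 2 ∧ nil t = N := by
  set M : Matrix ι ι F := LinearMap.toMatrix' (LinearMap.id + N) with hM
  have hMx : ∀ x, M.mulVec x = x + N x := fun x => LinearMap.toMatrix'_mulVec _ x
  have hMM : M * M = 1 := Matrix.ext_iff_mulVec.2 fun x => by
    rw [← Matrix.mulVec_mulVec, hMx, hMx, map_add, hsq, add_zero, add_assoc, Matrix.one_mulVec]
    rw [show N x + N x = 0 from funext fun i => CharTwo.add_self_eq_zero (N x i), add_zero]
  let t : ↥(Cfsg.isometryGroup F f) := ⟨⟨M, M, hMM, hMM⟩, fun x _ => by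
    show f (M.mulVec x) = f x
    rw [hMx, hf, hf, hI]⟩
  have hnil : nil t = N := LinearMap.ext fun x => by
    rw [nil_apply]
    show M.mulVec x - x = N x
    rw [hMx, add_sub_cancel_left]
  refine ⟨t, orderOf_eq_prime (Subtype.ext (Units.ext ?_)) fun h => hne ?_, hnil⟩
  · rw [pow_two]; exact hMM
  · rw [← hnil, h]
    refine LinearMap.ext fun x => ?_
    rw [nil_apply]
    show (1 : Matrix ι ι F).mulVec x - x = 0
    rw [Matrix.one_mulVec, sub_self]

end Orth

section Models

variable {F : Type*} [Field F] [CharP F 2] {m : ℕ}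

/-- Extension by zero from the first `s` indices. -/
def ext0 {s : ℕ} (hs : s ≤ m) : (Fin s → F) →ₗ[F] (Fin m → F) where
  toFun c i := if h : i.val < s then c ⟨i.val, h⟩ else 0
  map_add' a b := by funext i; by_cases h : i.val < s <;> simp [h]
  map_smul' a b := by funext i; by_cases h : i.val < s <;> simp [h]

theorem ext0_lt {s : ℕ} (hs : s ≤ m) (c : Fin s → F) (i : Fin s) : ext0 hs c (Fin.castLE hs i) = c i := by
  simp [ext0]

theorem ext0_injective {s : ℕ} (hs : s ≤ m) : Function.Injective (ext0 (F := F) hs) := fun a b h =>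
  funext fun i => by rw [← ext0_lt hs a i, h, ext0_lt]

theorem ext0_eq {s : ℕ} (hs : s ≤ m) (g : Fin m → F) (i : Fin m) :
    ext0 hs (fun j => g (Fin.castLE hs j)) i = if i.val < s then g i else 0 := by
  by_cases h : i.val < s <;> simp [ext0, h]

/-- The sum `x_i + y_i` on the first `s` planes. -/
def planeSum {s : ℕ} (hs : s ≤ m) : (Fin m ⊕ Fin m → F) →ₗ[F] (Fin s → F) where
  toFun v j := v (.inl (Fin.castLE hs j)) + v (.inr (Fin.castLE hs j))
  map_add' a b := by funext i; simp only [Pi.add_apply]; ring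
  map_smul' a b := by funext i; simp only [Pi.smul_apply, RingHom.id_apply, smul_eq_mul]; ring

theorem planeSum_surjective {s : ℕ} (hs : s ≤ m) : Function.Surjective (planeSum (F := F) hs) :=
  fun c => ⟨Sum.elim (ext0 hs c) 0, funext fun j => by
    show Sum.elim (ext0 hs c) 0 _ + Sum.elim (ext0 hs c) 0 _ = _
    simp [ext0_lt]⟩

/-- Two copies of `ext0`. -/
def diagExt {s : ℕ} (hs : s ≤ m) : (Fin s → F) →ₗ[F] (Fin m ⊕ Fin m → F) where
  toFun c := Sum.elim (ext0 hs c) (ext0 hs c)
  map_add' a b := by funext i; rcases i with i | i <;> simp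
  map_smul' a b := by funext i; rcases i with i | i <;> simp

/-- Non-alternating model: the reflections `x_i ↔ y_i` in `s` planes. -/
def oddN {s : ℕ} (hs : s ≤ m) : (Fin m ⊕ Fin m → F) →ₗ[F] (Fin m ⊕ Fin m → F) :=
  (diagExt hs).comp (planeSum hs)

theorem oddN_apply {s : ℕ} (hs : s ≤ m) (v : Fin m ⊕ Fin m → F) : oddN hs v =
    Sum.elim (fun i => if i.val < s then v (.inl i) + v (.inr i) else 0)
      (fun i => if i.val < s then v (.inl i) + v (.inr i) else 0) := by
  funext i
  rcases i with i | i <;> exact ext0_eq hs (fun k => v (.inl k) + v (.inr k)) i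

theorem oddN_sq {s : ℕ} (hs : s ≤ m) (v : Fin m ⊕ Fin m → F) : oddN hs (oddN hs v) = 0 := by
  rw [oddN_apply hs (oddN hs v), oddN_apply]
  funext i
  rcases i with i | i <;> by_cases h : i.val < s <;> simp [h, CharTwo.add_self_eq_zero]

theorem oddN_isometry {s : ℕ} (hs : s ≤ m) (v : Fin m ⊕ Fin m → F) :
    qPlus m (v + oddN hs v) = qPlus (F := F) m v := by
  simp only [qPlus_apply, oddN_apply, Pi.add_apply, Sum.elim_inl, Sum.elim_inr]
  refine Finset.sum_congr rfl fun i _ => ?_
  by_cases h : i.val < s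
  · rw [if_pos h]
    linear_combination ((v (.inl i) + v (.inr i)) * (v (.inl i) + v (.inr i))) * (CharTwo.two_eq_zero (R := F))
  · simp [h]

theorem finrank_oddN {s : ℕ} (hs : s ≤ m) : finrank F (LinearMap.range (oddN (F := F) hs)) = s := by
  rw [oddN, LinearMap.range_comp_of_range_eq_top _ (LinearMap.range_eq_top.2 (planeSum_surjective hs)),
    LinearMap.finrank_range_of_inj (fun a b h => ext0_injective hs (funext fun i => congrFun h (Sum.inl i))),
    finrank_fin_fun]

theorem oddN_type {s : ℕ} (hs : s ≤ m) (h1 : 1 ≤ s) :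
    ¬ ∀ v : Fin m ⊕ Fin m → F, polar (qPlus m) v (oddN hs v) = 0 := by
  intro h
  have h0 := h (Pi.single (Sum.inl ⟨0, by omega⟩) 1)
  rw [qPlus_polar, oddN_apply] at h0
  simp [Pi.single_apply, ite_and] at h0
  rw [Finset.sum_eq_single (⟨0, by omega⟩ : Fin m) (fun i _ hi => by simp [hi]) (by simp)] at h0
  simp [show 0 < s by omega] at h0

/-- The partner of an index in its pair. -/
def flip (k : ℕ) : ℕ := if k % 2 = 0 then k + 1 else k - 1

theorem flip_flip (k : ℕ) : flip (flip k) = k := by
  unfold flip; split_ifs <;> omega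

theorem flip_ne (k : ℕ) : flip k ≠ k := by
  unfold flip; split_ifs <;> omega

theorem flip_lt {k r : ℕ} (h : k < 2 * r) : flip k < 2 * r := by
  unfold flip; split_ifs <;> omega

/-- The coordinates `y` of the partners. -/
def partner {r : ℕ} (hr : 2 * r ≤ m) : (Fin m ⊕ Fin m → F) →ₗ[F] (Fin (2 * r) → F) where
  toFun v j := v (.inr (Fin.castLE hr ⟨flip j.val, flip_lt j.isLt⟩))
  map_add' a b := rfl
  map_smul' a b := rfl

theorem partner_surjective {r : ℕ} (hr : 2 * r ≤ m) : Function.Surjective (partner (F := F) hr) :=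
  fun c => ⟨Sum.elim 0 (ext0 (F := F) hr fun j => c ⟨flip j.val, flip_lt j.isLt⟩), funext fun j => by
    simp only [partner, LinearMap.coe_mk, AddHom.coe_mk, Sum.elim_inr]
    rw [ext0_lt]
    exact congrArg c (Fin.ext (flip_flip j.val))⟩

/-- Alternating model. -/
def evenN {r : ℕ} (hr : 2 * r ≤ m) : (Fin m ⊕ Fin m → F) →ₗ[F] (Fin m ⊕ Fin m → F) :=
  ({ toFun := fun c => Sum.elim (ext0 hr c) 0
     map_add' := fun a b => by funext i; rcases i with i | i <;> simp
     map_smul' := fun a b => by funext i; rcases i with i | i <;> simp } :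
    (Fin (2 * r) → F) →ₗ[F] (Fin m ⊕ Fin m → F)).comp (partner hr)

theorem evenN_inr {r : ℕ} (hr : 2 * r ≤ m) (v : Fin m ⊕ Fin m → F) (i : Fin m) :
    evenN hr v (.inr i) = 0 := rfl

theorem evenN_inl {r : ℕ} (hr : 2 * r ≤ m) (v : Fin m ⊕ Fin m → F) (i : Fin m) :
    evenN hr v (.inl i) = ext0 hr (partner hr v) i := rfl

theorem evenN_sq {r : ℕ} (hr : 2 * r ≤ m) (v : Fin m ⊕ Fin m → F) : evenN hr (evenN hr v) = 0 := by
  funext i
  rcases i with i | i
  · show ext0 hr (partner hr (evenN hr v)) i = 0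
    rw [show partner hr (evenN hr v) = 0 from funext fun j => rfl, map_zero]; rfl
  · rfl

theorem pair_sum_zero {r : ℕ} (hr : 2 * r ≤ m) (v : Fin m ⊕ Fin m → F) :
    ∑ i : Fin m, ext0 hr (partner hr v) i * v (.inr i) = 0 := by
  classical
  let π : Fin m → Fin m := fun i =>
    if h : i.val < 2 * r then Fin.castLE hr ⟨flip i.val, flip_lt h⟩ else i
  refine Finset.sum_involution (fun i _ => π i) ?_ ?_ (fun i _ => Finset.mem_univ _) ?_
  · intro i _
    by_cases h : i.val < 2 * r
    · simp [π, ext0, partner, h, flip_lt h, flip_flip, mul_comm (v (.inr i)), CharTwo.add_self_eq_zero]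
    · simp [π, ext0, h]
  · intro i _ hne
    by_cases h : i.val < 2 * r
    · simp [π, h, Fin.ext_iff, flip_ne]
    · simp [ext0, h] at hne
  · intro i _
    by_cases h : i.val < 2 * r
    · simp [π, h, flip_lt h, flip_flip]
    · simp [π, h]

theorem evenN_isometry {r : ℕ} (hr : 2 * r ≤ m) (v : Fin m ⊕ Fin m → F) :
    qPlus m (v + evenN hr v) = qPlus (F := F) m v := by
  simp only [qPlus_apply, Pi.add_apply, evenN_inr, evenN_inl, add_zero, add_mul, Finset.sum_add_distrib,
    pair_sum_zero hr v]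

theorem evenN_type {r : ℕ} (hr : 2 * r ≤ m) (v : Fin m ⊕ Fin m → F) :
    polar (qPlus m) v (evenN hr v) = 0 := by
  rw [qPlus_polar]
  simp only [evenN_inr, evenN_inl, mul_zero, zero_add, mul_comm (v (.inr _)), pair_sum_zero hr v]

theorem finrank_evenN {r : ℕ} (hr : 2 * r ≤ m) :
    finrank F (LinearMap.range (evenN (F := F) hr)) = 2 * r := by
  rw [evenN, LinearMap.range_comp_of_range_eq_top _ (LinearMap.range_eq_top.2 (partner_surjective hr)),
    LinearMap.finrank_range_of_inj (fun a b h => ext0_injective hr (funext fun i => congrFun h (Sum.inl i))),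
    finrank_fin_fun]

/-- Every shape is realised on the hyperbolic space. -/
theorem exists_model {s : ℕ} {b : Bool} (h : (s, b) ∈ shapes m m) :
    ∃ N : (Fin m ⊕ Fin m → F) →ₗ[F] (Fin m ⊕ Fin m → F), (∀ x, N (N x) = 0) ∧
      (∀ x, qPlus m (x + N x) = qPlus (F := F) m x) ∧ finrank F (LinearMap.range N) = s ∧
      ((∀ v, polar (qPlus m) v (N v) = 0) ↔ b = true) := by
  rw [mem_shapes] at h
  rcases h with ⟨rfl, h1, h2⟩ | ⟨rfl, ⟨r, rfl⟩, h1, h2⟩
  · exact ⟨oddN h2, oddN_sq h2, oddN_isometry h2, finrank_oddN h2,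
      iff_of_false (oddN_type h2 h1) Bool.false_ne_true⟩
  · have hr : 2 * r ≤ m := by omega
    exact ⟨evenN hr, evenN_sq hr, evenN_isometry hr, by rw [finrank_evenN]; omega,
      iff_of_true (evenN_type hr) rfl⟩

end Models

end Cfsg.Agent.Lib.InvolutionCount
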