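import Cfsg.Agent.Lib.PSolvable.HallHigman
import Cfsg.Agent.Lib.Supersolvable.Huppert

/-!
`p`-solvable groups in which every maximal subgroup is `p`-nilpotent or of prime index.
-/

set_option autoImplicit false
set_option linter.style.haveILetI false

namespace Cfsg.Agent.Lib.MaxNilpOrPrime76

open Subgroup
open Cfsg.Agent.Lib

universe u

variable {G : Type u} [Group G] [Finite G]

/-- A supersolvable group has, for each bound, a normal subgroup separating large and small
primes. -/
theorem exists_tower (h : IsSupersolvable G) (n : ℕ) :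
    ∃ N : Subgroup G, N.Normal ∧ (∀ q : ℕ, q.Prime → q ∣ Nat.card N → n ≤ q) ∧
      ∀ q : ℕ, q.Prime → q ∣ N.index → q < n := by
  suffices ∀ (m : ℕ) (G : Type u) [Group G] [Finite G], Nat.card G = m → IsSupersolvable G →
      ∃ N : Subgroup G, N.Normal ∧ (∀ q : ℕ, q.Prime → q ∣ Nat.card N → n ≤ q) ∧
      ∀ q : ℕ, q.Prime → q ∣ N.index → q < n from this _ G rfl h
  intro m
  induction m using Nat.strong_induction_on with
  | _ m IH =>
    intro G _ _ hm hG
    by_cases hbig : ∃ q ∈ (Nat.card G).primeFactors, n ≤ q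
    · obtain ⟨q, hqS, hq⟩ := hbig
      obtain ⟨p, hpS, hpmax⟩ := Finset.exists_max_image (Nat.card G).primeFactors id ⟨q, hqS⟩
      obtain ⟨hp, hpd, -⟩ := Nat.mem_primeFactors.1 hpS
      obtain ⟨P, hPn, hPc⟩ := Supersolvable.exists_normal_max_prime hG p hp hpd
        (fun r hr hd => hpmax r (Nat.mem_primeFactors.2 ⟨hr, hd, Nat.card_pos.ne'⟩))
      have hlt : Nat.card (G ⧸ P) < m := hm ▸ Supersolvable.card_quotient_lt hp hPc
      obtain ⟨N, hN, h1, h2⟩ := IH _ hlt (G ⧸ P) rfl (Supersolvable.quotient hG P)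
      refine ⟨N.comap (QuotientGroup.mk' P), hN.comap _, fun r hr hd => ?_, fun r hr hd => ?_⟩
      · rw [PSolvable.card_comap_mk', hPc] at hd
        rcases hr.dvd_mul.1 hd with hd | hd
        · exact (Nat.prime_dvd_prime_iff_eq hr hp).1 hd ▸ hq.trans (hpmax q hqS)
        · exact h1 r hr hd
      · rw [index_comap_of_surjective _ (QuotientGroup.mk'_surjective P)] at hd
        exact h2 r hr hd
    · push Not at hbig
      refine ⟨⊥, inferInstance, fun r hr hd => ?_, fun r hr hd => ?_⟩
      · rw [card_bot] at hd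
        exact absurd (Nat.eq_one_of_dvd_one hd) hr.ne_one
      · exact hbig r (Nat.mem_primeFactors.2
          ⟨hr, by rwa [index_bot] at hd, Nat.card_pos.ne'⟩)

variable {p : ℕ} [Fact p.Prime]

omit [Finite G] [Fact p.Prime] in
theorem eq_pow_of_primes {m : ℕ} (hm : m ≠ 0) (h : ∀ q : ℕ, q.Prime → q ∣ m → q = p) :
    ∃ k, m = p ^ k := ⟨_, Nat.eq_prime_pow_of_unique_prime_dvd hm fun {q} hq hd => h q hq hd⟩

/-- The quotient by `O_{p',p}`: trivial `p`-core, every maximal subgroup a `p`-group or of prime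
index. -/
theorem structure_top (hG : Cfsg.IsPSolvable p G) (hcore : Cfsg.pCore p G = ⊥)
    (hmax : ∀ M : Subgroup G, IsCoatom M → IsPGroup p M ∨ M.index.Prime) :
    (p = 2 → ∃ k, (Cfsg.pPrimeCore p G).index = 2 ^ k) ∧
    ∃ D : Subgroup G, D.Normal ∧ Cfsg.pPrimeCore p G ≤ D ∧
      (∃ k, (Cfsg.pPrimeCore p G).relIndex D = p ^ k) ∧ ¬ p ∣ D.index := by
  have hp : p.Prime := Fact.out
  have hC : (Nat.card (Cfsg.pPrimeCore p G)).Coprime p := PSolvable.card_pPrimeCore_coprime
  by_cases hX : ∃ X : Subgroup G, IsCoatom X ∧ IsPGroup p X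
  · obtain ⟨X, hX, hXp⟩ := hX
    suffices ∃ k, (Cfsg.pPrimeCore p G).index = p ^ k by
      refine ⟨fun h2 => by subst h2; exact this, ⊤, inferInstance, le_top, ?_, ?_⟩
      · simpa [relIndex_top_right] using this
      · simpa [index_top] using hp.not_dvd_one
    haveI : Nontrivial G := by
      by_contra h
      haveI := not_nontrivial_iff_subsingleton.1 h
      exact hX.1 (Subsingleton.elim _ _)
    have hne : Cfsg.pPrimeCore p G ≠ ⊥ := (PSolvable.cores_ne_bot hG).resolve_left (not_not.2 hcore)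
    have hnle : ¬ Cfsg.pPrimeCore p G ≤ X := fun hle => by
      obtain ⟨k, hk⟩ := IsPGroup.iff_card.1 (hXp.to_le hle)
      refine hne (card_eq_one.1 ?_)
      rcases Nat.eq_zero_or_pos k with rfl | hk0
      · simpa using hk
      · rw [hk, Nat.coprime_pow_left_iff hk0, Nat.coprime_self] at hC
        exact absurd hC hp.ne_one
    have htop : X ⊔ Cfsg.pPrimeCore p G = ⊤ := hX.2 _ (left_lt_sup.2 hnle)
    have hd : (Cfsg.pPrimeCore p G).index ∣ Nat.card X := by
      rw [← relIndex_top_right, ← htop, relIndex_sup_right]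
      exact relIndex_dvd_card _ _
    obtain ⟨k, hk⟩ := IsPGroup.iff_card.1 hXp
    rw [hk] at hd
    obtain ⟨j, -, hj⟩ := (Nat.dvd_prime_pow hp).1 hd
    exact ⟨j, hj⟩
  · have hprime : ∀ M : Subgroup G, IsCoatom M → M.index.Prime := fun M hM =>
      (hmax M hM).resolve_left fun h => hX ⟨M, hM, h⟩
    have hss := Supersolvable.of_index_prime hprime
    obtain ⟨N1, hN1, a1, b1⟩ := exists_tower hss (p + 1)
    have hN1C : N1 ≤ Cfsg.pPrimeCore p G := PSolvable.le_pPrimeCore hN1 <|
      Nat.Coprime.symm <| hp.coprime_iff_not_dvd.2 fun hd => absurd (a1 p hp hd) (by omega)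
    refine ⟨fun h2 => ?_, ?_⟩
    · subst h2
      refine eq_pow_of_primes index_ne_zero_of_finite fun q hq hd => ?_
      have := b1 q hq (hd.trans (index_dvd_of_le hN1C))
      have := hq.two_le
      omega
    · obtain ⟨N2, hN2, a2, b2⟩ := exists_tower hss p
      refine ⟨N2 ⊔ Cfsg.pPrimeCore p G, inferInstance, le_sup_right, ?_, fun hd => ?_⟩
      · rw [relIndex_sup_right]
        refine eq_pow_of_primes (by
          intro h0
          exact (Nat.card_pos (α := N2)).ne' (Nat.eq_zero_of_zero_dvd (h0 ▸ relIndex_dvd_card _ _)))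
          fun q hq hd => ?_
        have h1 := a2 q hq (hd.trans (relIndex_dvd_card _ _))
        haveI := hN1
        have h2 := b1 q hq ((hd.trans (relIndex_dvd_of_le_left N2 hN1C)).trans
          (relIndex_dvd_index_of_normal N1 N2))
        omega
      · exact lt_irrefl p (b2 p hp (hd.trans (index_dvd_of_le le_sup_left)))

/-- The chain `O_{p'} ≤ O_{p',p} ≤ O_{p',p,p'} ≤ D`. -/
theorem main (hG : Cfsg.IsPSolvable p G)
    (hmax : ∀ M : Subgroup G, IsCoatom M → (∃ K : Subgroup ↥M, K.Normal ∧ ¬ p ∣ Nat.card K ∧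
      ∃ k : ℕ, K.index = p ^ k) ∨ (M.index).Prime) :
    ∃ A B C D : Subgroup G, A.Normal ∧ B.Normal ∧ C.Normal ∧ D.Normal ∧ A ≤ B ∧ B ≤ C ∧ C ≤ D ∧
      ¬ p ∣ Nat.card A ∧ (∃ k : ℕ, A.relIndex B = p ^ k) ∧ ¬ p ∣ B.relIndex C ∧
      (∃ k : ℕ, C.relIndex D = p ^ k) ∧ ¬ p ∣ D.index ∧ (p = 2 → ∃ k, C.index = 2 ^ k) := by
  have hp : p.Prime := Fact.out
  set A := Cfsg.pPrimeCore p G with hA
  set π := QuotientGroup.mk' A with hπ
  have hπs : Function.Surjective π := QuotientGroup.mk'_surjective A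
  have hbar : Cfsg.IsPSolvable p (G ⧸ A) := PSolvable.isPSolvable_quotient hG A
  have hpp : Cfsg.pPrimeCore p (G ⧸ A) = ⊥ := PSolvable.pPrimeCore_quotient_eq_bot A hA
  set B0 := Cfsg.pCore p (G ⧸ A) with hB0
  set ψ := QuotientGroup.mk' B0 with hψ
  set f := ψ.comp π with hf
  have hfs : Function.Surjective f := (QuotientGroup.mk'_surjective B0).comp hπs
  have hkpc : Cfsg.pCore p ((G ⧸ A) ⧸ B0) = ⊥ := PSolvable.pCore_quotient_eq_bot B0 hB0
  have hKps : Cfsg.IsPSolvable p ((G ⧸ A) ⧸ B0) := PSolvable.isPSolvable_quotient hbar B0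
  have hker : f.ker = B0.comap π := by
    rw [hf, ← MonoidHom.comap_ker, hψ, QuotientGroup.ker_mk']
  have hmaxK : ∀ X : Subgroup ((G ⧸ A) ⧸ B0), IsCoatom X → IsPGroup p X ∨ X.index.Prime := by
    intro X hX
    have hM : IsCoatom (X.comap f) := isCoatom_comap_of_surjective hfs hX
    rcases hmax _ hM with ⟨Q, hQn, hQc, k, hQi⟩ | hpr
    · left
      haveI := hQn
      have hQ1 : ∀ q ∈ Q, π (q : G) = 1 := by
        intro q hq
        have hcop : ∀ z ∈ Q, (orderOf (π (z : G))).Coprime p := fun z hz => by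
          refine Nat.Coprime.of_dvd_left ((orderOf_map_dvd π _).trans ?_)
            (Nat.Coprime.symm (hp.coprime_iff_not_dvd.2 hQc))
          rw [orderOf_submonoid z]
          exact Q.orderOf_dvd_natCard hz
        have htriv : ∀ x : G ⧸ A, (orderOf x).Coprime p → x ∈ B0 → x = 1 := by
          intro x hx hxB
          obtain ⟨j, hj⟩ := IsPGroup.iff_orderOf.1
            (PSolvable.isPGroup_pCore (p := p) (G := G ⧸ A)) ⟨x, hxB⟩
          rw [← orderOf_submonoid] at hj
          rw [← orderOf_eq_one_iff]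
          rcases Nat.eq_zero_or_pos j with rfl | hj0
          · simpa using hj
          · rw [show orderOf x = p ^ j from hj, Nat.coprime_pow_left_iff hj0,
              Nat.coprime_self] at hx
            exact absurd hx hp.ne_one
        refine htriv _ (hcop q hq) (PSolvable.centralizer_pCore_le hbar hpp ?_)
        rw [mem_centralizer_iff]
        intro b hb
        obtain ⟨g, rfl⟩ := hπs b
        have hgM : g ∈ X.comap f := by
          refine ker_le_comap f X ?_
          rw [hker]; exact hb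
        have hc : (⟨g, hgM⟩ : X.comap f) * q * ⟨g, hgM⟩⁻¹ * q⁻¹ ∈ Q :=
          mul_mem (hQn.conj_mem q hq _) (inv_mem hq)
        have h1 := htriv _ (hcop _ hc) (by
          simp only [coe_mul, coe_inv, map_mul, map_inv, mul_assoc]
          refine B0.mul_mem hb ?_
          have := (inferInstance : B0.Normal).conj_mem _ (inv_mem hb) (π (q : G))
          simpa [mul_assoc] using this)
        simp only [coe_mul, coe_inv, map_mul, map_inv] at h1
        exact mul_inv_eq_iff_eq_mul.1 (mul_inv_eq_one.1 h1)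
      intro y
      obtain ⟨x, hx⟩ := hfs y
      have hxM : x ∈ X.comap f := by rw [mem_comap, hx]; exact y.2
      refine ⟨k, Subtype.ext ?_⟩
      have hpow := hQ1 _ (hQi ▸ pow_index_mem Q (⟨x, hxM⟩ : X.comap f))
      rw [SubmonoidClass.coe_pow, ← hx, OneMemClass.coe_one, ← map_pow, hf,
        MonoidHom.comp_apply]
      rw [show ((⟨x, hxM⟩ : X.comap f) ^ p ^ k : X.comap f).1 = x ^ p ^ k from rfl] at hpow
      rw [hpow, map_one]
    · right
      rwa [index_comap_of_surjective _ hfs] at hpr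
  obtain ⟨h2, D0, hD0, hCD, ⟨j, hj⟩, hDi⟩ := structure_top hKps hkpc hmaxK
  refine ⟨A, f.ker, (Cfsg.pPrimeCore p _).comap f, D0.comap f, inferInstance, inferInstance,
    inferInstance, hD0.comap f, ?_, ker_le_comap f _, comap_mono hCD, ?_, ?_, ?_, ⟨j, ?_⟩, ?_, ?_⟩
  · rw [hker]; exact QuotientGroup.le_comap_mk' A B0
  · exact hp.coprime_iff_not_dvd.1 PSolvable.card_pPrimeCore_coprime.symm
  · have h : A.relIndex (f.ker) = Nat.card B0 := by
      rw [hker]
      have := relIndex_ker (K := B0.comap π) π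
      rwa [map_comap_eq_self_of_surjective hπs, hπ, QuotientGroup.ker_mk'] at this
    rw [h]
    exact IsPGroup.iff_card.1 PSolvable.isPGroup_pCore
  · rw [relIndex_ker, map_comap_eq_self_of_surjective hfs]
    exact hp.coprime_iff_not_dvd.1 PSolvable.card_pPrimeCore_coprime.symm
  · rw [relIndex_comap, map_comap_eq_self_of_surjective hfs]
    exact hj
  · rwa [index_comap_of_surjective _ hfs]
  · intro h
    rw [index_comap_of_surjective _ hfs]
    exact h2 h

end Cfsg.Agent.Lib.MaxNilpOrPrime76
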