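import Cfsg.Agent.Lib.SectionalRank.Basic
import Cfsg.Prelude.Def_OddOrderLocal

/-!
A 2-group of sectional rank at most 2 is metacyclic.
-/

set_option autoImplicit false
set_option linter.style.haveILetI false

namespace Cfsg.Agent.Lib.MetacyclicTwoRank76

open Subgroup
open scoped commutatorElement

variable {G : Type*} [Group G]

/-- Generators `x`, `y` whose commutator `n` is a central involution. -/
structure Gen (x y n : G) : Prop where
  top : closure {x, y} = ⊤
  rel : y * x = x * y * n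
  cen : ∀ g, g * n = n * g
  sq : n * n = 1
  ne : n ≠ 1

variable {x y n : G}

theorem Gen.even (h : Gen x y n) {a : ℤ} (ha : n ^ a = 1) : ∃ i, a = 2 * i := by
  have h2 : orderOf n = 2 := orderOf_eq_prime (by rw [pow_two]; exact h.sq) h.ne
  have h3 := orderOf_dvd_iff_zpow_eq_one.2 ha
  rw [h2] at h3
  exact h3

theorem Gen.conj (h : Gen x y n) (a : ℤ) : y * x ^ a * y⁻¹ = x ^ a * n ^ a := by
  rw [← conj_zpow, show y * x * y⁻¹ = x * n by
    rw [h.rel, mul_assoc x y n, h.cen y, ← mul_assoc, mul_inv_cancel_right]]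
  exact Commute.mul_zpow (h.cen x) a

theorem Gen.conj' (h : Gen x y n) (b : ℤ) : x * y ^ b * x⁻¹ = y ^ b * n ^ b := by
  rw [← conj_zpow, show x * y * x⁻¹ = y * n by
    rw [mul_inv_eq_iff_eq_mul, mul_assoc y n, ← h.cen x, ← mul_assoc, h.rel, mul_assoc, h.sq,
      mul_one]]
  exact Commute.mul_zpow (h.cen y) b

theorem Gen.two_zpow (h : Gen x y n) (i : ℤ) : n ^ (2 * i) = 1 := by
  rw [zpow_mul, zpow_two, h.sq, one_zpow]

theorem Gen.sq_commute (h : Gen x y n) (i j : ℤ) : Commute (x ^ (2 * i)) (y ^ j) := by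
  refine Commute.zpow_right ?_ j
  have := h.conj (2 * i)
  rw [h.two_zpow, mul_one, mul_inv_eq_iff_eq_mul] at this
  exact this.symm

theorem Gen.sq_commute' (h : Gen x y n) (i j : ℤ) : Commute (x ^ i) (y ^ (2 * j)) := by
  refine Commute.zpow_left ?_ i
  have := h.conj' (2 * j)
  rw [h.two_zpow, mul_one, mul_inv_eq_iff_eq_mul] at this
  exact this

/-- If `x ^ a * y ^ b * n ^ c = 1` then `a` and `b` are even. -/
theorem Gen.parity (h : Gen x y n) {a b c : ℤ} (e : x ^ a * y ^ b * n ^ c = 1) :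
    (∃ i, a = 2 * i) ∧ ∃ j, b = 2 * j := by
  have hn : ∀ (g : G) (k : ℤ), Commute g (n ^ k) := fun g k => Commute.zpow_right (h.cen g) k
  constructor
  · refine h.even ?_
    have e' := congrArg (fun g => y * g * y⁻¹) e
    simp only [mul_one, mul_inv_cancel] at e'
    rw [show y * (x ^ a * y ^ b * n ^ c) * y⁻¹ = y * x ^ a * y⁻¹ * (y * y ^ b * y⁻¹) * (y * n ^ c * y⁻¹)
      by group, h.conj a, (hn y c).eq, mul_inv_cancel_right,
      show y * y ^ b * y⁻¹ = y ^ b by group, mul_assoc (x ^ a) (n ^ a), ← (hn (y ^ b) a).eq,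
      ← mul_assoc, mul_assoc (x ^ a * y ^ b), ← (hn (n ^ c) a).eq, ← mul_assoc, e, one_mul] at e'
    exact e'
  · refine h.even ?_
    have e' := congrArg (fun g => x * g * x⁻¹) e
    simp only [mul_one, mul_inv_cancel] at e'
    rw [show x * (x ^ a * y ^ b * n ^ c) * x⁻¹ = x * x ^ a * x⁻¹ * (x * y ^ b * x⁻¹) * (x * n ^ c * x⁻¹)
      by group, h.conj' b, (hn x c).eq, mul_inv_cancel_right,
      show x * x ^ a * x⁻¹ = x ^ a by group, ← mul_assoc (x ^ a) (y ^ b), mul_assoc (x ^ a * y ^ b),
      ← (hn (n ^ c) b).eq, ← mul_assoc, e, one_mul] at e'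
    exact e'

/-- The rank condition. -/
theorem Gen.exists_sq_eq [Finite G] (h2pow : ∀ g : G, ∃ t, orderOf g = 2 ^ t) (h : Gen x y n) (hr : Cfsg.SectionalPRankLE 2 2 G)
    (hU : n ∉ closure {x ^ 2, y ^ 2}) : ∃ i : ℤ, y ^ 2 = x ^ (2 * i) := by
  classical
  set H := closure ({x, y ^ 2, n} : Set G) with hH
  have hxy2 : x * y ^ 2 = y ^ 2 * x := by
    have := (h.sq_commute' 1 1).eq
    simpa only [zpow_one, mul_one, show (y : G) ^ (2 : ℤ) = y ^ 2 from zpow_ofNat y 2] using this
  haveI : IsMulCommutative H := by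
    rw [← le_centralizer_iff_isMulCommutative, hH, closure_le, centralizer_closure]
    intro u hu
    rw [SetLike.mem_coe, mem_centralizer_iff]
    intro v hv
    rcases hu with rfl | rfl | rfl <;> rcases hv with rfl | rfl | rfl <;>
      first | rfl | exact hxy2 | exact hxy2.symm | exact h.cen _ | exact (h.cen _).symm
  set N := closure ({x ^ 2, y ^ 4} : Set G) with hN
  haveI : (N.subgroupOf H).Normal := ⟨fun u hu g => by
    rw [mul_comm' g u, mul_inv_cancel_right]; exact hu⟩
  have hxH : x ∈ H := subset_closure (by simp)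
  have hyH : y ^ 2 ∈ H := subset_closure (by simp)
  have hnH : n ∈ H := subset_closure (by simp)
  have hsq : ∀ u ∈ H, u ^ 2 ∈ N := by
    intro u hu
    rw [hH] at hu
    induction hu using closure_induction with
    | mem v hv =>
      rcases hv with rfl | rfl | rfl
      · exact subset_closure (by simp)
      · rw [← pow_mul]; exact subset_closure (by simp)
      · rw [pow_two, h.sq]; exact one_mem N
    | one => simp
    | mul a b ha hb iha ihb =>
      have hab : Commute a b := congrArg Subtype.val (mul_comm' (⟨a, ha⟩ : H) ⟨b, hb⟩)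
      rw [hab.mul_pow]; exact mul_mem iha ihb
    | inv a _ iha => rw [inv_pow]; exact inv_mem iha
  set q := QuotientGroup.mk' (N.subgroupOf H)
  have hcard := SectionalRank.card_le hr H q ⊤ (fun u _ => QuotientGroup.mk'_surjective _ u)
    ⟨⟨⟨fun a b => Subtype.ext (by
      obtain ⟨a', ha'⟩ := QuotientGroup.mk'_surjective _ (a : H ⧸ N.subgroupOf H)
      obtain ⟨b', hb'⟩ := QuotientGroup.mk'_surjective _ (b : H ⧸ N.subgroupOf H)
      show (a : H ⧸ N.subgroupOf H) * b = b * a
      rw [← ha', ← hb', ← map_mul, ← map_mul, mul_comm' a' b'])⟩⟩, fun a _ => by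
      obtain ⟨a', rfl⟩ := QuotientGroup.mk'_surjective _ a
      rw [← map_pow, QuotientGroup.mk'_apply, QuotientGroup.eq_one_iff]
      exact hsq _ a'.2⟩
  let w : ℤ → ℤ → ℤ → H := fun a b c =>
    ⟨x, hxH⟩ ^ a * ⟨y ^ 2, hyH⟩ ^ b * ⟨n, hnH⟩ ^ c
  have hw : ∀ a b c, w a b c ∈ N.subgroupOf H →
      (∃ i, a = 2 * i) ∧ ((∃ j, b = 2 * j) ∧ (∃ k, c = 2 * k) ∨ ∃ i : ℤ, y ^ 2 = x ^ (2 * i)) := by
    intro a b c hm
    have hm' : x ^ a * (y ^ 2) ^ b * n ^ c ∈ N := by simpa [w] using mem_subgroupOf.1 hm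
    have hc4 : Commute (x ^ 2) (y ^ 4) := by
      have := h.sq_commute 1 4
      simpa only [mul_one, zpow_ofNat] using this
    obtain ⟨i, j, hij⟩ : ∃ i j : ℤ, x ^ (2 * i) * y ^ (4 * j) = x ^ a * (y ^ 2) ^ b * n ^ c := by
      rw [hN] at hm'
      generalize x ^ a * (y ^ 2) ^ b * n ^ c = u at hm'
      induction hm' using closure_induction with
      | mem v hv =>
        rcases hv with rfl | rfl
        · exact ⟨1, 0, by simp [zpow_ofNat]⟩
        · exact ⟨0, 1, by simp [zpow_ofNat]⟩
      | one => exact ⟨0, 0, by simp⟩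
      | mul u v _ _ ihu ihv =>
        obtain ⟨i, j, rfl⟩ := ihu
        obtain ⟨i', j', rfl⟩ := ihv
        refine ⟨i + i', j + j', ?_⟩
        rw [mul_add, mul_add, zpow_add, zpow_add, mul_assoc (x ^ (2 * i)),
          ← mul_assoc (x ^ (2 * i')), (h.sq_commute i' (4 * j)).eq]
        group
      | inv u _ ih =>
        obtain ⟨i, j, rfl⟩ := ih
        refine ⟨-i, -j, ?_⟩
        rw [mul_inv_rev, mul_neg, mul_neg, zpow_neg, zpow_neg,
          ((h.sq_commute i (4 * j)).inv_inv).eq]
    have e : x ^ (a - 2 * i) * y ^ (2 * b - 4 * j) * n ^ c = 1 := by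
      have e1 : x ^ (-(2 * i)) * (x ^ a * (y ^ 2) ^ b * n ^ c) = y ^ (4 * j) := by
        rw [← hij, zpow_neg, inv_mul_cancel_left]
      have e2 : x ^ (a - 2 * i) * y ^ (2 * b) * n ^ c = y ^ (4 * j) := by
        rw [← e1, show (y ^ 2) ^ b = y ^ (2 * b) by rw [zpow_mul, zpow_ofNat],
          show a - 2 * i = -(2 * i) + a by ring, zpow_add]
        group
      rw [show 2 * b - 4 * j = 2 * b + -(4 * j) by ring, zpow_add, ← mul_assoc, mul_assoc _ _ (n ^ c),
        (Commute.zpow_right (h.cen _) c : Commute (y ^ (-(4 * j))) (n ^ c)).eq, ← mul_assoc, e2,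
        zpow_neg, mul_inv_cancel]
    obtain ⟨⟨a', ha'⟩, -⟩ := h.parity e
    refine ⟨⟨a' + i, by omega⟩, ?_⟩
    rcases Int.even_or_odd' c with ⟨k, hk | hk⟩
    swap
    · exfalso
      refine hU ?_
      rw [ha', hk, zpow_add, h.two_zpow, one_mul, zpow_one] at e
      rw [eq_inv_of_mul_eq_one_right e, zpow_mul x 2 a', show (2 * b - 4 * j) = 2 * (b - 2 * j) by ring,
        zpow_mul y 2, zpow_ofNat, zpow_ofNat]
      exact inv_mem (mul_mem (zpow_mem (subset_closure (by simp)) _)
        (zpow_mem (subset_closure (by simp)) _))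
    rw [ha', hk, h.two_zpow, mul_one] at e
    rcases Int.even_or_odd' b with ⟨b', hb' | hb'⟩
    · exact Or.inl ⟨⟨b', hb'⟩, k, hk⟩
    right
    -- `(y ^ 2) ^ odd` lies in `⟨x ^ 2⟩`
    have h1 : (y ^ 2) ^ (b - 2 * j) ∈ zpowers (x ^ 2) := by
      refine mem_zpowers_iff.2 ⟨-a', ?_⟩
      rw [← zpow_natCast, ← zpow_mul, ← zpow_natCast, ← zpow_mul]
      push_cast
      rw [mul_neg, zpow_neg, inv_eq_iff_mul_eq_one,
        show 2 * (b - 2 * j) = 2 * b - 4 * j by ring]
      exact e
    obtain ⟨m, hm⟩ := exists_pow_eq_self_of_coprime (x := y ^ 2) (n := (b - 2 * j).natAbs) (by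
      refine Nat.Coprime.symm ?_
      obtain ⟨t, ht⟩ : ∃ t, orderOf (y ^ 2) = 2 ^ t := h2pow (y ^ 2)
      rw [ht]
      exact Nat.Coprime.pow_left _ (Nat.coprime_two_left.2 (Int.natAbs_odd.2 ⟨b' - j, by omega⟩)))
    have h2 : (y ^ 2) ^ (b - 2 * j).natAbs ∈ zpowers (x ^ 2) := by
      rcases Int.natAbs_eq (b - 2 * j) with he | he
      · rw [← zpow_natCast (y ^ 2), ← he]; exact h1
      · rw [he, zpow_neg, zpow_natCast] at h1
        exact inv_mem_iff.1 h1
    obtain ⟨i', hi'⟩ := mem_zpowers_iff.1 (hm ▸ pow_mem h2 m : y ^ 2 ∈ zpowers (x ^ 2))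
    exact ⟨i', by rw [← hi', zpow_mul, zpow_ofNat]⟩
  by_contra hno
  have hinj : Function.Injective (fun p : Fin 2 × Fin 2 × Fin 2 =>
      (⟨q (w p.1 p.2.1 p.2.2), trivial⟩ : (⊤ : Subgroup (H ⧸ N.subgroupOf H)))) := by
    intro p p' hp
    have hp' : q (w p.1 p.2.1 p.2.2) = q (w p'.1 p'.2.1 p'.2.2) := congrArg Subtype.val hp
    rw [QuotientGroup.mk'_apply, QuotientGroup.mk'_apply, QuotientGroup.eq] at hp'
    have hd : (w p.1 p.2.1 p.2.2)⁻¹ * w p'.1 p'.2.1 p'.2.2
        = w (p'.1 - p.1) (p'.2.1 - p.2.1) (p'.2.2 - p.2.2) := by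
      simp only [w, zpow_sub]
      letI : CommGroup H := { (inferInstance : Group H) with mul_comm := fun a b => mul_comm' a b }
      simp only [mul_inv_rev]
      ac_rfl
    rw [hd] at hp'
    obtain ⟨⟨i, hi⟩, hrest⟩ := hw _ _ _ hp'
    obtain ⟨⟨j, hj⟩, k, hk⟩ := hrest.resolve_right hno
    refine Prod.ext ?_ (Prod.ext ?_ ?_) <;> ext <;> omega
  have := (Nat.card_le_card_of_injective _ hinj).trans hcard
  simp at this

/-- A generator outside the Frattini subgroup whose powers contain `n`. -/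
theorem Gen.exists_good [Finite G] (h2pow : ∀ g : G, ∃ t, orderOf g = 2 ^ t) (h : Gen x y n) (hr : Cfsg.SectionalPRankLE 2 2 G) :
    ∃ w u : G, closure {w, u} = ⊤ ∧ n ∈ zpowers w := by
  classical
  by_cases hnx : n ∈ zpowers x
  · exact ⟨x, y, h.top, hnx⟩
  by_cases hny : n ∈ zpowers y
  · exact ⟨y, x, by rw [Set.pair_comm]; exact h.top, hny⟩
  -- the case of an involution among the generators
  have invol : ∀ {x' z : G}, Gen x' z n → z * z = 1 → ∃ w u : G, closure {w, u} = ⊤ ∧ n ∈ zpowers w := by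
    intro x' z h' hz
    by_cases hn : n ∈ zpowers x'
    · exact ⟨x', z, h'.top, hn⟩
    have hsym : Gen z x' n := ⟨by rw [Set.pair_comm]; exact h'.top,
      by rw [h'.rel, mul_assoc _ n n, h'.sq, mul_one], h'.cen, h'.sq, h'.ne⟩
    obtain ⟨i, hi⟩ := hsym.exists_sq_eq h2pow hr (by
      intro hm
      refine hn (closure_le _ |>.2 ?_ hm)
      rintro u (rfl | rfl)
      · rw [pow_two, hz]; exact one_mem _
      · exact pow_mem (mem_zpowers x') 2)
    rw [zpow_mul, zpow_two, hz, one_zpow] at hi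
    refine ⟨z * x', x', ?_, mem_zpowers_iff.2 ⟨2, ?_⟩⟩
    · rw [eq_top_iff, ← h'.top, closure_le]
      intro u hu
      rcases hu with hu | hu <;> rw [hu]
      · exact subset_closure (by simp)
      · have m1 : z * x' ∈ closure ({z * x', x'} : Set G) := subset_closure (by simp)
        have m2 : x' ∈ closure ({z * x', x'} : Set G) := subset_closure (by simp)
        simpa using mul_mem m1 (inv_mem m2)
    · rw [zpow_two, mul_assoc z x', ← mul_assoc x' z, hsym.rel, ← mul_assoc, ← mul_assoc,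
        ← mul_assoc, hz, one_mul, mul_assoc x' n, ← h'.cen x', ← mul_assoc, ← pow_two, hi, one_mul]
  -- powers of the product
  have hsq : ∀ a b : ℤ, (x ^ a * y ^ b) * (x ^ a * y ^ b) = x ^ (2 * a) * y ^ (2 * b) * n ^ (a * b) := by
    intro a b
    have h1 : y ^ b * x ^ a = x ^ a * y ^ b * n ^ (a * b) := by
      have hc : x ^ a * y ^ b * (x ^ a)⁻¹ = y ^ b * (n ^ a) ^ b := by
        have e1 : x ^ a * y * (x ^ a)⁻¹ = y * n ^ a := by
          have e2 := h.conj a
          rw [mul_inv_eq_iff_eq_mul] at e2 ⊢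
          rw [mul_assoc y, ← (Commute.zpow_right (h.cen (x ^ a)) a).eq, ← mul_assoc, e2,
            mul_assoc (x ^ a) (n ^ a) y, ← (Commute.zpow_right (h.cen y) a).eq, ← mul_assoc,
            mul_assoc, ← zpow_add, show a + a = 2 * a by ring, h.two_zpow, mul_one]
        rw [← conj_zpow, e1, (Commute.zpow_right (h.cen y) a).mul_zpow]
      rw [mul_inv_eq_iff_eq_mul, ← zpow_mul] at hc
      rw [hc, mul_assoc (y ^ b), ← (Commute.zpow_right (h.cen (x ^ a)) (a * b)).eq, mul_assoc,
        mul_assoc, ← zpow_add, show a * b + a * b = 2 * (a * b) by ring, h.two_zpow, mul_one]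
    rw [mul_assoc, ← mul_assoc (y ^ b), h1, mul_assoc (x ^ a * y ^ b) (n ^ (a * b)),
      ← (Commute.zpow_right (h.cen (y ^ b)) (a * b)).eq, two_mul, two_mul, zpow_add, zpow_add]
    group
  by_cases hU : n ∈ closure {x ^ 2, y ^ 2}
  · obtain ⟨i, j, hij⟩ : ∃ i j : ℤ, x ^ (2 * i) * y ^ (2 * j) = n := by
      generalize hn' : n = u at hU ⊢
      clear hn'
      induction hU using closure_induction with
      | mem v hv =>
        rcases hv with rfl | rfl
        · exact ⟨1, 0, by simp [zpow_ofNat]⟩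
        · exact ⟨0, 1, by simp [zpow_ofNat]⟩
      | one => exact ⟨0, 0, by simp⟩
      | mul u v _ _ ihu ihv =>
        obtain ⟨i, j, rfl⟩ := ihu
        obtain ⟨i', j', rfl⟩ := ihv
        refine ⟨i + i', j + j', ?_⟩
        rw [mul_add, mul_add, zpow_add, zpow_add, mul_assoc (x ^ (2 * i)),
          ← mul_assoc (x ^ (2 * i')), (h.sq_commute i' (2 * j)).eq]
        group
      | inv u _ ih =>
        obtain ⟨i, j, rfl⟩ := ih
        refine ⟨-i, -j, ?_⟩
        rw [mul_inv_rev, mul_neg, mul_neg, zpow_neg, zpow_neg,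
          ((h.sq_commute i (2 * j)).inv_inv).eq]
    -- make one exponent odd
    obtain ⟨k, i', j', hi', hj', hodd⟩ : ∃ (k : ℕ) (i' j' : ℤ), i = 2 ^ k * i' ∧ j = 2 ^ k * j' ∧
        ((∃ t, i' = 2 * t + 1) ∨ ∃ t, j' = 2 * t + 1) := by
      have main : ∀ (m : ℕ) (i j : ℤ), i.natAbs + j.natAbs ≤ m → (i ≠ 0 ∨ j ≠ 0) →
          ∃ (k : ℕ) (i' j' : ℤ), i = 2 ^ k * i' ∧ j = 2 ^ k * j' ∧
            ((∃ t, i' = 2 * t + 1) ∨ ∃ t, j' = 2 * t + 1) := by
        intro m
        induction m with
        | zero => intro i j hm hne; omega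
        | succ m ih =>
          intro i j hm hne
          rcases Int.even_or_odd' i with ⟨s, hs | hs⟩
          · rcases Int.even_or_odd' j with ⟨t, ht | ht⟩
            · obtain ⟨k, i', j', e1, e2, e3⟩ := ih s t (by omega) (by omega)
              exact ⟨k + 1, i', j', by rw [hs, e1, pow_succ]; ring, by rw [ht, e2, pow_succ]; ring, e3⟩
            · exact ⟨0, i, j, by simp, by simp, Or.inr ⟨t, ht⟩⟩
          · exact ⟨0, i, j, by simp, by simp, Or.inl ⟨s, hs⟩⟩
      refine main _ i j le_rfl ?_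
      by_contra hz
      simp only [not_or, not_not] at hz
      rw [hz.1, hz.2, mul_zero, zpow_zero, zpow_zero, mul_one] at hij
      exact h.ne hij.symm
    set w := x ^ i' * y ^ j' with hw
    have hgenw : ∃ u, closure {w, u} = ⊤ := by
      have key : ∀ (g : G) (K : Subgroup G) (a : ℤ), (∃ t, a = 2 * t + 1) → g ^ a ∈ K → g ∈ K := by
        intro g K a ha hga
        obtain ⟨t, ht⟩ : ∃ t, orderOf g = 2 ^ t := h2pow g
        obtain ⟨m, hm⟩ := exists_pow_eq_self_of_coprime (x := g) (n := a.natAbs) (by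
          refine Nat.Coprime.symm ?_
          rw [ht]
          exact Nat.Coprime.pow_left _ (Nat.coprime_two_left.2 (Int.natAbs_odd.2 ha)))
        have h2 : g ^ a.natAbs ∈ K := by
          rcases Int.natAbs_eq a with he | he
          · rw [← zpow_natCast, ← he]; exact hga
          · rw [he, zpow_neg, zpow_natCast] at hga
            exact inv_mem_iff.1 hga
        exact hm ▸ pow_mem h2 m
      rcases hodd with hi | hj
      · refine ⟨y, ?_⟩
        have my : y ∈ closure ({w, y} : Set G) := subset_closure (by simp)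
        have : x ^ i' ∈ closure ({w, y} : Set G) := by
          have := mul_mem (subset_closure (show w ∈ ({w, y} : Set G) by simp)) (inv_mem (zpow_mem my j'))
          rwa [hw, mul_inv_cancel_right] at this
        rw [eq_top_iff, ← h.top, closure_le]
        rintro u (rfl | rfl)
        exacts [key _ _ _ hi this, my]
      · refine ⟨x, ?_⟩
        have mx : x ∈ closure ({w, x} : Set G) := subset_closure (by simp)
        have : y ^ j' ∈ closure ({w, x} : Set G) := by
          have := mul_mem (inv_mem (zpow_mem mx i')) (subset_closure (show w ∈ ({w, x} : Set G) by simp))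
          rwa [hw, inv_mul_cancel_left] at this
        rw [eq_top_iff, ← h.top, closure_le]
        rintro u (rfl | rfl)
        exacts [mx, key _ _ _ hj this]
    rcases Nat.eq_zero_or_pos k with rfl | hk
    · rw [pow_zero, one_mul] at hi' hj'
      subst hi' hj'
      have hww : w * w = n * n ^ (i * j) := by rw [hw, hsq, hij]
      by_cases hpar : ∃ t, i * j = 2 * t
      · obtain ⟨u, hu⟩ := hgenw
        obtain ⟨t, ht⟩ := hpar
        refine ⟨w, u, hu, mem_zpowers_iff.2 ⟨2, ?_⟩⟩
        rw [zpow_two, hww, ht, h.two_zpow, mul_one]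
      · -- `w` is an involution, and `x` completes it
        obtain ⟨t, ht⟩ := (Int.even_or_odd' (i * j)).imp fun t ht => ht.resolve_left fun e => hpar ⟨t, e⟩
        have hw1 : w * w = 1 := by rw [hww, ht, zpow_add, h.two_zpow, one_mul, zpow_one, h.sq]
        have hjodd : ∃ s, j = 2 * s + 1 := by
          rcases Int.even_or_odd' j with ⟨s, hs | hs⟩
          · exact absurd ⟨i * s, by rw [hs]; ring⟩ hpar
          · exact ⟨s, hs⟩
        obtain ⟨s, hs⟩ := hjodd
        refine invol (x' := x) (z := w) ⟨?_, ?_, h.cen, h.sq, h.ne⟩ hw1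
        · have mx : x ∈ closure ({x, w} : Set G) := subset_closure (by simp)
          have hy' : y ^ j ∈ closure ({x, w} : Set G) := by
            have := mul_mem (inv_mem (zpow_mem mx i)) (subset_closure (show w ∈ ({x, w} : Set G) by simp))
            rwa [hw, inv_mul_cancel_left] at this
          obtain ⟨t', ht'⟩ : ∃ t', orderOf y = 2 ^ t' := h2pow y
          obtain ⟨m, hm⟩ := exists_pow_eq_self_of_coprime (x := y) (n := j.natAbs) (by
            refine Nat.Coprime.symm ?_
            rw [ht']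
            exact Nat.Coprime.pow_left _ (Nat.coprime_two_left.2 (Int.natAbs_odd.2 ⟨s, hs⟩)))
          have h2 : y ^ j.natAbs ∈ closure ({x, w} : Set G) := by
            rcases Int.natAbs_eq j with he | he
            · rw [← zpow_natCast, ← he]; exact hy'
            · rw [he, zpow_neg, zpow_natCast] at hy'
              exact inv_mem_iff.1 hy'
          rw [eq_top_iff, ← h.top, closure_le]
          rintro u (rfl | rfl)
          exacts [mx, hm ▸ pow_mem h2 m]
        · have e1 : x * y ^ j = y ^ j * x * n := by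
            have := h.conj' j
            rw [hs, zpow_add n, h.two_zpow, one_mul, zpow_one, mul_inv_eq_iff_eq_mul] at this
            rw [hs, this, mul_assoc, ← h.cen x, ← mul_assoc]
          rw [hw, ← mul_assoc x, ← zpow_one_add, add_comm 1 i, zpow_add_one, mul_assoc _ x (y ^ j),
            e1, ← mul_assoc, ← mul_assoc, mul_assoc _ n n, h.sq, mul_one]
    · obtain ⟨u, hu⟩ := hgenw
      refine ⟨w, u, hu, mem_zpowers_iff.2 ⟨2 ^ (k + 1), ?_⟩⟩
      obtain ⟨m, rfl⟩ : ∃ m, k = m + 1 := ⟨k - 1, by omega⟩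
      have h2 : w ^ (2 : ℤ) = x ^ (2 * i') * y ^ (2 * j') * n ^ (i' * j') := by
        rw [zpow_two, hw, hsq]
      rw [pow_succ' (2 : ℤ), zpow_mul, h2,
        ((Commute.zpow_right (h.cen _) _)).mul_zpow, (h.sq_commute i' (2 * j')).mul_zpow,
        ← zpow_mul, ← zpow_mul, ← zpow_mul,
        show i' * j' * 2 ^ (m + 1) = 2 * (i' * j' * 2 ^ m) by ring, h.two_zpow, mul_one, ← hij, hi', hj']
      ring_nf
  · -- `n` is not a product of squares
    obtain ⟨i, hi⟩ := h.exists_sq_eq h2pow hr hU
    set z := x ^ (-i) * y with hz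
    have hzz : z * z = n ^ (-i) := by
      have := hsq (-i) 1
      rw [zpow_one] at this
      rw [hz, this, mul_one, mul_one, show (y : G) ^ (2 : ℤ) = y ^ 2 from zpow_ofNat y 2, hi,
        ← zpow_add, show 2 * -i + 2 * i = 0 by ring, zpow_zero, one_mul]
    have hgen : closure ({x, z} : Set G) = ⊤ := by
      have mx : x ∈ closure ({x, z} : Set G) := subset_closure (by simp)
      rw [eq_top_iff, ← h.top, closure_le]
      rintro u (rfl | rfl)
      · exact mx
      · have := mul_mem (inv_mem (zpow_mem mx (-i))) (subset_closure (show z ∈ ({x, z} : Set G) by simp))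
        rwa [hz, inv_mul_cancel_left] at this
    rcases Int.even_or_odd' i with ⟨t, ht | ht⟩
    · refine invol (x' := x) (z := z) ⟨hgen, ?_, h.cen, h.sq, h.ne⟩ (by
        rw [hzz, ht, ← mul_neg, h.two_zpow])
      rw [hz, mul_assoc, h.rel, ← mul_assoc, ← mul_assoc, ← mul_assoc, ← zpow_add_one,
        add_comm (-i) 1, zpow_one_add]
    · refine ⟨z, x, by rw [Set.pair_comm]; exact hgen, mem_zpowers_iff.2 ⟨2, ?_⟩⟩
      rw [zpow_two, hzz, ht, show -(2 * t + 1) = 2 * (-t - 1) + 1 by ring, zpow_add, h.two_zpow,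
        one_mul, zpow_one]

theorem of_gens [Finite G] (x y : G) (hxy : closure {x, y} = ⊤) (hn : ∀ g, g * x * g⁻¹ ∈ zpowers x) :
    Cfsg.IsMetacyclic G := by
  haveI hN : (zpowers x).Normal := ⟨fun u hu g => by
    obtain ⟨k, rfl⟩ := hu
    show g * x ^ k * g⁻¹ ∈ zpowers x
    rw [← conj_zpow]; exact zpow_mem (hn g) k⟩
  refine ⟨zpowers x, hN, inferInstance, ⟨⟨QuotientGroup.mk y, fun q => ?_⟩⟩⟩
  obtain ⟨g, rfl⟩ := QuotientGroup.mk_surjective q
  have hg : g ∈ closure {x, y} := hxy.ge (mem_top g)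
  induction hg using closure_induction with
  | mem u hu =>
    rcases hu with rfl | rfl
    · exact ⟨0, by simp [(QuotientGroup.eq_one_iff u).2 (mem_zpowers u)]⟩
    · exact ⟨1, by simp⟩
  | one => exact ⟨0, by simp⟩
  | mul a b _ _ iha ihb =>
    obtain ⟨m, hm⟩ := iha
    obtain ⟨l, hl⟩ := ihb
    exact ⟨m + l, by simp only [zpow_add] at *; rw [hm, hl]; rfl⟩
  | inv a _ iha =>
    obtain ⟨m, hm⟩ := iha
    exact ⟨-m, by simp only [zpow_neg] at *; rw [hm]; rfl⟩

theorem exists_two_gens [Finite G] (h2 : IsPGroup 2 G) (hr : Cfsg.SectionalPRankLE 2 2 G) :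
    ∃ x y : G, closure {x, y} = ⊤ := by
  classical
  haveI : Fact (Nat.Prime 2) := ⟨Nat.prime_two⟩
  have hE := PGroups.frattiniQuotient_elemAb h2
  have hcard : Nat.card (G ⧸ frattini G) ≤ 4 := by
    have := SectionalRank.card_le hr ⊤ ((QuotientGroup.mk' (frattini G)).comp (⊤ : Subgroup G).subtype) ⊤
      (fun u _ => by
        obtain ⟨g, rfl⟩ := QuotientGroup.mk'_surjective _ u
        exact ⟨⟨g, trivial⟩, rfl⟩) hE
    simpa [card_top] using this
  -- two elements generate the Frattini quotient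
  obtain ⟨a, b, hab⟩ : ∃ a b : G ⧸ frattini G, closure {a, b} = ⊤ := by
    by_contra hcon
    simp only [not_exists] at hcon
    obtain ⟨a, -, ha⟩ := SetLike.exists_of_lt (lt_top_iff_ne_top.2 (hcon 1 1))
    have ha1 : a ≠ 1 := fun h => ha (by rw [h]; exact one_mem _)
    obtain ⟨b, -, hb⟩ := SetLike.exists_of_lt (lt_top_iff_ne_top.2 (hcon a a))
    obtain ⟨c, -, hc⟩ := SetLike.exists_of_lt (lt_top_iff_ne_top.2 (hcon a b))
    have mab : a ∈ closure ({a, b} : Set (G ⧸ frattini G)) := subset_closure (by simp)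
    have mbb : b ∈ closure ({a, b} : Set (G ⧸ frattini G)) := subset_closure (by simp)
    have maa : a ∈ closure ({a, a} : Set (G ⧸ frattini G)) := subset_closure (by simp)
    have h5 : ({1, a, b, a * b, c} : Finset (G ⧸ frattini G)).card = 5 := by
      have n1 : b ≠ 1 := fun h => hb (by rw [h]; exact one_mem _)
      have n2 : b ≠ a := fun h => hb (by rw [h]; exact maa)
      have n3 : a * b ≠ 1 := fun h => hb (eq_inv_of_mul_eq_one_right h ▸ inv_mem maa)
      have n4 : a * b ≠ a := fun h => n1 (mul_eq_left.1 h)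
      have n5 : a * b ≠ b := fun h => ha1 (mul_eq_right.1 h)
      have n6 : c ≠ 1 := fun h => hc (by rw [h]; exact one_mem _)
      have n7 : c ≠ a := fun h => hc (by rw [h]; exact mab)
      have n8 : c ≠ b := fun h => hc (by rw [h]; exact mbb)
      have n9 : c ≠ a * b := fun h => hc (by rw [h]; exact mul_mem mab mbb)
      simp [Finset.card_insert_of_notMem, ha1.symm, n1.symm, n2.symm, n3.symm, n4.symm, n5.symm,
        n6.symm, n7.symm, n8.symm, n9.symm]
    haveI := Fintype.ofFinite (G ⧸ frattini G)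
    have := Finset.card_le_univ ({1, a, b, a * b, c} : Finset (G ⧸ frattini G))
    rw [← Nat.card_eq_fintype_card, h5] at this
    omega
  obtain ⟨x, rfl⟩ := QuotientGroup.mk'_surjective _ a
  obtain ⟨y, rfl⟩ := QuotientGroup.mk'_surjective _ b
  refine ⟨x, y, PGroups.closure_eq_top_of_sup_frattini ?_⟩
  have hm : (closure {x, y}).map (QuotientGroup.mk' (frattini G)) = ⊤ := by
    rw [MonoidHom.map_closure, Set.image_pair, hab]
  have := congrArg (comap (QuotientGroup.mk' (frattini G))) hm
  rwa [comap_map_eq, QuotientGroup.ker_mk', comap_top] at this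

universe u

theorem main : ∀ (m : ℕ) (G : Type u) [Group G] [Finite G], Nat.card G = m → IsPGroup 2 G →
    Cfsg.SectionalPRankLE 2 2 G → Cfsg.IsMetacyclic G := by
  classical
  intro m
  induction m using Nat.strong_induction_on with
  | _ m IH =>
    intro G _ _ hm h2 hr
    haveI : Fact (Nat.Prime 2) := ⟨Nat.prime_two⟩
    obtain ⟨x₀, y₀, hgen₀⟩ := exists_two_gens h2 hr
    by_cases hab : ∀ a b : G, a * b = b * a
    · refine of_gens x₀ y₀ hgen₀ fun g => ?_
      rw [hab g x₀, mul_inv_cancel_right]; exact mem_zpowers x₀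
    have hne : commutator G ≠ ⊥ := fun h => hab fun a b =>
      commutatorElement_eq_one_iff_mul_comm.1 (mem_bot.1 (h ▸ commutator_mem_commutator (mem_top a) (mem_top b)))
    have hZ := PGroups.normal_inf_center_ne_bot h2 (commutator G) hne
    obtain ⟨n, hnZ, hn1⟩ := (bot_or_exists_ne_one _).resolve_left hZ
    obtain ⟨k, hk⟩ := IsPGroup.iff_orderOf.1 h2 n
    obtain ⟨j, rfl⟩ : ∃ j, k = j + 1 := Nat.exists_eq_succ_of_ne_zero fun h0 => hn1
      (orderOf_eq_one_iff.1 (by rw [hk, h0, pow_zero]))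
    set n' := n ^ 2 ^ j with hn'
    have hn'ne : n' ≠ 1 := fun h => by
      have h3 := orderOf_dvd_of_pow_eq_one h
      rw [hk, Nat.pow_dvd_pow_iff_le_right one_lt_two] at h3
      omega
    have hn'sq : n' * n' = 1 := by
      rw [← pow_two, hn', ← pow_mul, ← pow_succ, ← hk, pow_orderOf_eq_one]
    have hn'mem : n' ∈ commutator G ⊓ center G := pow_mem hnZ _
    have hcen : ∀ g, g * n' = n' * g := fun g => (mem_center_iff.1 hn'mem.2) g
    clear_value n'
    haveI hN : (zpowers n').Normal := ⟨fun u hu g => by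
      obtain ⟨k, rfl⟩ := hu
      show g * n' ^ k * g⁻¹ ∈ zpowers n'
      rw [(Commute.zpow_right (hcen g) k).eq, mul_inv_cancel_right]
      exact zpow_mem (mem_zpowers n') k⟩
    set π := QuotientGroup.mk' (zpowers n')
    have hlt : Nat.card (G ⧸ zpowers n') < m := by
      rw [← hm, card_eq_card_quotient_mul_card_subgroup (zpowers n'), Nat.card_zpowers,
        orderOf_eq_prime (by rw [pow_two]; exact hn'sq) hn'ne]
      have : 0 < Nat.card (G ⧸ zpowers n') := Nat.card_pos
      omega
    obtain ⟨C, hC, hCc, hQc⟩ := IH _ hlt (G ⧸ zpowers n') rfl (h2.to_quotient _)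
      (fun H M _ A hAc hAp => by
        refine SectionalRank.card_le hr (H.comap π)
          ((QuotientGroup.mk' M).comp ((π.subgroupComap H))) A ?_ ⟨hAc, hAp⟩
        intro u _
        obtain ⟨⟨h', hh'⟩, rfl⟩ := QuotientGroup.mk'_surjective M u
        obtain ⟨g, rfl⟩ := QuotientGroup.mk'_surjective (zpowers n') h'
        exact ⟨⟨g, hh'⟩, rfl⟩)
    haveI := hC
    obtain ⟨cq, hcq⟩ := hCc.exists_generator
    obtain ⟨qq, hqq⟩ := hQc.exists_generator
    obtain ⟨y, hy⟩ : ∃ y : G, (QuotientGroup.mk' C) (π y) = qq :=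
      ((QuotientGroup.mk'_surjective C).comp (QuotientGroup.mk'_surjective _)) qq
    obtain ⟨x, hx⟩ := QuotientGroup.mk'_surjective (zpowers n') (cq : G ⧸ zpowers n')
    have hCmem : ∀ g : G, π g ∈ C → ∃ (a b : ℤ), g = x ^ a * n' ^ b := by
      intro g hg
      obtain ⟨a, ha⟩ := mem_zpowers_iff.1 (hcq ⟨π g, hg⟩)
      have ha' : π x ^ a = π g := by rw [hx]; exact congrArg Subtype.val ha
      rw [← map_zpow, QuotientGroup.mk'_apply, QuotientGroup.mk'_apply, QuotientGroup.eq] at ha'
      obtain ⟨b, hb⟩ := ha'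
      exact ⟨a, b, by rw [show n' ^ b = (x ^ a)⁻¹ * g from hb, mul_inv_cancel_left]⟩
    have hxC : π x ∈ C := hx ▸ cq.2
    have hgen : closure {x, y} = ⊤ := by
      refine PGroups.closure_eq_top_of_sup_frattini (eq_top_iff.2 fun g _ => ?_)
      obtain ⟨k, hk⟩ := mem_zpowers_iff.1 (hqq (QuotientGroup.mk' C (π g)))
      rw [← hy, ← map_zpow, ← map_zpow] at hk
      replace hk : (π (y ^ k))⁻¹ * π g ∈ C := QuotientGroup.eq.1 hk
      rw [← map_inv, ← map_mul] at hk
      obtain ⟨a, b, hab'⟩ := hCmem _ hk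
      have hg : g = y ^ k * (x ^ a * n' ^ b) := by rw [← hab']; group
      rw [hg]
      exact mul_mem (mem_sup_left (zpow_mem (subset_closure (by simp)) k))
        (mul_mem (mem_sup_left (zpow_mem (subset_closure (by simp)) a))
          (mem_sup_right (zpow_mem (PGroups.commutator_le_frattini h2 hn'mem.1) b)))
    have hconj : ∀ g : G, ∃ a b : ℤ, g * x * g⁻¹ = x ^ a * n' ^ b := fun g =>
      hCmem _ (by rw [map_mul, map_mul, map_inv]; exact hC.conj_mem _ hxC _)
    by_cases hnx : n' ∈ zpowers x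
    · refine of_gens x y hgen fun g => ?_
      obtain ⟨a, b, hg⟩ := hconj g
      rw [hg]
      exact mul_mem (zpow_mem (mem_zpowers x) a) (zpow_mem hnx b)
    -- here `[y, x] = n'`
    obtain ⟨a, b, hyx⟩ := hconj y
    set c := x ^ (a - 1) * n' ^ b with hc
    have hcx : y * x = x * c * y := by
      rw [hc, ← mul_assoc x, ← zpow_one_add, show 1 + (a - 1) = a by ring, ← hyx]; group
    have hcy : y * c * y⁻¹ = c ^ a := by
      rw [hc, show y * (x ^ (a - 1) * n' ^ b) * y⁻¹ = (y * x * y⁻¹) ^ (a - 1) * (y * n' ^ b * y⁻¹) by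
        rw [conj_zpow]; group]
      rw [hyx, (Commute.zpow_right (hcen y) b).eq, mul_inv_cancel_right,
        ((Commute.zpow_right (hcen (x ^ a)) b)).mul_zpow,
        ((Commute.zpow_right (hcen (x ^ (a - 1))) b)).mul_zpow, mul_assoc, ← zpow_mul, ← zpow_mul,
        ← zpow_mul, ← zpow_mul, ← zpow_add]
      ring_nf
    haveI hD : (zpowers c).Normal := by
      rw [← normalizer_eq_top_iff, ← top_le_iff, ← hgen, closure_le]
      rintro u (rfl | rfl)
      · refine mem_normalizer_iff.2 fun v => ?_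
        have hcu : ∀ w ∈ zpowers c, u * w * u⁻¹ = w := by
          rintro _ ⟨t, rfl⟩
          show u * c ^ t * u⁻¹ = c ^ t
          have hxc : Commute u c := by
            rw [hc]; exact (Commute.self_zpow u _).mul_right (Commute.zpow_right (hcen u) b)
          rw [(hxc.zpow_right t).eq, mul_inv_cancel_right]
        refine ⟨fun hv => by rw [hcu v hv]; exact hv, fun hv => ?_⟩
        have hinv : ∀ w ∈ zpowers c, u⁻¹ * w * u = w := fun w hw => by
          calc u⁻¹ * w * u = u⁻¹ * (u * w * u⁻¹) * u := by rw [hcu w hw]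
            _ = w := by group
        have e := hinv _ hv
        have : v = u * v * u⁻¹ := by
          conv_rhs => rw [← e]
          group
        rw [this]; exact hv
      · refine mem_normalizer_iff.2 ?_
        have hle : ∀ w ∈ zpowers c, u * w * u⁻¹ ∈ zpowers c := by
          rintro _ ⟨t, rfl⟩
          show u * c ^ t * u⁻¹ ∈ zpowers c
          rw [← conj_zpow, hcy, ← zpow_mul]; exact zpow_mem (mem_zpowers c) _
        intro v
        refine ⟨hle v, fun hv => ?_⟩
        obtain ⟨w, hw⟩ := Finite.surjective_of_injective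
          (f := fun w : zpowers c => (⟨u * w * u⁻¹, hle w w.2⟩ : zpowers c))
          (fun w w' h => Subtype.ext (by simpa using congrArg Subtype.val h)) ⟨_, hv⟩
        have : (w : G) = v := by simpa using congrArg Subtype.val hw
        exact this ▸ w.2
    have hcomm : commutator G ≤ zpowers c := by
      refine Subgroup.Normal.quotient_commutative_iff_commutator_le.1 ⟨⟨fun p q => ?_⟩⟩
      obtain ⟨p, rfl⟩ := QuotientGroup.mk'_surjective (zpowers c) p
      obtain ⟨q, rfl⟩ := QuotientGroup.mk'_surjective (zpowers c) q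
      set ψ := QuotientGroup.mk' (zpowers c)
      have hc1 : ψ c = 1 := (QuotientGroup.eq_one_iff c).2 (mem_zpowers c)
      have hxy' : Commute (ψ x) (ψ y) := by
        have := congrArg ψ hcx
        rw [map_mul, map_mul, map_mul, hc1, mul_one] at this
        exact this.symm
      have hp : ∀ g, Commute (ψ g) (ψ x) ∧ Commute (ψ g) (ψ y) := by
        intro g
        have hg : g ∈ closure {x, y} := hgen.ge (mem_top g)
        induction hg using closure_induction with
        | mem u hu =>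
          rcases hu with rfl | rfl
          exacts [⟨Commute.refl _, hxy'⟩, ⟨hxy'.symm, Commute.refl _⟩]
        | one => simp [Commute, SemiconjBy]
        | mul u v _ _ iu iv => rw [map_mul]; exact ⟨iu.1.mul_left iv.1, iu.2.mul_left iv.2⟩
        | inv u _ iu => rw [map_inv]; exact ⟨iu.1.inv_left, iu.2.inv_left⟩
      have hq : q ∈ closure {x, y} := hgen.ge (mem_top q)
      induction hq using closure_induction with
      | mem u hu => rcases hu with rfl | rfl; exacts [(hp p).1.eq, (hp p).2.eq]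
      | one => simp
      | mul u v _ _ iu iv =>
        rw [map_mul]; exact (Commute.mul_right iu iv).eq
      | inv u _ iu => rw [map_inv]; exact (Commute.inv_right iu).eq
    obtain ⟨k, hk'⟩ := mem_zpowers_iff.1 (hcomm hn'mem.1)
    have hmem : n' ^ (b * k - 1) ∈ zpowers x := by
      rw [hc, ((Commute.zpow_right (hcen (x ^ (a - 1))) b)).mul_zpow, ← zpow_mul, ← zpow_mul] at hk'
      refine mem_zpowers_iff.2 ⟨-((a - 1) * k), ?_⟩
      rw [zpow_neg, inv_eq_iff_mul_eq_one, zpow_sub, zpow_one, ← mul_assoc, hk', mul_inv_cancel]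
    have h2n : orderOf n' = 2 := orderOf_eq_prime (by rw [pow_two]; exact hn'sq) hn'ne
    have hpar : ∀ t : ℤ, n' ^ t = 1 ∨ n' ^ t = n' := by
      intro t
      rcases Int.even_or_odd' t with ⟨s, rfl | rfl⟩
      · exact Or.inl (by rw [zpow_mul, zpow_two, hn'sq, one_zpow])
      · exact Or.inr (by rw [zpow_add, zpow_mul, zpow_two, hn'sq, one_zpow, one_mul, zpow_one])
    have hbk : n' ^ (b * k) = n' := by
      rcases hpar (b * k - 1) with e | e
      · rw [show b * k = b * k - 1 + 1 by ring, zpow_add, e, one_mul, zpow_one]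
      · rw [e] at hmem; exact absurd hmem hnx
    have hodd : (∃ s, k = 2 * s + 1) ∧ ∃ s, b = 2 * s + 1 := by
      constructor
      · rcases Int.even_or_odd' k with ⟨s, hs | hs⟩
        · exfalso
          rw [hs, show b * (2 * s) = 2 * (b * s) by ring, zpow_mul, zpow_two, hn'sq, one_zpow] at hbk
          exact hn'ne hbk.symm
        · exact ⟨s, hs⟩
      · rcases Int.even_or_odd' b with ⟨s, hs | hs⟩
        · exfalso
          rw [hs, show 2 * s * k = 2 * (s * k) by ring, zpow_mul, zpow_two, hn'sq, one_zpow] at hbk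
          exact hn'ne hbk.symm
        · exact ⟨s, hs⟩
    obtain ⟨⟨s, hs⟩, ⟨t, ht⟩⟩ := hodd
    have hnb : n' ^ b = n' := by
      rw [ht, zpow_add, zpow_mul, zpow_two, hn'sq, one_zpow, one_mul, zpow_one]
    have hxa : x ^ (a - 1) = 1 := by
      rw [hc, ((Commute.zpow_right (hcen (x ^ (a - 1))) b)).mul_zpow, ← zpow_mul n', hbk,
        mul_eq_right] at hk'
      obtain ⟨e, he⟩ := IsPGroup.iff_orderOf.1 h2 (x ^ (a - 1))
      obtain ⟨r, hr'⟩ := exists_pow_eq_self_of_coprime (x := x ^ (a - 1)) (n := k.natAbs) (by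
        refine Nat.Coprime.symm ?_
        rw [he]
        exact Nat.Coprime.pow_left _ (Nat.coprime_two_left.2 (Int.natAbs_odd.2 ⟨s, hs⟩)))
      have h1 : (x ^ (a - 1)) ^ k.natAbs = 1 := by
        rcases Int.natAbs_eq k with he' | he'
        · rw [← zpow_natCast, ← he']; exact hk'
        · rw [he', zpow_neg, zpow_natCast, inv_eq_one] at hk'; exact hk'
      rw [← hr', h1, one_pow]
    have hGen : Gen x y n' := ⟨hgen, by
      rw [hcx, hc, hxa, hnb, one_mul, mul_assoc x, ← hcen y, ← mul_assoc], hcen, hn'sq, hn'ne⟩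
    obtain ⟨w, u, hwu, hw⟩ := hGen.exists_good (IsPGroup.iff_orderOf.1 h2) hr
    refine of_gens w u hwu fun g => ?_
    have hGn : commutator G ≤ zpowers n' := by
      refine hcomm.trans (zpowers_le.2 ?_)
      rw [hc, hxa, hnb, one_mul]; exact mem_zpowers n'
    have := zpowers_le.2 hw (hGn (commutator_mem_commutator (mem_top g) (mem_top w)))
    rw [commutatorElement_def] at this
    simpa using mul_mem this (mem_zpowers w)

end Cfsg.Agent.Lib.MetacyclicTwoRank76
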