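import Mathlib
import Cfsg.Agent.Lib.PGroups.UniqueInvolution
import Cfsg.Agent.Lib.PGroups.Frattini
import Cfsg.Agent.Lib.PGroups.Omega
import Cfsg.Agent.Lib.SylowInter.Basic
import Cfsg.Agent.Lib.FpfLinear.Perfect
import Cfsg.Agent.Lib.TwoGroups.OddAut
import Cfsg.Agent.Lib.Resistant67.Basic
import Cfsg.Agent.Lib.Extraspecial.Basic

/-!
2-groups with an odd group of automorphisms whose proper invariant subgroups contain no non-cyclic
abelian subgroup of order eight.
-/

set_option autoImplicit false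
set_option linter.style.haveILetI false

namespace Cfsg.Agent.Lib.MinFree76

open Cfsg Cfsg.Agent.Lib.PGroups
open scoped commutatorElement

variable {X : Type*} [Group X]

/-- No non-cyclic abelian subgroup of order eight. -/
def IsFree (W : Subgroup X) : Prop :=
  ¬ ∃ A : Subgroup X, A ≤ W ∧ IsMulCommutative A ∧ ¬ IsCyclic A ∧ Nat.card A = 8

theorem isCyclic_two_involutions {A : Type*} [Group A] [Finite A] [IsCyclic A] {u v : A}
    (hu : u * u = 1) (hv : v * v = 1) (hu1 : u ≠ 1) (hv1 : v ≠ 1) : u = v := by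
  classical
  by_contra huv
  haveI := Fintype.ofFinite A
  have h := IsCyclic.card_pow_eq_one_le (α := A) (n := 2) two_pos
  have hsub : ({1, u, v} : Finset A) ⊆ Finset.univ.filter (fun a : A => a ^ 2 = 1) := by
    intro a ha
    simp only [Finset.mem_insert, Finset.mem_singleton] at ha
    rcases ha with rfl | rfl | rfl <;> simp [sq, hu, hv]
  have h3 : ({1, u, v} : Finset A).card = 3 := by
    simp [Ne.symm hu1, Ne.symm hv1, huv]
  have := Finset.card_le_card hsub
  omega

/-- In a free subgroup the common centralizer of two commuting involutions is the four-group. -/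
theorem four_of_free [Finite X] (hX : IsPGroup 2 X) {W : Subgroup X} (hW : IsFree W) {u v w : X}
    (huW : u ∈ W) (hvW : v ∈ W) (hwW : w ∈ W) (hu : u * u = 1) (hv : v * v = 1) (hu1 : u ≠ 1)
    (hv1 : v ≠ 1) (huv : u ≠ v) (hc : u * v = v * u) (huw : u * w = w * u) (hvw : v * w = w * v) :
    w = 1 ∨ w = u ∨ w = v ∨ w = u * v := by
  classical
  by_contra! hw
  obtain ⟨hw1, hwu, hwv, hwuv⟩ := hw
  haveI : Fact (Nat.Prime 2) := ⟨Nat.prime_two⟩
  set B := Subgroup.closure ({u, v, w} : Set X)
  have hBW : B ≤ W := by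
    rw [Subgroup.closure_le]
    rintro a (rfl | rfl | rfl) <;> assumption
  have hBc : IsMulCommutative B := by
    refine Subgroup.isMulCommutative_closure ?_
    rintro a (rfl | rfl | rfl) b (rfl | rfl | rfl)
    exacts [rfl, hc, huw, hc.symm, rfl, hvw, huw.symm, hvw.symm, rfl]
  let E : Subgroup X :=
    { carrier := {a | a = 1 ∨ a = u ∨ a = v ∨ a = u * v}
      one_mem' := Or.inl rfl
      mul_mem' := fun {a b} ha hb => by
        have e1 : u * (u * v) = v := by rw [← mul_assoc, hu, one_mul]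
        have e2 : v * (u * v) = u := by rw [hc, ← mul_assoc, hv, one_mul]
        have e3 : u * v * u = v := by rw [hc, mul_assoc, hu, mul_one]
        have e4 : u * v * v = u := by rw [mul_assoc, hv, mul_one]
        have e5 : u * v * (u * v) = 1 := by rw [mul_assoc, e2, hu]
        rcases ha with rfl | rfl | rfl | rfl <;> rcases hb with rfl | rfl | rfl | rfl <;>
          simp [hu, hv, e1, e2, e3, e4, e5, ← hc]
      inv_mem' := fun {a} ha => by
        rcases ha with rfl | rfl | rfl | rfl
        · exact Or.inl inv_one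
        · exact Or.inr (Or.inl (inv_eq_of_mul_eq_one_right hu))
        · exact Or.inr (Or.inr (Or.inl (inv_eq_of_mul_eq_one_right hv)))
        · refine Or.inr (Or.inr (Or.inr (inv_eq_of_mul_eq_one_right ?_)))
          rw [mul_assoc, ← mul_assoc v, ← hc, mul_assoc u, hv, mul_one, hu] }
  have hEB : E ≤ B := by
    rintro a (rfl | rfl | rfl | rfl)
    · exact one_mem _
    · exact Subgroup.subset_closure (by simp)
    · exact Subgroup.subset_closure (by simp)
    · exact mul_mem (Subgroup.subset_closure (by simp)) (Subgroup.subset_closure (by simp))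
  have huv1 : u * v ≠ 1 := fun h => huv ((eq_inv_of_mul_eq_one_left h).trans (inv_eq_of_mul_eq_one_right hv))
  have huvu : u * v ≠ u := fun h => hv1 (mul_left_cancel (h.trans (mul_one u).symm))
  have huvv : u * v ≠ v := fun h => hu1 (mul_right_cancel (h.trans (one_mul v).symm))
  have hB5 : 5 ≤ Nat.card B := by
    have hs : ({1, u, v, u * v, w} : Set X) ⊆ (B : Set X) := by
      rintro a (rfl | rfl | rfl | rfl | rfl)
      · exact one_mem _
      · exact Subgroup.subset_closure (by simp)
      · exact Subgroup.subset_closure (by simp)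
      · exact mul_mem (Subgroup.subset_closure (by simp)) (Subgroup.subset_closure (by simp))
      · exact Subgroup.subset_closure (by simp)
    have h5 : ({1, u, v, u * v, w} : Set X).ncard = 5 := by
      rw [Set.ncard_insert_of_notMem (by simp [Ne.symm hu1, Ne.symm hv1, Ne.symm huv1, Ne.symm hw1]),
        Set.ncard_insert_of_notMem (by simp [huv, Ne.symm huvu, Ne.symm hwu]),
        Set.ncard_insert_of_notMem (by simp [Ne.symm huvv, Ne.symm hwv]),
        Set.ncard_pair (Ne.symm hwuv)]
    rw [← h5]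
    exact (Set.ncard_le_ncard hs (Set.toFinite _)).trans_eq (Nat.card_coe_set_eq (B : Set X)).symm
  obtain ⟨m, hm⟩ := IsPGroup.iff_card.1 (hX.to_subgroup B)
  have hm3 : 3 ≤ m := by
    by_contra h
    have : 2 ^ m ≤ 2 ^ 2 := Nat.pow_le_pow_right two_pos (by omega)
    omega
  have hE4 : Nat.card (E.subgroupOf B) = 2 ^ 2 := by
    rw [Nat.card_congr (Subgroup.subgroupOfEquivOfLe hEB).toEquiv]
    show Nat.card ({a | a = 1 ∨ a = u ∨ a = v ∨ a = u * v} : Set X) = 4
    rw [Nat.card_coe_set_eq, show {a | a = 1 ∨ a = u ∨ a = v ∨ a = u * v} = ({1, u, v, u * v} : Set X) by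
        ext; simp,
      Set.ncard_insert_of_notMem (by simp [Ne.symm hu1, Ne.symm hv1, Ne.symm huv1]),
      Set.ncard_insert_of_notMem (by simp [huv, Ne.symm huvu]),
      Set.ncard_pair (Ne.symm huvv)]
  obtain ⟨K, hK, hEK⟩ := Sylow.exists_subgroup_card_pow_prime_le 2 (G := B) (n := 2) (m := 3)
    (hm ▸ pow_dvd_pow 2 hm3) (E.subgroupOf B) hE4 (by norm_num)
  refine hW ⟨K.map B.subtype, (Subgroup.map_subtype_le K).trans hBW, ?_, ?_, ?_⟩
  · refine ⟨⟨?_⟩⟩
    rintro ⟨_, a, ha, rfl⟩ ⟨_, b, hb, rfl⟩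
    exact Subtype.ext (congrArg Subtype.val (hBc.is_comm.comm a b) : _)
  · intro hcyc
    have hmem : ∀ a ∈ E, a ∈ K.map B.subtype := fun a ha =>
      ⟨⟨a, hEB ha⟩, hEK (Subgroup.mem_subgroupOf.2 ha), rfl⟩
    have := isCyclic_two_involutions (A := K.map B.subtype) (u := ⟨u, hmem u (Or.inr (Or.inl rfl))⟩)
      (v := ⟨v, hmem v (Or.inr (Or.inr (Or.inl rfl)))⟩) (Subtype.ext hu) (Subtype.ext hv)
      (fun h => hu1 (congrArg Subtype.val h)) (fun h => hv1 (congrArg Subtype.val h))
    exact huv (congrArg Subtype.val this)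
  · rw [Subgroup.card_map_of_injective (Subgroup.subtype_injective _), hK]; norm_num

theorem exists_central_involution [Finite X] (hX : IsPGroup 2 X) (N : Subgroup X) [N.Normal]
    (hN : N ≠ ⊥) : ∃ z ∈ N, z * z = 1 ∧ z ≠ 1 ∧ ∀ g, g * z = z * g := by
  haveI : Fact (Nat.Prime 2) := ⟨Nat.prime_two⟩
  obtain ⟨Z, hZN, hZc, -, hZ⟩ := exists_central_card_prime hX N hN
  obtain ⟨c, hc⟩ := exists_prime_orderOf_dvd_card' 2 (G := Z) hZ.symm.dvd
  refine ⟨c, hZN c.2, ?_, ?_, fun g => Subgroup.mem_center_iff.1 (hZc c.2) g⟩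
  · have h := congrArg Subtype.val (pow_orderOf_eq_one c)
    rw [hc, sq] at h
    exact h
  · intro h
    rw [← Subgroup.orderOf_coe, h, orderOf_one] at hc
    omega

theorem isPGroup_quotient_trick [Finite X] (hX : IsPGroup 2 X) {D : Subgroup X} [D.Normal]
    (hD : D ≤ frattini X) (h2 : D.index ≤ 2) : IsCyclic X := by
  haveI : Fact (Nat.Prime 2) := ⟨Nat.prime_two⟩
  haveI : IsCyclic (X ⧸ D) := by
    rcases Nat.lt_or_ge D.index 2 with h | h
    · haveI : Subsingleton (X ⧸ D) := by
        rw [← Finite.card_le_one_iff_subsingleton, ← Subgroup.index_eq_card]; omega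
      infer_instance
    · exact isCyclic_of_prime_card (p := 2) (by rw [← Subgroup.index_eq_card]; omega)
  exact isCyclic_of_quotient_le_frattini D hD

/-- A free 2-group with a non-trivial automorphism of odd order is a four-group or `Q₈`. -/
theorem free_cases [Finite X] (hX : IsPGroup 2 X) (hfree : IsFree (⊤ : Subgroup X)) (φ : MulAut X)
    (hodd : Odd (orderOf φ)) (h1 : φ ≠ 1) :
    (Nat.card X = 4 ∧ ∀ x : X, x * x = 1) ∨ Nonempty (X ≃* QuaternionGroup 2) := by
  classical
  haveI : Fact (Nat.Prime 2) := ⟨Nat.prime_two⟩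
  have hnotp : ¬ IsPGroup 2 (MulAut X) := by
    intro hA
    obtain ⟨k, hk⟩ := IsPGroup.iff_orderOf.1 hA φ
    rw [hk] at hodd
    rcases k with _ | k
    · exact h1 (orderOf_eq_one_iff.1 (by simpa using hk))
    · rw [pow_succ] at hodd
      exact Nat.not_even_iff_odd.2 hodd ⟨2 ^ k, by ring⟩
  have hne : Nontrivial X := by
    by_contra h
    rw [not_nontrivial_iff_subsingleton] at h
    exact h1 (MulEquiv.ext fun x => Subsingleton.elim _ _)
  obtain ⟨z, -, hz, hz1, hzc⟩ := exists_central_involution hX (⊤ : Subgroup X) top_ne_bot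
  by_cases huniq : ∀ u : X, u * u = 1 → u = 1 ∨ u = z
  · have hu : ∀ x y : X, orderOf x = 2 → orderOf y = 2 → y ∈ Subgroup.zpowers x := by
      intro x y hx hy
      have key : ∀ a : X, orderOf a = 2 → a = z := by
        intro a ha
        rcases huniq a (by rw [← sq, ← ha]; exact pow_orderOf_eq_one a) with h | h
        · rw [h, orderOf_one] at ha; omega
        · exact h
      rw [key x hx, key y hy]; exact Subgroup.mem_zpowers z
    rcases isCyclic_or_quaternion hX hu with hc | ⟨-, n, hn, ⟨e⟩⟩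
    · exact absurd (SylowInter.Basic.isPGroup_mulAut_of_cyclic hX) hnotp
    · rcases eq_or_lt_of_le hn with rfl | hn2
      · exact Or.inr ⟨e⟩
      · haveI : NeZero (2 ^ n) := ⟨(pow_pos two_pos n).ne'⟩
        have hA : IsPGroup 2 (MulAut (QuaternionGroup (2 ^ n))) :=
          TwoGroups.OddAut.isPGroup_mulAut fun ψ hψ => FpfLinear.Perfect.quaternion_aut_big rfl
            (Nat.pow_le_pow_right (n := 2) (by norm_num) hn2) ψ (pow_orderOf_eq_one ψ)
            hψ.not_two_dvd_nat
        exact absurd (hA.of_equiv (MulAut.congr e).symm) hnotp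
  push Not at huniq
  obtain ⟨u, hu, hu1, huz⟩ := huniq
  have hfour : ∀ a : X, a * a = 1 → a ≠ 1 → a ≠ z → ∀ w, a * w = w * a →
      w = 1 ∨ w = a ∨ w = z ∨ w = a * z := fun a ha ha1 haz w hw =>
    four_of_free hX hfree (Subgroup.mem_top a) (Subgroup.mem_top z) (Subgroup.mem_top w) ha hz ha1
      hz1 haz (hzc a) hw (hzc w).symm
  by_cases hucen : ∀ g, g * u = u * g
  · refine Or.inl ⟨?_, ?_⟩
    · have hs : (Set.univ : Set X) = {1, u, z, u * z} := by
        ext w
        simp only [Set.mem_univ, Set.mem_insert_iff, Set.mem_singleton_iff, true_iff]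
        exact hfour u hu hu1 huz w (hucen w).symm
      rw [← Set.ncard_univ, hs]
      have e1 : u * z ≠ 1 := fun h => huz ((eq_inv_of_mul_eq_one_left h).trans (inv_eq_of_mul_eq_one_right hz))
      have e2 : u * z ≠ u := fun h => hz1 (mul_left_cancel (h.trans (mul_one u).symm))
      have e3 : u * z ≠ z := fun h => hu1 (mul_right_cancel (h.trans (one_mul z).symm))
      rw [Set.ncard_insert_of_notMem (by simp [Ne.symm hu1, Ne.symm hz1, Ne.symm e1]),
        Set.ncard_insert_of_notMem (by simp [huz, Ne.symm e2]),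
        Set.ncard_pair (Ne.symm e3)]
    · intro w
      rcases hfour u hu hu1 huz w (hucen w).symm with rfl | rfl | rfl | rfl
      · exact one_mul 1
      · exact hu
      · exact hz
      · rw [mul_assoc, ← mul_assoc z, ← hzc u, mul_assoc u, hz, mul_one, hu]
  exfalso
  set D := commutator X with hDdef
  haveI hDn : D.Normal := by rw [hDdef]; infer_instance
  have hDF : D ≤ frattini X := commutator_le_frattini hX
  have hnc : ¬ IsCyclic X := fun h => huz (isCyclic_two_involutions hu hz hu1 hz1)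
  have hidx : 4 ≤ D.index := by
    by_contra h
    obtain ⟨k, hk⟩ := IsPGroup.iff_card.1 (hX.to_quotient D)
    rw [← Subgroup.index_eq_card] at hk
    refine hnc (isPGroup_quotient_trick hX hDF ?_)
    rcases k with _ | _ | k
    · omega
    · omega
    · have : 2 ^ 2 ≤ 2 ^ (k + 2) := Nat.pow_le_pow_right two_pos (by omega)
      omega
  -- the conjugates of `u` fill its coset modulo `D`
  let cl : Set X := Set.range fun g : X => g * u * g⁻¹
  let coset : Set X := {x | u⁻¹ * x ∈ D}
  have hsub : cl ⊆ coset := by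
    rintro _ ⟨g, rfl⟩
    show u⁻¹ * (g * u * g⁻¹) ∈ D
    rw [show u⁻¹ * (g * u * g⁻¹) = ⁅u⁻¹, g⁆ by rw [commutatorElement_def]; group]
    exact Subgroup.commutator_mem_commutator (Subgroup.mem_top _) (Subgroup.mem_top _)
  have hcoset : coset.ncard = Nat.card D := by
    rw [← Nat.card_coe_set_eq]
    exact Nat.card_congr
      { toFun := fun x => ⟨u⁻¹ * x.1, x.2⟩
        invFun := fun d => ⟨u * d.1, by show u⁻¹ * (u * d.1) ∈ D; rw [inv_mul_cancel_left]; exact d.2⟩
        left_inv := fun x => Subtype.ext (mul_inv_cancel_left u x.1)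
        right_inv := fun d => Subtype.ext (inv_mul_cancel_left u d.1) }
  have hclc : Nat.card X ≤ 4 * cl.ncard := by
    haveI := Fintype.ofFinite X
    rw [← Nat.card_coe_set_eq, Nat.card_eq_fintype_card, Nat.card_eq_fintype_card]
    have key : ∀ b ∈ (Finset.univ : Finset cl),
        ((Finset.univ : Finset X).filter fun g => (⟨g * u * g⁻¹, g, rfl⟩ : cl) = b).card ≤ 4 := by
      rintro ⟨_, g₀, rfl⟩ -
      refine le_trans (Finset.card_le_card (t := ({g₀, g₀ * u, g₀ * z, g₀ * (u * z)} : Finset X)) ?_)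
        Finset.card_le_four
      intro g hg
      have hg := congrArg Subtype.val (Finset.mem_filter.1 hg).2
      replace hg : g * u * g⁻¹ = g₀ * u * g₀⁻¹ := hg
      have hw : u * (g₀⁻¹ * g) = g₀⁻¹ * g * u := by
        calc u * (g₀⁻¹ * g) = g₀⁻¹ * (g₀ * u * g₀⁻¹) * g := by group
          _ = g₀⁻¹ * (g * u * g⁻¹) * g := by rw [hg]
          _ = g₀⁻¹ * g * u := by group
      simp only [Finset.mem_insert, Finset.mem_singleton]
      rcases hfour u hu hu1 huz _ hw with h | h | h | h
      · exact Or.inl (inv_mul_eq_one.1 h).symm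
      · exact Or.inr (Or.inl (inv_mul_eq_iff_eq_mul.1 h))
      · exact Or.inr (Or.inr (Or.inl (inv_mul_eq_iff_eq_mul.1 h)))
      · exact Or.inr (Or.inr (Or.inr (inv_mul_eq_iff_eq_mul.1 h)))
    have := Finset.card_le_mul_card_image_of_maps_to (s := (Finset.univ : Finset X))
      (t := (Finset.univ : Finset cl)) (f := fun g => (⟨g * u * g⁻¹, g, rfl⟩ : cl))
      (fun _ _ => Finset.mem_univ _) 4 key
    simpa using this
  have hcardX := D.card_mul_index
  have hDpos : 0 < Nat.card D := Nat.card_pos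
  have hle := Set.ncard_le_ncard hsub (Set.toFinite _)
  have hidx4 : D.index = 4 := by nlinarith
  have heq : cl = coset := Set.eq_of_subset_of_ncard_le hsub (by nlinarith) (Set.toFinite _)
  have hcl2 : ∀ x ∈ coset, x * x = 1 := by
    rw [← heq]
    rintro _ ⟨g, rfl⟩
    show g * u * g⁻¹ * (g * u * g⁻¹) = 1
    rw [show g * u * g⁻¹ * (g * u * g⁻¹) = g * (u * u) * g⁻¹ by group, hu, mul_one, mul_inv_cancel]
  have huD : u ∉ D := by
    intro h
    have : (1 : X) ∈ coset := by
      show u⁻¹ * 1 ∈ D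
      rw [mul_one]; exact inv_mem h
    rw [← heq] at this
    obtain ⟨g, hg⟩ := this
    exact hu1 (conj_eq_one_iff.1 hg)
  have hinvD : ∀ q ∈ D, u * q * u⁻¹ = q⁻¹ := by
    intro q hq
    have h := hcl2 (u * q) (by show u⁻¹ * (u * q) ∈ D; rwa [inv_mul_cancel_left])
    rw [inv_eq_of_mul_eq_one_right hu]
    exact eq_inv_of_mul_eq_one_left (by simpa only [mul_assoc] using h)
  -- the automorphism moves the coset of `u`
  have hφD : ∀ (ψ : MulAut X) (q : X), q ∈ D → ψ q ∈ D := by
    intro ψ q hq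
    haveI : D.Characteristic := by rw [hDdef]; infer_instance
    exact (SetLike.ext_iff.1 (Subgroup.Characteristic.fixed ‹_› ψ) q).2 hq
  have hmove : ∀ ψ : MulAut X, Odd (orderOf ψ) → u⁻¹ * ψ u ∈ D → ψ = 1 := by
    intro ψ hψ hψu
    have hQ : ∀ a b : X ⧸ D, a ≠ 1 → a ≠ (u : X ⧸ D) → b ≠ 1 → b ≠ (u : X ⧸ D) →
        b = a ∨ b = a * (u : X ⧸ D) := by
      intro a b ha hau hb hbu
      by_contra! h
      haveI := Fintype.ofFinite (X ⧸ D)
      have hu' : (u : X ⧸ D) ≠ 1 := fun h => huD ((QuotientGroup.eq_one_iff u).1 h)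
      have e1 : a * (u : X ⧸ D) ≠ a := fun h => hu' (mul_left_cancel (h.trans (mul_one a).symm))
      have e2 : a * (u : X ⧸ D) ≠ (u : X ⧸ D) := fun h => ha (mul_right_cancel (h.trans (one_mul _).symm))
      have e3 : a * (u : X ⧸ D) ≠ 1 := by
        intro h
        apply hau
        rw [eq_inv_of_mul_eq_one_left h, ← QuotientGroup.mk_inv, inv_eq_of_mul_eq_one_right hu]
      have h5 : ({1, (u : X ⧸ D), a, a * (u : X ⧸ D), b} : Finset (X ⧸ D)).card = 5 := by
        simp [Ne.symm hu', Ne.symm ha, Ne.symm e3, Ne.symm hb, Ne.symm hau, Ne.symm e2,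
          Ne.symm hbu, Ne.symm e1, Ne.symm h.1, Ne.symm h.2]
      have h4 := Finset.card_le_univ ({1, (u : X ⧸ D), a, a * (u : X ⧸ D), b} : Finset (X ⧸ D))
      rw [h5, ← Nat.card_eq_fintype_card, ← Subgroup.index_eq_card, hidx4] at h4
      omega
    let m : X →* X ⧸ D := QuotientGroup.mk' D
    have hm : ∀ x, m x = 1 ↔ x ∈ D := fun x => QuotientGroup.eq_one_iff x
    have hmu : m (ψ u) = m u := (QuotientGroup.eq.2 hψu).symm
    have hstep : ∀ x, m (ψ x) = m x ∨ (m (ψ x) = m x * m u) := by
      intro x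
      by_cases h0 : m x = 1
      · exact Or.inl (((hm _).2 (hφD ψ x ((hm _).1 h0))).trans h0.symm)
      by_cases h1 : m x = m u
      · left
        rw [h1, ← hmu]
        have : u⁻¹ * x ∈ D := QuotientGroup.eq.1 h1.symm
        refine (QuotientGroup.eq.2 ?_).symm
        rw [← map_inv, ← map_mul]
        exact hφD ψ _ this
      refine hQ (m x) (m (ψ x)) h0 h1 (fun h => h0 ?_) (fun h => h1 ?_)
      · rw [hm] at h ⊢
        have := hφD ψ⁻¹ _ h
        rwa [← MulAut.mul_apply, inv_mul_cancel, MulAut.one_apply] at this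
      · have h' : (ψ u)⁻¹ * ψ x ∈ D := QuotientGroup.eq.1 (hmu.trans h.symm)
        rw [← map_inv, ← map_mul] at h'
        have := hφD ψ⁻¹ _ h'
        rw [← MulAut.mul_apply, inv_mul_cancel, MulAut.one_apply] at this
        exact (QuotientGroup.eq.2 this).symm
    have hsq : ψ ^ 2 = 1 := by
      refine Resistant67.eq_one_of_trivial_frattini hX ?_ fun x => hDF (QuotientGroup.eq.1 ?_)
      · rw [Nat.coprime_two_right]
        exact Odd.of_dvd_nat hψ (orderOf_pow_dvd 2)
      · rw [sq, MulAut.mul_apply]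
        show m x = m (ψ (ψ x))
        have hlift : ∀ a b, m a = m b * m u → m (ψ a) = m (ψ b) * m u := by
          intro a b hab
          have h' : (b * u)⁻¹ * a ∈ D := QuotientGroup.eq.1 (by
            show m (b * u) = m a
            rw [map_mul]; exact hab.symm)
          have := hφD ψ _ h'
          rw [map_mul, map_inv, map_mul] at this
          have h2 : m (ψ b * ψ u) = m (ψ a) := QuotientGroup.eq.2 this
          rw [← h2, map_mul, hmu]
        rcases hstep x with h | h
        · have h' : x⁻¹ * ψ x ∈ D := QuotientGroup.eq.1 h.symm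
          have := hφD ψ _ h'
          rw [map_mul, map_inv] at this
          exact h.symm.trans (QuotientGroup.eq.2 this)
        · rcases hstep (ψ x) with h2 | h2
          · have h3 := h2.symm.trans (hlift _ _ h)
            exact absurd ((hm u).1 (mul_left_cancel (h3.symm.trans (mul_one _).symm))) huD
          · rw [h2, h, mul_assoc, ← map_mul, hu, map_one, mul_one]
    have h2 := orderOf_dvd_of_pow_eq_one hsq
    exact orderOf_eq_one_iff.1 (Nat.eq_one_of_dvd_coprimes (Nat.coprime_two_right.2 hψ) dvd_rfl h2)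
  set v := φ u
  set w := φ v
  have hinvφ : ∀ a : X, (∀ q ∈ D, a * q * a⁻¹ = q⁻¹) → ∀ q ∈ D, φ a * q * (φ a)⁻¹ = q⁻¹ := by
    intro a ha q hq
    have h := congrArg φ (ha (φ⁻¹ q) (hφD _ _ hq))
    simpa only [map_mul, map_inv, MulAut.apply_inv_self] using h
  have hv1 : v ∉ D := by
    intro h
    have := hφD φ⁻¹ _ h
    rw [MulAut.inv_apply_self] at this
    exact huD this
  have hvu : u⁻¹ * v ∉ D := fun h => h1 (hmove φ hodd h)
  have hwu : u⁻¹ * w ∉ D := by
    intro h
    have := hmove (φ ^ 2) (Odd.of_dvd_nat hodd (orderOf_pow_dvd 2)) (by rw [sq]; exact h)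
    have h2 := orderOf_dvd_of_pow_eq_one this
    exact h1 (orderOf_eq_one_iff.1 (Nat.eq_one_of_dvd_coprimes (Nat.coprime_two_right.2 hodd) dvd_rfl h2))
  have hw1 : w ∉ D := by
    intro h
    have := hφD φ⁻¹ _ h
    rw [MulAut.inv_apply_self] at this
    exact hv1 this
  have hwv : v⁻¹ * w ∉ D := by
    intro h
    have := hφD φ⁻¹ _ h
    rw [map_mul, map_inv, MulAut.inv_apply_self, MulAut.inv_apply_self] at this
    exact hvu this
  have hwuv : (u * v)⁻¹ * w ∈ D := by
    let m : X →* X ⧸ D := QuotientGroup.mk' D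
    haveI := Fintype.ofFinite (X ⧸ D)
    refine QuotientGroup.eq.1 (?_ : m (u * v) = m w)
    by_contra h
    have a1 : m u ≠ 1 := fun e => huD ((QuotientGroup.eq_one_iff u).1 e)
    have a2 : m v ≠ 1 := fun e => hv1 ((QuotientGroup.eq_one_iff v).1 e)
    have a3 : m w ≠ 1 := fun e => hw1 ((QuotientGroup.eq_one_iff w).1 e)
    have b1 : m u ≠ m v := fun e => hvu (QuotientGroup.eq.1 e)
    have b2 : m u ≠ m w := fun e => hwu (QuotientGroup.eq.1 e)
    have b3 : m v ≠ m w := fun e => hwv (QuotientGroup.eq.1 e)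
    have c1 : m (u * v) ≠ 1 := by
      rw [map_mul]
      intro e
      apply b1
      rw [eq_inv_of_mul_eq_one_right e, ← map_inv, inv_eq_of_mul_eq_one_right hu]
    have c2 : m (u * v) ≠ m u := by
      rw [map_mul]; intro e; exact a2 (mul_left_cancel (e.trans (mul_one _).symm))
    have c3 : m (u * v) ≠ m v := by
      rw [map_mul]; intro e; exact a1 (mul_right_cancel (e.trans (one_mul _).symm))
    have h5 : ({1, m u, m v, m (u * v), m w} : Finset (X ⧸ D)).card = 5 := by
      simp [Ne.symm a1, Ne.symm a2, Ne.symm a3, b1, b2, b3, Ne.symm c1, Ne.symm c2, Ne.symm c3, h,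
        -map_mul]
    have h4 := Finset.card_le_univ ({1, m u, m v, m (u * v), m w} : Finset (X ⧸ D))
    rw [h5, ← Nat.card_eq_fintype_card, ← Subgroup.index_eq_card, hidx4] at h4
    omega
  obtain ⟨d, hd, hwuv⟩ : ∃ d, w = u * v * d ∧ d ∈ D := ⟨_, (mul_inv_cancel_left _ _).symm, hwuv⟩
  have hiv := hinvφ u hinvD
  have hiw := hinvφ v hiv
  have hDsq : ∀ q ∈ D, q * q = 1 := by
    intro q hq
    have hdc : d * q * d⁻¹ = q := by
      have h1 := hinvD q hq
      have h2 := hinvD d hwuv
      have hcomm : u * (d * q) * u⁻¹ = (d * q)⁻¹ := hinvD _ (mul_mem hwuv hq)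
      rw [show u * (d * q) * u⁻¹ = (u * d * u⁻¹) * (u * q * u⁻¹) by group, h1, h2, mul_inv_rev] at hcomm
      have := congrArg (fun y => y⁻¹) hcomm
      simp only [mul_inv_rev, inv_inv] at this
      rw [← this, mul_inv_cancel_right]
    have h := hiw q hq
    change w * q * w⁻¹ = q⁻¹ at h
    rw [hd,
      show u * v * d * q * (u * v * d)⁻¹ = u * (v * (d * q * d⁻¹) * v⁻¹) * u⁻¹ by group, hdc, hiv q hq,
      show u * q⁻¹ * u⁻¹ = (u * q * u⁻¹)⁻¹ by group, hinvD q hq, inv_inv] at h
    exact mul_eq_one_iff_eq_inv.2 h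
  have hucent : ∀ q ∈ D, u * q = q * u := by
    intro q hq
    have := hinvD q hq
    rw [inv_eq_of_mul_eq_one_right (hDsq q hq)] at this
    exact mul_inv_eq_iff_eq_mul.1 this
  have hD1 : D ≠ ⊥ := by
    intro h
    exact hucen fun g => by
      have := Subgroup.commutator_mem_commutator (Subgroup.mem_top g) (Subgroup.mem_top u)
      change ⁅g, u⁆ ∈ D at this
      rw [h, Subgroup.mem_bot] at this
      exact commutatorElement_eq_one_iff_mul_comm.1 this
  obtain ⟨c, hcD, hc2, hc1, hcc⟩ := exists_central_involution hX D hD1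
  have hcz : c = z := by
    rcases hfour u hu hu1 huz c (hucent c hcD) with h | h | h | h
    · exact absurd h hc1
    · exact absurd (h ▸ hcD) huD
    · exact h
    · exfalso
      refine hucen fun g => ?_
      have hg := hcc g
      rw [h, ← mul_assoc, mul_assoc u z g, ← hzc g, ← mul_assoc] at hg
      exact mul_right_cancel hg
  have hDz : ∀ q ∈ D, q = 1 ∨ q = z := by
    intro q hq
    rcases hfour u hu hu1 huz q (hucent q hq) with h | h | h | h
    · exact Or.inl h
    · exact absurd (h ▸ hq) huD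
    · exact Or.inr h
    · refine absurd ?_ huD
      have := mul_mem (h ▸ hq) (hcz ▸ hcD : z ∈ D)
      rwa [mul_assoc, hz, mul_one] at this
  have hdc : ∀ g, g * d = d * g := by
    intro g
    rcases hDz d hwuv with h | h <;> rw [h]
    · simp
    · exact hzc g
  have hv2 : v * v = 1 := by rw [← map_mul, hu, map_one]
  have hw2 : w * w = 1 := by rw [← map_mul, hv2, map_one]
  have huv : u * v * (u * v) = 1 := by
    rw [hd] at hw2
    rw [show u * v * d * (u * v * d) = u * v * (d * (u * v)) * d by group, ← hdc (u * v),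
      show u * v * (u * v * d) * d = u * v * (u * v) * (d * d) by group, hDsq d hwuv, mul_one] at hw2
    exact hw2
  have hcomm : u * v = v * u := by
    calc u * v = (u * v)⁻¹ := (inv_eq_of_mul_eq_one_right huv).symm
      _ = v * u := by rw [mul_inv_rev, inv_eq_of_mul_eq_one_right hv2, inv_eq_of_mul_eq_one_right hu]
  rcases hfour u hu hu1 huz v hcomm with h | h | h | h
  · exact hv1 (h ▸ one_mem D)
  · exact hvu (by rw [h, inv_mul_cancel]; exact one_mem D)
  · exact hv1 (h.symm ▸ hcz ▸ hcD)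
  · exact hvu (by rw [h, inv_mul_cancel_left]; exact hcz ▸ hcD)

/-- An automorphism of odd order fixes an invariant cyclic 2-subgroup pointwise. -/
theorem fix_cyclic [Finite X] (hX : IsPGroup 2 X) (W : Subgroup X) [IsCyclic W] (φ : MulAut X)
    (hodd : Odd (orderOf φ)) (hinv : ∀ x ∈ W, φ x ∈ W) (hinv' : ∀ x ∈ W, φ⁻¹ x ∈ W) :
    ∀ x ∈ W, φ x = x := by
  haveI : Fact (Nat.Prime 2) := ⟨Nat.prime_two⟩
  let r : MulAut W :=
    { toFun := fun x => ⟨φ x.1, hinv _ x.2⟩
      invFun := fun x => ⟨φ⁻¹ x.1, hinv' _ x.2⟩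
      left_inv := fun x => Subtype.ext (MulAut.inv_apply_self X φ x.1)
      right_inv := fun x => Subtype.ext (MulAut.apply_inv_self X φ x.1)
      map_mul' := fun x y => Subtype.ext (map_mul φ x.1 y.1) }
  have hit : ∀ (n : ℕ) (x : W), (((r ^ n) x : W) : X) = (φ ^ n) x.1 := by
    intro n
    induction n with
    | zero => intro x; rfl
    | succ n ih =>
      intro x
      rw [pow_succ', pow_succ', MulAut.mul_apply, MulAut.mul_apply, ← ih x]
      rfl
  have hr : r ^ orderOf φ = 1 := MulEquiv.ext fun x => Subtype.ext (by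
    rw [hit, pow_orderOf_eq_one]; rfl)
  obtain ⟨k, hk⟩ := IsPGroup.iff_orderOf.1
    (SylowInter.Basic.isPGroup_mulAut_of_cyclic (hX.to_subgroup W)) r
  have h1 := orderOf_dvd_of_pow_eq_one hr
  rw [hk] at h1
  have hr1 : r = 1 := by
    rw [← orderOf_eq_one_iff, hk]
    exact Nat.eq_one_of_dvd_coprimes ((Nat.coprime_two_right.2 hodd).pow_right k) h1 dvd_rfl
  intro x hx
  exact congrArg (fun e : MulAut W => ((e ⟨x, hx⟩ : W) : X)) hr1

end Cfsg.Agent.Lib.MinFree76
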