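import Mathlib
import Cfsg.Agent.Lib.MinFree76

/-!
Classification of the 2-groups of `MinFree76`.
-/

set_option autoImplicit false
set_option linter.style.haveILetI false

namespace Cfsg.Agent.Lib.MinFreeClassify76

open Cfsg Cfsg.Agent.Lib.PGroups Cfsg.Agent.Lib.MinFree76
open scoped commutatorElement

theorem isFree_top_of {G : Type*} [Group G] {W : Subgroup G} (h : IsFree W) :
    IsFree (⊤ : Subgroup W) := by
  rintro ⟨A, -, hA, hAc, hA8⟩
  refine h ⟨A.map W.subtype, Subgroup.map_subtype_le A, ?_, ?_, ?_⟩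
  · refine ⟨⟨?_⟩⟩
    rintro ⟨_, a, ha, rfl⟩ ⟨_, b, hb, rfl⟩
    exact Subtype.ext (congrArg (fun x : A => ((x : W) : G)) (hA.is_comm.comm ⟨a, ha⟩ ⟨b, hb⟩) : _)
  · intro hc
    haveI := hc
    exact hAc (isCyclic_of_injective (A.equivMapOfInjective W.subtype W.subtype_injective).toMonoidHom
      (MulEquiv.injective _))
  · rw [Subgroup.card_map_of_injective W.subtype_injective, hA8]

theorem not_isFree_of {G : Type*} [Group G] {W : Subgroup G} {A : Subgroup G} (hAW : A ≤ W)
    (hA : IsMulCommutative A) (hc : ¬ IsCyclic A) (h8 : Nat.card A = 8) : ¬ IsFree W :=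
  fun h => h ⟨A, hAW, hA, hc, h8⟩

theorem mul_comm_of_mem_two {G : Type*} [Group G] (h : ∀ x : G, x * x = 1) (a b : G) : a * b = b * a := by
  calc a * b = (a * b)⁻¹ := (inv_eq_of_mul_eq_one_right (h (a * b))).symm
    _ = b * a := by rw [mul_inv_rev, inv_eq_of_mul_eq_one_right (h a), inv_eq_of_mul_eq_one_right (h b)]

variable {X : Type*} [Group X] [Finite X]

/-- An element commuting with an element of order four and squaring to `1` in a free subgroup. -/
theorem involution_eq (hX : IsPGroup 2 X) {W : Subgroup X} (hW : IsFree W) {z f y : X}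
    (hzW : z ∈ W) (hfW : f ∈ W) (hyW : y ∈ W) (hz : z * z = 1) (hz1 : z ≠ 1) (hf : f * f ≠ 1)
    (hy : y * y = 1) (hyf : y * f = f * y) (hzf : z * f = f * z) (hzy : z * y = y * z) :
    y = 1 ∨ y = z := by
  by_contra! h
  rcases four_of_free hX hW hzW hyW hfW hz hy hz1 h.1 (Ne.symm h.2) hzy hzf hyf with e | e | e | e
  · exact hf (by rw [e, one_mul])
  · exact hf (by rw [e]; exact hz)
  · exact hf (by rw [e]; exact hy)
  · exact hf (by rw [e, mul_assoc, ← mul_assoc y, ← hzy, mul_assoc z, hy, mul_one, hz])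

/-- The Frattini subgroup, when free, is cyclic or a four-group. -/
theorem frattini_cases (hX : IsPGroup 2 X) (h : IsFree (frattini X)) :
    IsCyclic (frattini X) ∨ (Nat.card (frattini X) = 4 ∧ ∀ x ∈ frattini X, x * x = 1) := by
  classical
  haveI : Fact (Nat.Prime 2) := ⟨Nat.prime_two⟩
  set Φ := frattini X
  haveI : Φ.Normal := by infer_instance
  by_cases hsmall : Nat.card Φ < 4
  · left
    obtain ⟨k, hk⟩ := IsPGroup.iff_card.1 (hX.to_subgroup Φ)
    rcases k with _ | _ | k
    · haveI : Subsingleton Φ := Finite.card_le_one_iff_subsingleton.1 (by rw [hk]; norm_num)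
      infer_instance
    · exact isCyclic_of_prime_card (p := 2) (by simpa using hk)
    · have : 2 ^ 2 ≤ 2 ^ (k + 1 + 1) := Nat.pow_le_pow_right two_pos (by omega)
      omega
  obtain ⟨A, hAn, hAΦ, hA4⟩ := exists_normal_le_card hX (k := 2) Φ (by omega)
  haveI := hAn
  have hA4' : Nat.card A = 4 := by rw [hA4]; norm_num
  -- `Φ` centralises `A`
  have hAne : A ≠ ⊥ := by
    intro e; rw [e, Subgroup.card_bot] at hA4'; omega
  obtain ⟨z, hzA, hz, hz1, hzc⟩ := exists_central_involution hX A hAne
  obtain ⟨a, haA, haz⟩ : ∃ a ∈ A, a ∉ Subgroup.zpowers z := by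
    by_contra! hall
    have := Subgroup.card_le_of_le (hall : A ≤ Subgroup.zpowers z)
    rw [Nat.card_zpowers, orderOf_eq_prime (by rw [sq]; exact hz) hz1] at this
    omega
  have ha1 : a ≠ 1 := fun e => haz (e ▸ one_mem _)
  have haz' : a ≠ z := fun e => haz (e ▸ Subgroup.mem_zpowers z)
  have hAset : ∀ b ∈ A, b = 1 ∨ b = z ∨ b = a ∨ b = a * z := by
    intro b hb
    by_contra! hne
    have hazne : a * z ≠ 1 := fun e => haz' ((eq_inv_of_mul_eq_one_left e).trans (inv_eq_of_mul_eq_one_right hz))
    have h2 : a * z ≠ z := fun e => ha1 (mul_right_cancel (e.trans (one_mul z).symm))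
    have h3 : a * z ≠ a := fun e => hz1 (mul_left_cancel (e.trans (mul_one a).symm))
    have h5 : ({1, z, a, a * z, b} : Set X).ncard = 5 := by
      rw [Set.ncard_insert_of_notMem (by simp [Ne.symm hz1, Ne.symm ha1, Ne.symm hazne, Ne.symm hne.1]),
        Set.ncard_insert_of_notMem (by simp [Ne.symm haz', Ne.symm h2, Ne.symm hne.2.1]),
        Set.ncard_insert_of_notMem (by simp [Ne.symm h3, Ne.symm hne.2.2.1]),
        Set.ncard_pair (Ne.symm hne.2.2.2)]
    have hsub : ({1, z, a, a * z, b} : Set X) ⊆ (A : Set X) := by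
      rintro c (rfl | rfl | rfl | rfl | rfl)
      exacts [one_mem _, hzA, haA, mul_mem haA hzA, hb]
    have := (Set.ncard_le_ncard hsub (Set.toFinite _)).trans_eq (Nat.card_coe_set_eq (A : Set X)).symm
    rw [h5] at this
    change 5 ≤ Nat.card A at this
    omega
  have hmove : ∀ g : X, g * a * g⁻¹ = a ∨ g * a * g⁻¹ = a * z := by
    intro g
    rcases hAset _ (hAn.conj_mem a haA g) with e | e | e | e
    · exact absurd (conj_eq_one_iff.1 e) ha1
    · refine absurd ?_ haz'
      calc a = g⁻¹ * (g * a * g⁻¹) * g := by group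
        _ = g⁻¹ * z * g := by rw [e]
        _ = z := by rw [hzc g⁻¹, inv_mul_cancel_right]
    · exact Or.inl e
    · exact Or.inr e
  have hΦa : ∀ g ∈ Φ, g * a = a * g := by
    have hC : Φ ≤ Subgroup.centralizer ({a} : Set X) := by
      haveI : (Subgroup.centralizer ({a} : Set X)).Normal := by
        refine ⟨fun c hc g => ?_⟩
        rw [Subgroup.mem_centralizer_singleton_iff] at hc ⊢
        have hcomm : ∀ x y : X, (x * y) * a * (x * y)⁻¹ = x * (y * a * y⁻¹) * x⁻¹ := fun x y => by group
        have hc' : c * a * c⁻¹ = a := mul_inv_eq_iff_eq_mul.2 hc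
        refine mul_inv_eq_iff_eq_mul.1 ?_
        rw [hcomm, show g * c * (g⁻¹ * a * g⁻¹⁻¹) * (g * c)⁻¹ = g * (c * (g⁻¹ * a * g⁻¹⁻¹) * c⁻¹) * g⁻¹ by group]
        rcases hmove g⁻¹ with e | e
        · rw [e, hc']
          rcases hmove g with e2 | e2
          · exact e2
          · have : g * (g⁻¹ * a * g⁻¹⁻¹) * g⁻¹ = a := by group
            rw [e] at this; exact this
        · rw [e]
          rw [show c * (a * z) * c⁻¹ = (c * a * c⁻¹) * (c * z * c⁻¹) by group, hc', hzc c,
            mul_inv_cancel_right, show a * z = g⁻¹ * a * g⁻¹⁻¹ from e.symm]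
          group
      refine frattini_le_of_pow_commutator (p := 2) _ ?_ ?_
      · intro x
        rw [Subgroup.mem_centralizer_singleton_iff]
        refine mul_inv_eq_iff_eq_mul.1 ?_
        rw [sq, show x * x * a * (x * x)⁻¹ = x * (x * a * x⁻¹) * x⁻¹ by group]
        rcases hmove x with e | e
        · rw [e, e]
        · rw [e, show x * (a * z) * x⁻¹ = (x * a * x⁻¹) * (x * z * x⁻¹) by group, e, hzc x,
            mul_inv_cancel_right, mul_assoc, hz, mul_one]
      · rw [commutator_def, Subgroup.commutator_le]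
        rintro x - y -
        rw [Subgroup.mem_centralizer_singleton_iff]
        refine mul_inv_eq_iff_eq_mul.1 ?_
        have hcomm : ∀ g h : X, g * (h * a * h⁻¹) * g⁻¹ = h * (g * a * g⁻¹) * h⁻¹ := by
          intro g h
          rcases hmove g with e | e <;> rcases hmove h with e' | e' <;> rw [e, e']
          · rw [e]
          · rw [show g * (a * z) * g⁻¹ = (g * a * g⁻¹) * (g * z * g⁻¹) by group, e, hzc g,
              mul_inv_cancel_right]
          · rw [e, show h * (a * z) * h⁻¹ = (h * a * h⁻¹) * (h * z * h⁻¹) by group, e', hzc h,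
              mul_inv_cancel_right]
          · rw [show g * (a * z) * g⁻¹ = (g * a * g⁻¹) * (g * z * g⁻¹) by group, e, hzc g,
              mul_inv_cancel_right, show h * (a * z) * h⁻¹ = (h * a * h⁻¹) * (h * z * h⁻¹) by group,
              e', hzc h, mul_inv_cancel_right]
        calc ⁅x, y⁆ * a * ⁅x, y⁆⁻¹
            = x * (y * ((y * x)⁻¹ * a * (y * x)⁻¹⁻¹) * y⁻¹) * x⁻¹ := by
              rw [commutatorElement_def]; group
          _ = y * (x * ((y * x)⁻¹ * a * (y * x)⁻¹⁻¹) * x⁻¹) * y⁻¹ := by
              rcases hmove (y * x)⁻¹ with e | e <;> rw [e]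
              · exact hcomm x y
              · rw [show x * (y * (a * z) * y⁻¹) * x⁻¹ =
                    (x * (y * a * y⁻¹) * x⁻¹) * (x * (y * z * y⁻¹) * x⁻¹) by group,
                  show y * (x * (a * z) * x⁻¹) * y⁻¹ =
                    (y * (x * a * x⁻¹) * y⁻¹) * (y * (x * z * x⁻¹) * y⁻¹) by group,
                  hcomm x y, hzc x, mul_inv_cancel_right, hzc y, mul_inv_cancel_right, hzc x,
                  mul_inv_cancel_right]
          _ = a := by group
    intro g hg
    exact Subgroup.mem_centralizer_singleton_iff.1 (hC hg)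
  by_cases ha2 : a * a = 1
  · right
    have hset : ∀ w ∈ Φ, w = 1 ∨ w = z ∨ w = a ∨ w = z * a := fun w hw =>
      four_of_free hX h (hAΦ hzA) (hAΦ haA) hw hz ha2 hz1 ha1 (Ne.symm haz') (hzc a).symm
        (hzc w).symm (hΦa w hw).symm
    have hle : Φ ≤ A := by
      intro w hw
      rcases hset w hw with rfl | rfl | rfl | rfl
      exacts [one_mem _, hzA, haA, mul_mem hzA haA]
    refine ⟨by rw [le_antisymm hle hAΦ]; exact hA4', ?_⟩
    intro w hw
    rcases hset w hw with rfl | rfl | rfl | rfl
    · exact one_mul 1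
    · exact hz
    · exact ha2
    · rw [mul_assoc, ← mul_assoc a, hzc a, mul_assoc z, ha2, mul_one, hz]
  · left
    have hu : ∀ x y : Φ, orderOf x = 2 → orderOf y = 2 → y ∈ Subgroup.zpowers x := by
      intro x y hx hy
      have key : ∀ u : Φ, orderOf u = 2 → (u : X) = z := by
        intro u hu
        have hu2 : (u : X) * u = 1 := by
          have e := congrArg Subtype.val (pow_orderOf_eq_one u)
          rw [hu, sq] at e
          exact e
        rcases involution_eq hX h (hAΦ hzA) (hAΦ haA) u.2 hz hz1 ha2 hu2 (hΦa u u.2) (hzc a).symm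
          (hzc (u : X)).symm with e | e
        · rw [← Subgroup.orderOf_coe, e, orderOf_one] at hu; omega
        · exact e
      rw [show y = x from Subtype.ext ((key y hy).trans (key x hx).symm)]
      exact Subgroup.mem_zpowers x
    rcases isCyclic_or_quaternion (hX.to_subgroup Φ) hu with hc | ⟨-, n, hn, ⟨e⟩⟩
    · exact hc
    · exfalso
      haveI : NeZero (2 ^ n) := ⟨(pow_pos two_pos n).ne'⟩
      have hcen : ∀ g : Φ, g * ⟨a, hAΦ haA⟩ = ⟨a, hAΦ haA⟩ * g := fun g => Subtype.ext (hΦa g g.2)
      have h2 : 2 ≤ 2 ^ n := Nat.le_self_pow (by omega) 2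
      have key : ∀ w : QuaternionGroup (2 ^ n), (∀ v, v * w = w * v) → w * w = 1 := by
        intro w hw
        rcases w with i | i
        · have := hw (.xa 0)
          simp only [QuaternionGroup.xa_mul_a, QuaternionGroup.a_mul_xa, QuaternionGroup.xa.injEq,
            zero_add, zero_sub] at this
          rw [QuaternionGroup.a_mul_a, ← QuaternionGroup.a_zero]
          congr 1
          nth_rewrite 1 [this]
          exact neg_add_cancel i
        · exfalso
          have := hw (.a 1)
          simp only [QuaternionGroup.xa_mul_a, QuaternionGroup.a_mul_xa, QuaternionGroup.xa.injEq] at this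
          have h0 : ((2 : ℕ) : ZMod (2 * 2 ^ n)) = 0 := by push_cast; linear_combination -this
          rw [ZMod.natCast_eq_zero_iff] at h0
          have := Nat.le_of_dvd two_pos h0
          omega
      have := key (e ⟨a, hAΦ haA⟩) (fun v => by
        obtain ⟨g, rfl⟩ := e.surjective v
        rw [← map_mul, ← map_mul, hcen g])
      rw [← map_mul, MulEquiv.map_eq_one_iff] at this
      exact ha2 (congrArg Subtype.val this)

/-- The classification. -/
theorem classify (hX : IsPGroup 2 X) (Γ : Subgroup (MulAut X)) (hodd : Odd (Nat.card Γ))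
    (hinv : ∀ W : Subgroup X, W ≠ ⊤ → (∀ φ ∈ Γ, ∀ x ∈ W, φ x ∈ W) → IsFree W)
    (hnf : ¬ IsFree (⊤ : Subgroup X)) :
    IsMulCommutative X ∨ (Cfsg.IsExtraspecial 2 X ∧ 32 ≤ Nat.card X) ∨
      (∃ X₀ : Subgroup X, X₀.index = 2 ∧ Nonempty (X₀ ≃* QuaternionGroup 2) ∧
        X₀ ⊔ Subgroup.centralizer (X₀ : Set X) = ⊤) ∨
      (Cfsg.IsSpecial 2 X ∧ Nat.card (Subgroup.center X) = 4) := by
  classical
  haveI : Fact (Nat.Prime 2) := ⟨Nat.prime_two⟩
  haveI : Finite (MulAut X) :=
    Finite.of_injective (fun φ => (φ : X → X)) DFunLike.coe_injective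
  refine or_iff_not_imp_left.2 fun hncomm => ?_
  have hno : ∀ φ ∈ Γ, Odd (orderOf φ) := fun φ hφ =>
    Odd.of_dvd_nat hodd (by rw [← Subgroup.orderOf_mk φ hφ]; exact orderOf_dvd_natCard _)
  obtain ⟨φ₀, hφ₀, hφ₀1⟩ : ∃ φ ∈ Γ, φ ≠ 1 := by
    by_contra! hall
    have hnf' := hnf
    unfold IsFree at hnf'
    rw [not_not] at hnf'
    obtain ⟨A, -, hA, hAc, hA8⟩ := hnf'
    have hAtop : A = ⊤ := by
      by_contra hne
      exact not_isFree_of le_rfl hA hAc hA8 (hinv A hne fun φ hφ x hx => by rw [hall φ hφ]; exact hx)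
    refine hncomm ⟨⟨fun x y => ?_⟩⟩
    exact congrArg Subtype.val
      (hA.is_comm.comm (⟨x, hAtop ▸ Subgroup.mem_top x⟩ : A) ⟨y, hAtop ▸ Subgroup.mem_top y⟩)
  have hntriv : ∀ φ ∈ Γ, (∀ x, x⁻¹ * φ x ∈ frattini X) → φ = 1 := fun φ hφ h =>
    Resistant67.eq_one_of_trivial_frattini hX (Nat.coprime_two_right.2 (hno φ hφ)) h
  haveI : Nontrivial X := by
    by_contra h
    rw [not_nontrivial_iff_subsingleton] at h
    exact hncomm ⟨⟨fun a b => Subsingleton.elim _ _⟩⟩
  set Φ := frattini X with hΦdef
  haveI hΦn : Φ.Normal := by rw [hΦdef]; infer_instance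
  have hΦinv : ∀ (φ : MulAut X), ∀ x ∈ Φ, φ x ∈ Φ := fun φ x hx => Resistant67.aut_mem_frattini φ hx
  have hsq : ∀ x : X, x ^ 2 ∈ Φ := pow_mem_frattini hX
  have hcm : ∀ x y : X, ⁅x, y⁆ ∈ Φ := commutatorElement_mem_frattini hX
  have hnc : ¬ IsCyclic X := by
    intro h
    haveI := h
    letI := IsCyclic.commGroup (α := X)
    exact hncomm ⟨⟨mul_comm⟩⟩
  have hΦtop : Φ ≠ ⊤ := by
    intro h
    haveI : IsCyclic X := isPGroup_quotient_trick hX (D := Φ) le_rfl (by rw [h, Subgroup.index_top]; omega)
    exact hnc this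
  have hidx : 2 < Φ.index := by
    by_contra h
    exact hnc (isPGroup_quotient_trick hX (D := Φ) le_rfl (by omega))
  have htwo : ∀ P : X → Prop, (∀ x y, ¬ P x → ¬ P y → x * y ∈ Φ) → (∀ x, P x → x ∈ Φ) → False := by
    intro P hP hPΦ
    obtain ⟨c, hc⟩ : ∃ c, c ∉ Φ := by
      by_contra! h
      exact hΦtop (eq_top_iff.2 fun x _ => h x)
    have : Φ.index = 2 := by
      refine Subgroup.index_eq_two_iff.2 ⟨c, fun b => ?_⟩
      by_cases hb : b ∈ Φ
      · exact Or.inr ⟨hb, fun h => hc (by simpa using mul_mem (inv_mem hb) h)⟩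
      · exact Or.inl ⟨hP b c (fun h => hb (hPΦ b h)) (fun h => hc (hPΦ c h)), hb⟩
    omega
  have hΦfree : IsFree Φ := hinv Φ hΦtop (fun φ _ => hΦinv φ)
  have hcentΦinv : ∀ φ ∈ Γ, ∀ x ∈ Subgroup.centralizer (Φ : Set X), φ x ∈ Subgroup.centralizer (Φ : Set X) := by
    intro φ _ x hx
    rw [Subgroup.mem_centralizer_iff] at hx ⊢
    intro y hy
    have := congrArg φ (hx (φ⁻¹ y) (hΦinv _ _ hy))
    simpa only [map_mul, MulAut.apply_inv_self] using this
  rcases frattini_cases hX hΦfree with hcyc | ⟨hΦ4, hΦ2⟩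
  · -- cyclic Frattini subgroup
    haveI := hcyc
    have hfix : ∀ φ ∈ Γ, ∀ x ∈ Φ, φ x = x := fun φ hφ =>
      fix_cyclic hX Φ φ (hno φ hφ) (hΦinv φ) (hΦinv φ⁻¹)
    have hΦne : Φ ≠ ⊥ := by
      intro h
      refine hncomm ⟨⟨fun x y => commutatorElement_eq_one_iff_mul_comm.1 ?_⟩⟩
      have := hcm x y
      rwa [h, Subgroup.mem_bot] at this
    obtain ⟨z, hzΦ, hz, hz1, hzc⟩ := exists_central_involution hX Φ hΦne
    have hΦinvol : ∀ y ∈ Φ, y * y = 1 → y = 1 ∨ y = z := by
      intro y hy hy2
      by_contra! h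
      exact h.2 (congrArg Subtype.val (isCyclic_two_involutions (A := Φ) (u := ⟨y, hy⟩) (v := ⟨z, hzΦ⟩)
        (Subtype.ext hy2) (Subtype.ext hz) (fun e => h.1 (congrArg Subtype.val e))
        (fun e => hz1 (congrArg Subtype.val e))))
    -- the Frattini subgroup is central
    have hΦcen : ∀ f ∈ Φ, ∀ x, x * f = f * x := by
      by_cases hall : ∀ f ∈ Φ, f * f = 1
      · intro f hf x
        rcases hΦinvol f hf (hall f hf) with rfl | rfl
        · simp
        · exact hzc x
      push Not at hall
      obtain ⟨f₀, hf₀, hf₀2⟩ := hall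
      by_contra hnot
      set C := Subgroup.centralizer (Φ : Set X) with hCdef
      have hC : C ≠ ⊤ := by
        intro h
        apply hnot
        intro f hf x
        exact ((Subgroup.mem_centralizer_iff.1 (h ▸ Subgroup.mem_top x : x ∈ C)) f hf).symm
      have hCfree : IsFree C := hinv C hC hcentΦinv
      have hΦC : Φ ≤ C := by
        letI := IsCyclic.commGroup (α := Φ)
        intro x hx
        rw [hCdef, Subgroup.mem_centralizer_iff]
        intro y hy
        exact congrArg Subtype.val (mul_comm (⟨y, hy⟩ : Φ) ⟨x, hx⟩)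
      have hu : ∀ x y : C, orderOf x = 2 → orderOf y = 2 → y ∈ Subgroup.zpowers x := by
        intro x y hx hy
        have key : ∀ u : C, orderOf u = 2 → (u : X) = z := by
          intro u hu
          have hu2 : (u : X) * u = 1 := by
            have e := congrArg Subtype.val (pow_orderOf_eq_one u)
            rw [hu, sq] at e
            exact e
          rcases involution_eq hX hCfree (hΦC hzΦ) (hΦC hf₀) u.2 hz hz1 hf₀2 hu2
            ((Subgroup.mem_centralizer_iff.1 u.2) f₀ hf₀).symm (hzc f₀).symm (hzc (u : X)).symm with e | e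
          · rw [← Subgroup.orderOf_coe, e, orderOf_one] at hu; omega
          · exact e
        rw [show y = x from Subtype.ext ((key y hy).trans (key x hx).symm)]
        exact Subgroup.mem_zpowers x
      have hCc : IsCyclic C := by
        rcases isCyclic_or_quaternion (hX.to_subgroup C) hu with hc | ⟨-, n, hn, ⟨e⟩⟩
        · exact hc
        · exfalso
          haveI : NeZero (2 ^ n) := ⟨(pow_pos two_pos n).ne'⟩
          have h2 : 2 ≤ 2 ^ n := Nat.le_self_pow (by omega) 2
          have hcomm : ∀ v : QuaternionGroup (2 ^ n), v * e ⟨f₀, hΦC hf₀⟩ = e ⟨f₀, hΦC hf₀⟩ * v := by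
            intro v
            obtain ⟨g, rfl⟩ := e.surjective v
            rw [← map_mul, ← map_mul]
            exact congrArg e (Subtype.ext ((Subgroup.mem_centralizer_iff.1 g.2) f₀ hf₀).symm)
          have hsq1 : e ⟨f₀, hΦC hf₀⟩ * e ⟨f₀, hΦC hf₀⟩ ≠ 1 := by
            intro h
            rw [← map_mul, MulEquiv.map_eq_one_iff] at h
            exact hf₀2 (congrArg Subtype.val h)
          revert hcomm hsq1
          generalize e ⟨f₀, hΦC hf₀⟩ = w
          rintro hw hsq1
          rcases w with i | i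
          · apply hsq1
            have := hw (.xa 0)
            simp only [QuaternionGroup.xa_mul_a, QuaternionGroup.a_mul_xa, QuaternionGroup.xa.injEq,
              zero_add, zero_sub] at this
            rw [QuaternionGroup.a_mul_a, ← QuaternionGroup.a_zero]
            congr 1
            nth_rewrite 1 [this]
            exact neg_add_cancel i
          · have := hw (.a 1)
            simp only [QuaternionGroup.xa_mul_a, QuaternionGroup.a_mul_xa, QuaternionGroup.xa.injEq] at this
            have h0 : ((2 : ℕ) : ZMod (2 * 2 ^ n)) = 0 := by push_cast; linear_combination -this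
            rw [ZMod.natCast_eq_zero_iff] at h0
            have := Nat.le_of_dvd two_pos h0
            omega
      haveI := hCc
      refine hφ₀1 (MulEquiv.ext fun x => ?_)
      have hCinv : ∀ φ : MulAut X, ∀ y ∈ C, φ y ∈ C := by
        intro φ y hy
        rw [hCdef, Subgroup.mem_centralizer_iff] at hy ⊢
        intro w hw
        have := congrArg φ (hy (φ⁻¹ w) (hΦinv _ _ hw))
        simpa only [map_mul, MulAut.apply_inv_self] using this
      have hfixC := fix_cyclic hX C φ₀ (hno φ₀ hφ₀) (hCinv φ₀) (hCinv φ₀⁻¹)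
      have hd : x⁻¹ * φ₀ x ∈ C := by
        rw [hCdef, Subgroup.mem_centralizer_iff]
        intro f hf
        have hconj : φ₀ x * f * (φ₀ x)⁻¹ = x * f * x⁻¹ := by
          have h1 := hfix φ₀ hφ₀ _ (hΦn.conj_mem f hf x)
          rwa [map_mul, map_mul, map_inv, hfix φ₀ hφ₀ f hf] at h1
        calc f * (x⁻¹ * φ₀ x) = x⁻¹ * (x * f * x⁻¹) * φ₀ x := by group
          _ = x⁻¹ * (φ₀ x * f * (φ₀ x)⁻¹) * φ₀ x := by rw [hconj]
          _ = x⁻¹ * φ₀ x * f := by group
      obtain ⟨k, hk⟩ := IsPGroup.iff_orderOf.1 hX (x⁻¹ * φ₀ x)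
      rw [MulAut.one_apply]
      exact TwoGroups.OddAut.fix_of_translate (hno φ₀ hφ₀) (by rw [mul_inv_cancel_left]) (hfixC _ hd)
        (n := k) (by rw [← hk]; exact pow_orderOf_eq_one _)
    have hcommz : ∀ x y : X, ⁅x, y⁆ = 1 ∨ ⁅x, y⁆ = z := by
      intro x y
      refine hΦinvol _ (hcm x y) ?_
      have h1 : ⁅x ^ 2, y⁆ = 1 :=
        commutatorElement_eq_one_iff_mul_comm.2 (hΦcen _ (hsq x) y).symm
      rw [show ⁅x ^ 2, y⁆ = x * ⁅x, y⁆ * x⁻¹ * ⁅x, y⁆ by
        simp only [commutatorElement_def, sq]; group, hΦcen _ (hcm x y) x, mul_inv_cancel_right] at h1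
      exact h1
    have hsqmul : ∀ x y : X, (x * y) ^ 2 = x ^ 2 * ⁅x⁻¹, y⁆ * y ^ 2 := by
      intro x y
      simp only [commutatorElement_def, inv_inv, sq]
      group
    by_cases hall : ∀ f ∈ Φ, f * f = 1
    · -- `Φ` has order two
      have hΦset : ∀ f ∈ Φ, f = 1 ∨ f = z := fun f hf => hΦinvol f hf (hall f hf)
      have hΦz : Φ = Subgroup.zpowers z := by
        refine le_antisymm (fun f hf => ?_) (Subgroup.zpowers_le.2 hzΦ)
        rcases hΦset f hf with rfl | rfl
        · exact one_mem _
        · exact Subgroup.mem_zpowers f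
      have hΦcard : Nat.card Φ = 2 := by
        rw [hΦz, Nat.card_zpowers, orderOf_eq_prime (by rw [sq]; exact hz) hz1]
      have hD : commutator X = Φ := by
        refine le_antisymm (commutator_le_frattini hX) ?_
        rw [hΦz, Subgroup.zpowers_le]
        obtain ⟨x, y, hxy⟩ : ∃ x y : X, ⁅x, y⁆ ≠ 1 := by
          by_contra! h
          exact hncomm ⟨⟨fun x y => commutatorElement_eq_one_iff_mul_comm.1 (h x y)⟩⟩
        rw [← (hcommz x y).resolve_left hxy]
        exact Subgroup.commutator_mem_commutator (Subgroup.mem_top _) (Subgroup.mem_top _)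
      by_cases hZ : ∀ a : X, (∀ g, g * a = a * g) → a ∈ Φ
      · left
        have hcen : Subgroup.center X = Φ :=
          le_antisymm (fun a ha => hZ a (Subgroup.mem_center_iff.1 ha))
            (fun f hf => Subgroup.mem_center_iff.2 (hΦcen f hf))
        have hes : Cfsg.IsExtraspecial 2 X :=
          ⟨⟨hX, hcen.symm, hD.trans hcen.symm⟩, by rw [hcen]; exact hΦcard⟩
        refine ⟨hes, ?_⟩
        obtain ⟨z', hes'⟩ := Extraspecial.exists_esData hes
        obtain ⟨n, hn⟩ := Extraspecial.exists_card_eq hes'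
        rw [hn]
        rcases n with _ | _ | n
        · exfalso
          apply hnc
          exact isCyclic_of_prime_card (p := 2) (by simpa using hn)
        · exfalso
          unfold IsFree at hnf
          rw [not_not] at hnf
          obtain ⟨A, -, hA, -, hA8⟩ := hnf
          have : A = ⊤ := Subgroup.eq_top_of_card_eq A (by rw [hA8, hn]; norm_num)
          refine hncomm ⟨⟨fun x y => ?_⟩⟩
          exact congrArg Subtype.val
            (hA.is_comm.comm (⟨x, this ▸ Subgroup.mem_top x⟩ : A) ⟨y, this ▸ Subgroup.mem_top y⟩)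
        · calc 32 = 2 ^ 5 := by norm_num
            _ ≤ _ := Nat.pow_le_pow_right two_pos (by omega)
      · right; left
        push Not at hZ
        obtain ⟨a, hac, haΦ⟩ := hZ
        have ha1 : a ≠ 1 := fun e => haΦ (e ▸ one_mem _)
        have haz : a ≠ z := fun e => haΦ (e ▸ hzΦ)
        have hasq : a * a = 1 ∨ a * a = z := by rw [← sq]; exact hΦset _ (hsq a)
        have hcenfree : IsFree (Subgroup.center X) := by
          refine hinv _ ?_ (fun φ _ x hx => ?_)
          · intro h
            exact hncomm ⟨⟨fun x y => Subgroup.mem_center_iff.1 (h ▸ Subgroup.mem_top y : y ∈ Subgroup.center X) x⟩⟩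
          · rw [Subgroup.mem_center_iff] at hx ⊢
            intro g
            obtain ⟨g', rfl⟩ := φ.surjective g
            rw [← map_mul, ← map_mul, hx]
        have haC : a ∈ Subgroup.center X := Subgroup.mem_center_iff.2 hac
        have hzC : z ∈ Subgroup.center X := Subgroup.mem_center_iff.2 hzc
        -- in a free subgroup the common centralizer of `a`, `z` is `{1, z, a, az}`
        have hsmall : ∀ W : Subgroup X, IsFree W → a ∈ W → z ∈ W → ∀ y ∈ W,
            y = 1 ∨ y = z ∨ y = a ∨ y = a * z := by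
          intro W hW haW hzW y hy
          rcases hasq with h | h
          · rcases four_of_free hX hW hzW haW hy hz h hz1 ha1 (Ne.symm haz) (hac z) (hzc y).symm
              (hac y).symm with e | e | e | e
            · exact Or.inl e
            · exact Or.inr (Or.inl e)
            · exact Or.inr (Or.inr (Or.inl e))
            · exact Or.inr (Or.inr (Or.inr (e.trans (hzc a).symm)))
          · have ha2 : a * a ≠ 1 := by rw [h]; exact hz1
            rcases hΦset _ (hsq y) with e | e
            · rcases involution_eq hX hW hzW haW hy hz hz1 ha2 (by rw [← sq]; exact e) (hac y)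
                (hac z) (hzc y).symm with e' | e'
              · exact Or.inl e'
              · exact Or.inr (Or.inl e')
            · have hya : (y * a⁻¹) * (y * a⁻¹) = 1 := by
                rw [show (y * a⁻¹) * (y * a⁻¹) = y * (a⁻¹ * y) * a⁻¹ by group,
                  show a⁻¹ * y = y * a⁻¹ by
                    exact ((Commute.inv_left (hac y).symm : Commute a⁻¹ y)).eq,
                  show y * (y * a⁻¹) * a⁻¹ = y ^ 2 * (a * a)⁻¹ by simp only [sq]; group, e, h, mul_inv_cancel]
              have hcy : y * a⁻¹ * a = a * (y * a⁻¹) := by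
                rw [inv_mul_cancel_right, ← hac (y * a⁻¹), inv_mul_cancel_right]
              rcases involution_eq hX hW hzW haW (mul_mem hy (inv_mem haW)) hz hz1 ha2 hya hcy
                (hac z) (hzc _).symm with e' | e'
              · exact Or.inr (Or.inr (Or.inl (mul_inv_eq_one.1 e')))
              · refine Or.inr (Or.inr (Or.inr ?_))
                rw [hzc a, ← e', inv_mul_cancel_right]
        let m : X →* X ⧸ Φ := QuotientGroup.mk' Φ
        have hm : ∀ x, m x = 1 ↔ x ∈ Φ := fun x => QuotientGroup.eq_one_iff x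
        letI : CommGroup (X ⧸ Φ) :=
          { (inferInstance : Group (X ⧸ Φ)) with
            mul_comm := fun p q => by
              obtain ⟨x, rfl⟩ := QuotientGroup.mk'_surjective Φ p
              obtain ⟨y, rfl⟩ := QuotientGroup.mk'_surjective Φ q
              rw [← map_mul, ← map_mul]
              refine QuotientGroup.eq.2 ?_
              rw [show (x * y)⁻¹ * (y * x) = ⁅y⁻¹, x⁻¹⁆ by rw [commutatorElement_def]; group]
              exact hcm _ _ }
        haveI := Fintype.ofFinite Γ
        let t : X →* X ⧸ Φ :=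
          { toFun := fun x => ∏ γ : Γ, m ((γ : MulAut X) x)
            map_one' := by simp
            map_mul' := fun x y => by simp [Finset.prod_mul_distrib] }
        have ht_apply : ∀ (φ : MulAut X), φ ∈ Γ → ∀ x, t (φ x) = t x := by
          intro φ hφ x
          exact Fintype.prod_equiv (Equiv.mulRight (⟨φ, hφ⟩ : Γ)) _ _ (fun γ => rfl)
        have hta : ∀ γ : Γ, (γ : MulAut X) a = a ∨ (γ : MulAut X) a = a * z := by
          intro γ
          have hfa : (γ : MulAut X) a ∈ Subgroup.center X := by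
            rw [Subgroup.mem_center_iff]
            intro g
            obtain ⟨g', rfl⟩ := (γ : MulAut X).surjective g
            rw [← map_mul, ← map_mul, hac]
          rcases hsmall _ hcenfree haC hzC _ hfa with e | e | e | e
          · exact absurd ((MulEquiv.map_eq_one_iff _).1 e) ha1
          · exact absurd ((γ : MulAut X).injective (e.trans (hfix _ γ.2 z hzΦ).symm)) haz
          · exact Or.inl e
          · exact Or.inr e
        have hma : ∀ γ : Γ, m ((γ : MulAut X) a) = m a := by
          intro γ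
          rcases hta γ with e | e <;> rw [e]
          rw [map_mul, (hm z).2 hzΦ, mul_one]
        have hta' : t a = m a := by
          show ∏ γ : Γ, m ((γ : MulAut X) a) = m a
          rw [Finset.prod_congr rfl (fun γ _ => hma γ), Finset.prod_const, Finset.card_univ,
            ← Nat.card_eq_fintype_card]
          obtain ⟨j, hj⟩ := hodd
          rw [hj, pow_succ, pow_mul, ← map_pow m a 2, (hm _).2 (hsq a), one_pow, one_mul]
        -- fixed points modulo `Φ`
        let F : Subgroup X :=
          { carrier := {x | ∀ φ ∈ Γ, m (φ x) = m x}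
            one_mem' := fun φ _ => by simp
            mul_mem' := fun {x y} hx hy φ hφ => by rw [map_mul, map_mul, map_mul, hx φ hφ, hy φ hφ]
            inv_mem' := fun {x} hx φ hφ => by rw [map_inv, map_inv, map_inv, hx φ hφ] }
        have hFtop : F ≠ ⊤ := by
          intro h
          refine hφ₀1 (hntriv φ₀ hφ₀ fun x => QuotientGroup.eq.1 ?_)
          exact ((h ▸ Subgroup.mem_top x : x ∈ F) φ₀ hφ₀).symm
        have hFfree : IsFree F := hinv F hFtop fun φ hφ x hx ψ hψ => by
          rw [hx φ hφ]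
          exact hx (ψ * φ) (mul_mem hψ hφ)
        have haF : a ∈ F := fun φ hφ => hma ⟨φ, hφ⟩
        have hzF : z ∈ F := fun φ hφ => by rw [hfix φ hφ z hzΦ]
        have himg : ∀ x, t x = 1 ∨ t x = m a := by
          intro x
          obtain ⟨y, hy⟩ := QuotientGroup.mk'_surjective Φ (t x)
          have hyF : y ∈ F := by
            intro φ hφ
            let μ : X ⧸ Φ →* X ⧸ Φ := QuotientGroup.map Φ Φ φ.toMonoidHom (fun f hf => hΦinv φ f hf)
            show μ (m y) = m y
            rw [show m y = t x from hy]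
            show μ (∏ γ : Γ, m ((γ : MulAut X) x)) = ∏ γ : Γ, m ((γ : MulAut X) x)
            rw [map_prod]
            exact Fintype.prod_equiv (Equiv.mulLeft (⟨φ, hφ⟩ : Γ)) _ _ (fun γ => rfl)
          rw [← hy]
          rcases hsmall F hFfree haF hzF y hyF with e | e | e | e
          · exact Or.inl (by rw [e]; exact map_one _)
          · exact Or.inl ((hm y).2 (e ▸ hzΦ))
          · exact Or.inr (by rw [e])
          · exact Or.inr (by show m y = m a; rw [e, map_mul, (hm z).2 hzΦ, mul_one])
        set W := t.ker with hWdef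
        have hma1 : m a ≠ 1 := fun e => haΦ ((hm a).1 e)
        have haW : a ∉ W := fun h => hma1 (hta'.symm.trans h)
        have hWtop : W ≠ ⊤ := fun h => haW (h ▸ Subgroup.mem_top a)
        have hWinv : ∀ φ ∈ Γ, ∀ x ∈ W, φ x ∈ W := fun φ hφ x hx => (ht_apply φ hφ x).trans hx
        have hWfree := hinv W hWtop hWinv
        have hsplit : ∀ x, x ∈ W ∨ x * a⁻¹ ∈ W := by
          intro x
          rcases himg x with h | h
          · exact Or.inl h
          · right
            show t (x * a⁻¹) = 1
            rw [map_mul, map_inv, h, hta', mul_inv_cancel]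
        have hWi : W.index = 2 := by
          refine Subgroup.index_eq_two_iff.2 ⟨a⁻¹, fun b => ?_⟩
          rcases hsplit b with h | h
          · exact Or.inr ⟨h, fun h' => haW (by simpa using mul_mem (inv_mem h) h')⟩
          · exact Or.inl ⟨h, fun h' => haW (by simpa using mul_mem (inv_mem h) h')⟩
        obtain ⟨φ₁, hφ₁, w₁, hw₁, hmove⟩ : ∃ φ ∈ Γ, ∃ w ∈ W, φ w ≠ w := by
          by_contra! hfixW
          have hfa : ∀ φ ∈ Γ, φ a = a := by
            intro φ hφ
            rcases hta ⟨φ, hφ⟩ with e | e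
            · exact e
            · exact TwoGroups.OddAut.fix_of_translate (hno φ hφ) e (hfix φ hφ z hzΦ) (n := 1)
                (by rw [pow_one, sq]; exact hz)
          refine hφ₀1 (MulEquiv.ext fun x => ?_)
          rw [MulAut.one_apply]
          rcases hsplit x with h | h
          · exact hfixW φ₀ hφ₀ x h
          · conv_lhs => rw [← inv_mul_cancel_right x a, map_mul, hfixW φ₀ hφ₀ _ h, hfa φ₀ hφ₀]
            rw [inv_mul_cancel_right]
        let r : MulAut W :=
          { toFun := fun x => ⟨φ₁ x.1, hWinv φ₁ hφ₁ _ x.2⟩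
            invFun := fun x => ⟨φ₁⁻¹ x.1, hWinv φ₁⁻¹ (inv_mem hφ₁) _ x.2⟩
            left_inv := fun x => Subtype.ext (MulAut.inv_apply_self X φ₁ x.1)
            right_inv := fun x => Subtype.ext (MulAut.apply_inv_self X φ₁ x.1)
            map_mul' := fun x y => Subtype.ext (map_mul φ₁ x.1 y.1) }
        have hit : ∀ (n : ℕ) (x : W), (((r ^ n) x : W) : X) = (φ₁ ^ n) x.1 := by
          intro n
          induction n with
          | zero => intro x; rfl
          | succ n ih =>
            intro x
            rw [pow_succ', pow_succ', MulAut.mul_apply, MulAut.mul_apply, ← ih x]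
            rfl
        have hrodd : Odd (orderOf r) := Odd.of_dvd_nat (hno φ₁ hφ₁)
          (orderOf_dvd_of_pow_eq_one (MulEquiv.ext fun x => Subtype.ext (by
            rw [hit, pow_orderOf_eq_one]; rfl)))
        have hr1 : r ≠ 1 := fun h =>
          hmove (congrArg (fun e : MulAut W => ((e ⟨w₁, hw₁⟩ : W) : X)) h)
        have hWX : W ⊔ Subgroup.centralizer (W : Set X) = ⊤ := by
          rw [eq_top_iff]
          intro x _
          rcases hsplit x with h | h
          · exact Subgroup.mem_sup_left h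
          · rw [← inv_mul_cancel_right x a]
            exact mul_mem (Subgroup.mem_sup_left h)
              (Subgroup.mem_sup_right (Subgroup.center_le_centralizer _ haC))
        refine ⟨W, hWi, ?_, hWX⟩
        rcases free_cases (hX.to_subgroup W) (isFree_top_of hWfree) r hrodd hr1 with ⟨-, h2⟩ | h
        · exfalso
          have hWc : ∀ u ∈ W, ∀ v ∈ W, u * v = v * u := by
            intro u hu v hv
            exact congrArg Subtype.val (mul_comm_of_mem_two h2 (⟨u, hu⟩ : W) ⟨v, hv⟩)
          refine hncomm ⟨⟨fun x y => ?_⟩⟩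
          have hxW : ∀ x, ∀ w ∈ W, x * w = w * x := by
            intro x w hw
            rcases hsplit x with h | h
            · exact hWc x h w hw
            · calc x * w = x * a⁻¹ * (a * w) := by group
                _ = x * a⁻¹ * w * a := by rw [← hac w]; group
                _ = w * (x * a⁻¹) * a := by rw [hWc _ h w hw]
                _ = w * x := by group
          rcases hsplit y with h | h
          · exact hxW x y h
          · calc x * y = x * (y * a⁻¹) * a := by group
              _ = y * a⁻¹ * x * a := by rw [hxW x _ h]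
              _ = y * a⁻¹ * (x * a) := by group
              _ = y * x := by rw [hac x]; group
        · exact h
    · -- `Φ` cyclic of order at least four: impossible
      exfalso
      push Not at hall
      obtain ⟨f₀, hf₀, hf₀2⟩ := hall
      obtain ⟨g, hg⟩ := IsCyclic.exists_generator (α := Φ)
      have hgen : ∀ f ∈ Φ, ∃ k : ℤ, f = (g : X) ^ k := by
        intro f hf
        obtain ⟨k, hk⟩ := hg ⟨f, hf⟩
        exact ⟨k, (congrArg Subtype.val hk).symm⟩
      have hg2 : (g : X) * g ≠ 1 := by
        intro h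
        apply hf₀2
        obtain ⟨k, rfl⟩ := hgen f₀ hf₀
        rw [← (Commute.refl (g : X)).mul_zpow, h, one_zpow]
      set Φ₂ := Subgroup.zpowers ((g : X) * g)
      have hzΦ₂ : z ∈ Φ₂ := by
        obtain ⟨k, hk⟩ := hgen z hzΦ
        rcases Int.even_or_odd k with ⟨t, ht⟩ | ⟨t, ht⟩
        · exact ⟨t, by rw [hk, ht, zpow_add]; exact (Commute.refl (g : X)).mul_zpow t⟩
        · exfalso
          rw [ht] at hk
          have h1 : (g : X) ^ (2 * (2 * t + 1)) = 1 := by
            rw [mul_comm, zpow_mul, ← hk, zpow_two, hz]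
          rw [← orderOf_dvd_iff_zpow_eq_one] at h1
          obtain ⟨j, hj⟩ := IsPGroup.iff_orderOf.1 hX (g : X)
          rw [hj] at h1
          rcases j with _ | _ | j
          · rw [pow_zero, orderOf_eq_one_iff] at hj
            exact hg2 (by rw [hj, one_mul])
          · apply hg2
            rw [← sq]
            have := pow_orderOf_eq_one (g : X)
            rwa [hj] at this
          · have h4 : (4 : ℤ) ∣ 2 * (2 * t + 1) :=
              dvd_trans ⟨2 ^ j, by push_cast; ring⟩ h1
            omega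
      let W : Subgroup X :=
        { carrier := {x | x ^ 2 ∈ Φ₂}
          one_mem' := by show (1 : X) ^ 2 ∈ Φ₂; rw [one_pow]; exact one_mem _
          mul_mem' := fun {x y} hx hy => by
            show (x * y) ^ 2 ∈ Φ₂
            rw [hsqmul]
            refine mul_mem (mul_mem hx ?_) hy
            rcases hcommz x⁻¹ y with e | e <;> rw [e]
            exacts [one_mem _, hzΦ₂]
          inv_mem' := fun {x} hx => by show x⁻¹ ^ 2 ∈ Φ₂; rw [inv_pow]; exact inv_mem hx }
      have hWinv : ∀ φ ∈ Γ, ∀ x ∈ W, φ x ∈ W := fun φ hφ x hx => by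
        show (φ x) ^ 2 ∈ Φ₂
        rw [← map_pow, hfix φ hφ _ (hsq x)]
        exact hx
      have hgW : (g : X) ∈ W := ⟨1, by simp [sq]⟩
      have hΦW : Φ ≤ W := fun f hf => by
        obtain ⟨k, rfl⟩ := hgen f hf
        exact zpow_mem hgW k
      have hgnot : (g : X) ∉ Φ₂ := by
        rintro ⟨k, hk⟩
        simp only at hk
        rw [← zpow_two, ← zpow_mul] at hk
        have h1 : (g : X) ^ (2 * k - 1) = 1 := by
          rw [zpow_sub, zpow_one, hk, mul_inv_cancel]
        rw [← orderOf_dvd_iff_zpow_eq_one] at h1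
        obtain ⟨j, hj⟩ := IsPGroup.iff_orderOf.1 hX (g : X)
        rcases j with _ | j
        · rw [pow_zero, orderOf_eq_one_iff] at hj
          exact hg2 (by rw [hj, one_mul])
        · rw [hj] at h1
          have : (2 : ℤ) ∣ 2 * k - 1 := dvd_trans ⟨2 ^ j, by push_cast; ring⟩ h1
          omega
      have hWtop : W ≠ ⊤ := by
        intro h
        apply hgnot
        haveI : Φ₂.Normal := by
          refine ⟨fun x hx y => ?_⟩
          obtain ⟨k, rfl⟩ := hx
          show y * ((g : X) * g) ^ k * y⁻¹ ∈ Φ₂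
          rw [hΦcen _ (zpow_mem (mul_mem g.2 g.2) k) y, mul_inv_cancel_right]
          exact ⟨k, rfl⟩
        refine frattini_le_of_pow_commutator (p := 2) Φ₂ (fun x => (h ▸ Subgroup.mem_top x : x ∈ W)) ?_ g.2
        rw [commutator_def, Subgroup.commutator_le]
        rintro x - y -
        rcases hcommz x y with e | e <;> rw [e]
        exacts [one_mem _, hzΦ₂]
      have hWfree := hinv W hWtop hWinv
      have hWΦ : ∀ x, x ∈ W → x ∈ Φ := by
        intro x hx
        have hx' := hx
        obtain ⟨k, hk⟩ := (hx' : x ^ 2 ∈ Φ₂)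
        simp only at hk
        obtain ⟨f, hfdef⟩ : ∃ f, f = (g : X) ^ k := ⟨_, rfl⟩
        have hff : f * f = x ^ 2 := by
          rw [← hk, hfdef]; exact ((Commute.refl (g : X)).mul_zpow k).symm
        have hfΦ : f ∈ Φ := hfdef ▸ zpow_mem g.2 k
        have hy2 : (x * f⁻¹) * (x * f⁻¹) = 1 := by
          have hcomm : f⁻¹ * x = x * f⁻¹ := (hΦcen _ (inv_mem hfΦ) x).symm
          rw [show (x * f⁻¹) * (x * f⁻¹) = x * (f⁻¹ * x) * f⁻¹ by group, hcomm,
            show x * (x * f⁻¹) * f⁻¹ = x ^ 2 * (f * f)⁻¹ by simp only [sq]; group, hff, mul_inv_cancel]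
        rcases involution_eq hX hWfree (hΦW hzΦ) hgW (mul_mem hx (inv_mem (hΦW hfΦ))) hz hz1 hg2 hy2
          (hΦcen _ g.2 _) (hΦcen _ g.2 z) (hzc _).symm with e | e
        · rw [mul_inv_eq_one.1 e]; exact hfΦ
        · rw [mul_inv_eq_iff_eq_mul.1 e]; exact mul_mem hzΦ hfΦ
      have hodd' : ∀ x, x ∉ W → ∃ k : ℤ, x ^ 2 = (g : X) ^ (2 * k + 1) := by
        intro x hx
        obtain ⟨k, hk⟩ := hgen _ (hsq x)
        rcases Int.even_or_odd k with ⟨t, ht⟩ | ⟨t, ht⟩
        · refine absurd ?_ hx
          show x ^ 2 ∈ Φ₂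
          exact ⟨t, by rw [hk, ht, zpow_add]; exact (Commute.refl (g : X)).mul_zpow t⟩
        · exact ⟨t, by rw [hk, ht]⟩
      refine htwo (fun x => x ∈ W) (fun x y hx hy => hWΦ _ ?_) hWΦ
      show (x * y) ^ 2 ∈ Φ₂
      rw [hsqmul, mul_assoc, hΦcen _ (hsq y) ⁅x⁻¹, y⁆, ← mul_assoc]
      refine mul_mem ?_ ?_
      · obtain ⟨i, hi⟩ := hodd' x hx
        obtain ⟨j, hj⟩ := hodd' y hy
        refine ⟨i + j + 1, ?_⟩
        show ((g : X) * g) ^ (i + j + 1) = x ^ 2 * y ^ 2
        rw [hi, hj, ← zpow_add, (Commute.refl (g : X)).mul_zpow, ← zpow_add]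
        congr 1
        ring
      · rcases hcommz x⁻¹ y with e | e <;> rw [e]
        exacts [one_mem _, hzΦ₂]
  · -- four-group Frattini subgroup: special
    refine Or.inr (Or.inr ?_)
    have hΦcomm : ∀ u ∈ Φ, ∀ v ∈ Φ, u * v = v * u := by
      intro u hu v hv
      exact congrArg Subtype.val
        (mul_comm_of_mem_two (fun w : Φ => Subtype.ext (hΦ2 w w.2)) (⟨u, hu⟩ : Φ) ⟨v, hv⟩)
    have hΦne : Φ ≠ ⊥ := by
      intro h; rw [show frattini X = ⊥ from h, Subgroup.card_bot] at hΦ4; omega
    obtain ⟨z, hzΦ, hz, hz1, hzc⟩ := exists_central_involution hX Φ hΦne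
    obtain ⟨a, haΦ, haz⟩ : ∃ a ∈ Φ, a ∉ Subgroup.zpowers z := by
      by_contra! hall
      have := Subgroup.card_le_of_le (hall : Φ ≤ Subgroup.zpowers z)
      rw [Nat.card_zpowers, orderOf_eq_prime (by rw [sq]; exact hz) hz1, hΦ4] at this
      omega
    have ha1 : a ≠ 1 := fun e => haz (e ▸ one_mem _)
    have haz' : a ≠ z := fun e => haz (e ▸ Subgroup.mem_zpowers z)
    have hcomb : ∀ W : Subgroup X, IsFree W → z ∈ W → a ∈ W → ∀ y ∈ W, a * y = y * a → y ∈ Φ := by
      intro W hW hzW haW y hy hay
      rcases four_of_free hX hW hzW haW hy hz (hΦ2 a haΦ) hz1 ha1 (Ne.symm haz') (hzc a).symm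
        (hzc y).symm hay with rfl | rfl | rfl | rfl
      exacts [one_mem _, hzΦ, haΦ, mul_mem hzΦ haΦ]
    have hΦset : ∀ b ∈ Φ, b = 1 ∨ b = z ∨ b = a ∨ b = z * a := fun b hb =>
      four_of_free hX hΦfree hzΦ haΦ hb hz (hΦ2 a haΦ) hz1 ha1 (Ne.symm haz') (hzc a).symm
        (hzc b).symm (hΦcomm a haΦ b hb)
    have hΦcen : ∀ f ∈ Φ, ∀ x, x * f = f * x := by
      by_contra hnot
      set C := Subgroup.centralizer (Φ : Set X) with hCdef
      have hC : C ≠ ⊤ := by
        intro h
        apply hnot
        intro f hf x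
        exact ((Subgroup.mem_centralizer_iff.1 (h ▸ Subgroup.mem_top x : x ∈ C)) f hf).symm
      have hCfree : IsFree C := hinv C hC hcentΦinv
      have hΦC : Φ ≤ C := fun x hx => Subgroup.mem_centralizer_iff.2 fun y hy => hΦcomm y hy x hx
      have hCΦ : ∀ y, y ∈ C → y ∈ Φ := fun y hy =>
        hcomb C hCfree (hΦC hzΦ) (hΦC haΦ) y hy (Subgroup.mem_centralizer_iff.1 hy a haΦ)
      have hmem : ∀ x, x * a * x⁻¹ = a → x ∈ C := by
        intro x hx
        rw [hCdef, Subgroup.mem_centralizer_iff]
        intro b hb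
        have ha' : x * a = a * x := mul_inv_eq_iff_eq_mul.1 hx
        rcases hΦset b hb with rfl | rfl | rfl | rfl
        · simp
        · exact (hzc x).symm
        · exact ha'.symm
        · rw [mul_assoc, ← ha', ← mul_assoc, ← hzc x, mul_assoc]
      have hcase : ∀ x, x * a * x⁻¹ = a ∨ x * a * x⁻¹ = z * a := by
        intro x
        rcases hΦset _ (hΦn.conj_mem a haΦ x) with e | e | e | e
        · exact absurd (conj_eq_one_iff.1 e) ha1
        · refine absurd ?_ haz'
          calc a = x⁻¹ * (x * a * x⁻¹) * x := by group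
            _ = x⁻¹ * z * x := by rw [e]
            _ = z := by rw [hzc x⁻¹, inv_mul_cancel_right]
        · exact Or.inl e
        · exact Or.inr e
      refine htwo (fun x => x * a * x⁻¹ = a) (fun x y hx hy => hCΦ _ (hmem _ ?_)) (fun x hx => hCΦ x (hmem x hx))
      rw [show x * y * a * (x * y)⁻¹ = x * (y * a * y⁻¹) * x⁻¹ by group, (hcase y).resolve_left hy,
        show x * (z * a) * x⁻¹ = x * z * x⁻¹ * (x * a * x⁻¹) by group, hzc x, mul_inv_cancel_right,
        (hcase x).resolve_left hx, ← mul_assoc, hz, one_mul]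
    have hcen : Subgroup.center X = Φ := by
      refine le_antisymm (fun y hy => ?_) (fun f hf => Subgroup.mem_center_iff.2 (hΦcen f hf))
      refine hcomb (Subgroup.center X) ?_ (Subgroup.mem_center_iff.2 hzc)
        (Subgroup.mem_center_iff.2 (hΦcen a haΦ)) y hy (Subgroup.mem_center_iff.1 hy a)
      refine hinv _ ?_ fun φ _ x hx => ?_
      · intro h
        exact hncomm ⟨⟨fun u v => Subgroup.mem_center_iff.1 (h ▸ Subgroup.mem_top v : v ∈ Subgroup.center X) u⟩⟩
      · rw [Subgroup.mem_center_iff] at hx ⊢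
        intro g
        obtain ⟨g', rfl⟩ := φ.surjective g
        rw [← map_mul, ← map_mul, hx]
    have hD : commutator X = Φ := by
      set D := commutator X with hDdef
      haveI hDch : D.Characteristic := by rw [hDdef]; infer_instance
      refine le_antisymm (commutator_le_frattini hX) ?_
      by_contra hΦD
      let W : Subgroup X :=
        { carrier := {x | x ^ 2 ∈ D}
          one_mem' := by show (1 : X) ^ 2 ∈ D; rw [one_pow]; exact one_mem _
          mul_mem' := fun {x y} hx hy => by
            show (x * y) ^ 2 ∈ D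
            rw [show (x * y) ^ 2 = x ^ 2 * ⁅x⁻¹, y⁆ * y ^ 2 by
              simp only [commutatorElement_def, inv_inv, sq]; group]
            exact mul_mem (mul_mem hx
              (Subgroup.commutator_mem_commutator (Subgroup.mem_top _) (Subgroup.mem_top _))) hy
          inv_mem' := fun {x} hx => by show x⁻¹ ^ 2 ∈ D; rw [inv_pow]; exact inv_mem hx }
      have hWinv : ∀ φ ∈ Γ, ∀ x ∈ W, φ x ∈ W := fun φ _ x hx => by
        show (φ x) ^ 2 ∈ D
        rw [← map_pow]
        exact (SetLike.ext_iff.1 (Subgroup.Characteristic.fixed hDch φ) _).2 hx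
      have hWtop : W ≠ ⊤ := by
        intro h
        exact hΦD (frattini_le_of_pow_commutator (p := 2) D (fun x => (h ▸ Subgroup.mem_top x : x ∈ W))
          le_rfl)
      have hΦW : ∀ f ∈ Φ, f ∈ W := fun f hf => by
        show f ^ 2 ∈ D
        rw [sq, hΦ2 f hf]; exact one_mem _
      have hWΦ : ∀ y, y ∈ W → y ∈ Φ := fun y hy =>
        hcomb W (hinv W hWtop hWinv) (hΦW z hzΦ) (hΦW a haΦ) y hy (hΦcen a haΦ y).symm
      obtain ⟨x₀, y₀, hxy⟩ : ∃ x y : X, ⁅x, y⁆ ≠ 1 := by
        by_contra! h
        exact hncomm ⟨⟨fun x y => commutatorElement_eq_one_iff_mul_comm.1 (h x y)⟩⟩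
      have hd : ⁅x₀, y₀⁆ ∈ D := Subgroup.commutator_mem_commutator (Subgroup.mem_top _) (Subgroup.mem_top _)
      have hnot : ∀ p ∈ Φ, ∀ q ∈ Φ, p ∉ D → q ∉ D → p * q ∈ D := by
        intro p hp q hq hpD hqD
        by_cases hpq : p = q
        · rw [← hpq, hΦ2 p hp]; exact one_mem _
        by_contra hne
        have hd1 : ⁅x₀, y₀⁆ ≠ p * q := fun e => hne (e ▸ hd)
        have hdp : ⁅x₀, y₀⁆ ≠ p := fun e => hpD (e ▸ hd)
        have hdq : ⁅x₀, y₀⁆ ≠ q := fun e => hqD (e ▸ hd)
        have hp1 : p ≠ 1 := fun e => hpD (e ▸ one_mem _)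
        have hq1 : q ≠ 1 := fun e => hqD (e ▸ one_mem _)
        have hpq1 : p * q ≠ 1 := fun e => hpq ((eq_inv_of_mul_eq_one_left e).trans
          (inv_eq_of_mul_eq_one_right (hΦ2 q hq)))
        have hpqp : p * q ≠ p := fun e => hq1 (mul_left_cancel (e.trans (mul_one p).symm))
        have hpqq : p * q ≠ q := fun e => hp1 (mul_right_cancel (e.trans (one_mul q).symm))
        have hsub : ({1, p, q, p * q, ⁅x₀, y₀⁆} : Set X) ⊆ (Φ : Set X) := by
          rintro c (rfl | rfl | rfl | rfl | rfl)
          exacts [one_mem _, hp, hq, mul_mem hp hq, hcm x₀ y₀]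
        have h5 : ({1, p, q, p * q, ⁅x₀, y₀⁆} : Set X).ncard = 5 := by
          rw [Set.ncard_insert_of_notMem (by simp [Ne.symm hp1, Ne.symm hq1, Ne.symm hpq1, Ne.symm hxy]),
            Set.ncard_insert_of_notMem (by simp [hpq, Ne.symm hpqp, Ne.symm hdp]),
            Set.ncard_insert_of_notMem (by simp [Ne.symm hpqq, Ne.symm hdq]),
            Set.ncard_pair (Ne.symm hd1)]
        have h4 := (Set.ncard_le_ncard hsub (Set.toFinite _)).trans_eq (Nat.card_coe_set_eq (Φ : Set X)).symm
        rw [h5] at h4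
        change 5 ≤ Nat.card (frattini X) at h4
        omega
      refine htwo (fun x => x ^ 2 ∈ D) (fun x y hx hy => hWΦ _ ?_) hWΦ
      show (x * y) ^ 2 ∈ D
      rw [show (x * y) ^ 2 = x ^ 2 * ⁅x⁻¹, y⁆ * y ^ 2 by
        simp only [commutatorElement_def, inv_inv, sq]; group,
        mul_assoc, hΦcen _ (hsq y) ⁅x⁻¹, y⁆, ← mul_assoc]
      exact mul_mem (hnot _ (hsq x) _ (hsq y) hx hy)
        (Subgroup.commutator_mem_commutator (Subgroup.mem_top _) (Subgroup.mem_top _))
    exact ⟨⟨hX, hcen.symm, hD.trans hcen.symm⟩, by rw [hcen]; exact hΦ4⟩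

end Cfsg.Agent.Lib.MinFreeClassify76
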