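import Cfsg.Agent.Lib.NineDihedralModule76
import Cfsg.Prelude.Def_Transfer

/-!
`3^2 : D_8` acting faithfully and irreducibly over `GF(2)`: the frame and the four-groups.
-/

set_option autoImplicit false
set_option linter.style.haveILetI false

namespace Cfsg.Agent.Lib.NineDihedral76

open DihedralGroup NineDihedralModule76

/-- The four-group `{1, r^2, sr k, sr (k+2)}` of the dihedral group of order 8. -/
def K4 (k : ZMod 4) : Subgroup (DihedralGroup 4) where
  carrier := {d | d = r 0 ∨ d = r 2 ∨ d = sr k ∨ d = sr (k + 2)}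
  one_mem' := Or.inl one_def
  mul_mem' {a b} ha hb := by
    revert ha hb; revert a b
    show ∀ a b : DihedralGroup 4, (a = r 0 ∨ a = r 2 ∨ a = sr k ∨ a = sr (k + 2)) →
      (b = r 0 ∨ b = r 2 ∨ b = sr k ∨ b = sr (k + 2)) →
      (a * b = r 0 ∨ a * b = r 2 ∨ a * b = sr k ∨ a * b = sr (k + 2))
    revert k; decide
  inv_mem' {a} ha := by
    revert ha; revert a
    show ∀ a : DihedralGroup 4, (a = r 0 ∨ a = r 2 ∨ a = sr k ∨ a = sr (k + 2)) →
      (a⁻¹ = r 0 ∨ a⁻¹ = r 2 ∨ a⁻¹ = sr k ∨ a⁻¹ = sr (k + 2))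
    revert k; decide

theorem mem_K4 {k : ZMod 4} {d : DihedralGroup 4} :
    d ∈ K4 k ↔ (d = r 0 ∨ d = r 2 ∨ d = sr k ∨ d = sr (k + 2)) := Iff.rfl

theorem card_K4 (k : ZMod 4) : Nat.card (K4 k) = 4 := by
  classical
  rw [← SetLike.coe_sort_coe, Nat.card_coe_set_eq,
    show ((K4 k : Subgroup _) : Set (DihedralGroup 4)) =
      ↑({r 0, r 2, sr k, sr (k + 2)} : Finset (DihedralGroup 4)) from Set.ext fun d => by
        simp [mem_K4],
    Set.ncard_coe_finset]
  revert k; decide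

theorem sq_K4 {k : ZMod 4} {d : DihedralGroup 4} (h : d ∈ K4 k) : d * d = 1 := by
  rw [mem_K4] at h; revert h; revert d k; decide

theorem two_cases : ∀ (k : ZMod 4) (x y : DihedralGroup 4), x * x = 1 → y * y = 1 →
    x * y * (x * y) = 1 → (x = r 0 ∨ x = r 2 ∨ x = sr k ∨ x = sr (k + 2)) ∨
      (y = r 0 ∨ y = r 2 ∨ y = sr (k + 1) ∨ y = sr (k + 1 + 2)) := by decide

variable {S : Type*} [Group S] [Finite S]

theorem mem_closure_gens {φ : DihedralGroup 4 →* S} (k : ZMod 4) (H : Subgroup S)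
    (h1 : φ (r 1) ∈ H) (h2 : φ (sr k) ∈ H) (d : DihedralGroup 4) : φ d ∈ H := by
  have hr : ∀ i : ZMod 4, φ (r i) ∈ H := fun i => by
    rw [show r i = (r 1) ^ i.val by rw [r_one_pow, ZMod.natCast_val, ZMod.cast_id], map_pow]
    exact pow_mem h1 _
  cases d with
  | r i => exact hr i
  | sr i =>
    rw [show sr i = sr k * r (i - k) by rw [sr_mul_r]; congr 1; abel, map_mul]
    exact mul_mem h2 (hr _)

variable {M : Type*} [AddCommGroup M] [Module (ZMod 2) M] (ρ : Representation (ZMod 2) S M)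

/-- The fixed spaces of two elements. -/
def fixSub (e : S) : Submodule (ZMod 2) M where
  carrier := {v | ρ e v = v}
  add_mem' {a b} ha hb := show ρ e (a + b) = a + b by rw [map_add, ha, hb]
  zero_mem' := map_zero _
  smul_mem' c u hu := show ρ e (c • u) = c • u by rw [map_smul, hu]

theorem main (A : Subgroup S) [A.Normal] (hAc : ∀ a ∈ A, ∀ b ∈ A, a * b = b * a)
    (hA3 : ∀ a ∈ A, a ^ 3 = 1) (hA9 : Nat.card A = 9)
    (hAC : Subgroup.centralizer (A : Set S) = A) (X : Subgroup S)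
    (φ : DihedralGroup 4 →* S) (hφ : Function.Injective φ) (hφX : φ.range = X)
    (hAX : A ⊔ X = ⊤) [Finite M] [Nontrivial M] (hfaith : Function.Injective ρ)
    (hirr : ∀ N : Submodule (ZMod 2) M, (∀ s : S, ∀ m ∈ N, ρ s m ∈ N) → N = ⊥ ∨ N = ⊤) :
    Nat.card M = 16 ∧
      ∃! B : Subgroup S, B ≤ X ∧ Nat.card ↥B = 4 ∧ (∀ b ∈ B, b ^ 2 = 1) ∧
        Nat.card {m : M // ∀ b ∈ B, ρ b m = m} = 2 := by
  classical
  haveI : Fact (Nat.Prime 3) := ⟨Nat.prime_three⟩
  have hconj : ∀ (x a : S), a ∈ A → x * a * x⁻¹ ∈ A := fun x a ha =>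
    Subgroup.Normal.conj_mem inferInstance a ha x
  have ne_inv : ∀ a ∈ A, a⁻¹ = a → a = 1 := fun a ha h => by
    have h2 : a * a = 1 := inv_eq_iff_mul_eq_one.1 h
    have h3 := hA3 a ha
    rw [pow_succ, pow_two, h2, one_mul] at h3
    exact h3
  have hφne : ∀ d, d ≠ 1 → ∃ a ∈ A, φ d * a * (φ d)⁻¹ ≠ a := by
    intro d hd
    by_contra h
    simp only [not_exists, not_and, not_not] at h
    have hmem : φ d ∈ A := by
      rw [← hAC, Subgroup.mem_centralizer_iff]
      exact fun a ha => (mul_inv_eq_iff_eq_mul.1 (h a ha)).symm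
    have h1 : orderOf (φ d) ∣ 9 := by
      have := orderOf_dvd_natCard (⟨φ d, hmem⟩ : A)
      rwa [← orderOf_submonoid, hA9] at this
    have h2 : orderOf (φ d) ∣ 8 := by
      rw [orderOf_injective φ hφ]
      have := orderOf_dvd_natCard d
      rwa [DihedralGroup.nat_card] at this
    exact hd (hφ (by
      rw [map_one, ← orderOf_eq_one_iff]
      exact Nat.eq_one_of_dvd_coprimes (by norm_num) h1 h2))
  -- the central involution inverts `A`
  set Z := φ (r 2) with hZdef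
  set R := φ (r 1) with hRdef
  have hRR : R * R = Z := by rw [hRdef, hZdef, ← map_mul, r_mul_r]; rfl
  have hZZ : Z * Z = 1 := by
    rw [hZdef, ← map_mul, r_mul_r, show (2 + 2 : ZMod 4) = 0 from rfl, r_zero, map_one]
  have hZinv : ∀ a ∈ A, Z * a * Z⁻¹ = a⁻¹ := by
    by_contra hcon
    obtain ⟨a, ha, hza⟩ := hφne (r 2) (by decide)
    set g := a⁻¹ * (Z * a * Z⁻¹) with hg
    have hgA : g ∈ A := mul_mem (inv_mem ha) (hconj Z a ha)
    have hgi : Z * g * Z⁻¹ = g⁻¹ := by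
      rw [hg]
      calc Z * (a⁻¹ * (Z * a * Z⁻¹)) * Z⁻¹ = (Z * a * Z⁻¹)⁻¹ * ((Z * Z) * a * (Z * Z)⁻¹) := by
            group
        _ = _ := by rw [hZZ]; group
    have hg1 : g ≠ 1 := fun h => hza (inv_mul_eq_one.1 h).symm
    let V : Subgroup S :=
      { carrier := {x | x ∈ A ∧ Z * x * Z⁻¹ = x⁻¹}
        one_mem' := ⟨one_mem A, by group⟩
        mul_mem' := fun {x y} hx hy => ⟨mul_mem hx.1 hy.1, by
          rw [show Z * (x * y) * Z⁻¹ = (Z * x * Z⁻¹) * (Z * y * Z⁻¹) by group, hx.2, hy.2,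
            ← mul_inv_rev, hAc y hy.1 x hx.1]⟩
        inv_mem' := fun {x} hx => ⟨inv_mem hx.1, by
          rw [show Z * x⁻¹ * Z⁻¹ = (Z * x * Z⁻¹)⁻¹ by group, hx.2]⟩ }
    have hVA : V ≤ A := fun x hx => hx.1
    have hVne : V ≠ A := fun h => hcon fun x hx => (h.ge hx).2
    have hgV : g ∈ V := ⟨hgA, hgi⟩
    have hV3 : Nat.card V = 3 := by
      have h1 : Nat.card V ∣ 3 ^ 2 := by
        have := Subgroup.card_dvd_of_le hVA; rwa [hA9] at this
      obtain ⟨i, hi, hVi⟩ := (Nat.dvd_prime_pow Nat.prime_three).1 h1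
      interval_cases i
      · exact absurd ((Subgroup.card_eq_one.1 (by simpa using hVi) ▸ hgV : g ∈ (⊥ : Subgroup S)))
          (by simpa using hg1)
      · simpa using hVi
      · exact absurd (Subgroup.eq_of_le_of_card_ge hVA (by rw [hA9, hVi]; norm_num)) hVne
    have hVg : V = Subgroup.zpowers g := (Subgroup.eq_of_le_of_card_ge (Subgroup.zpowers_le.2 hgV)
      (by rw [Nat.card_zpowers, hV3, orderOf_eq_prime (hA3 g hgA) hg1])).symm
    have hcomm : R * Z = Z * R := by rw [← hRR, mul_assoc]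
    have hRg : R * g * R⁻¹ ∈ V := ⟨hconj R g hgA, by
      calc Z * (R * g * R⁻¹) * Z⁻¹ = (Z * R) * g * (Z * R)⁻¹ := by group
        _ = (R * Z) * g * (R * Z)⁻¹ := by rw [hcomm]
        _ = R * (Z * g * Z⁻¹) * R⁻¹ := by group
        _ = _ := by rw [hgi]; group⟩
    rw [hVg] at hRg
    obtain ⟨n, hn⟩ := hRg
    have hn' : g ^ n = R * g * R⁻¹ := hn
    have h2 : Z * g * Z⁻¹ = g ^ (n * n) := by
      rw [zpow_mul, hn', conj_zpow, hn', ← hRR]; group
    rw [hgi] at h2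
    have h3 : ((g : S) ^ (3 : ℤ)) = 1 := by
      rw [show (3 : ℤ) = ((3 : ℕ) : ℤ) from rfl, zpow_natCast, hA3 g hgA]
    have hmod : g ^ (n * n) = g ^ (n * n % 3) := zpow_eq_zpow_emod' _ (by exact_mod_cast hA3 g hgA)
    rw [hmod] at h2
    have hcases : n * n % 3 = 0 ∨ n * n % 3 = 1 := by
      rw [Int.mul_emod]
      have h0 := Int.emod_nonneg n (show (3 : ℤ) ≠ 0 by norm_num)
      have h1 := Int.emod_lt_of_pos n (show (0 : ℤ) < 3 by norm_num)
      interval_cases (n % 3) <;> norm_num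
    rcases hcases with h | h <;> rw [h] at h2
    · rw [zpow_zero, inv_eq_one] at h2; exact hg1 h2
    · rw [zpow_one] at h2; exact hg1 (ne_inv g hgA h2)
  -- the frame
  obtain ⟨a, ha, hba⟩ := hφne (sr 0) (by decide)
  set Bq := φ (sr 0) with hBq
  have hBB : Bq * Bq = 1 := by rw [hBq, ← map_mul, sr_mul_sr, sub_self, r_zero, map_one]
  set e₁ := a⁻¹ * (Bq * a * Bq⁻¹) with he₁
  have h1A : e₁ ∈ A := mul_mem (inv_mem ha) (hconj _ a ha)
  have hb1 : Bq * e₁ * Bq⁻¹ = e₁⁻¹ := by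
    rw [he₁]
    calc Bq * (a⁻¹ * (Bq * a * Bq⁻¹)) * Bq⁻¹
        = (Bq * a * Bq⁻¹)⁻¹ * ((Bq * Bq) * a * (Bq * Bq)⁻¹) := by group
      _ = _ := by rw [hBB]; group
  have he₁1 : e₁ ≠ 1 := fun h => hba (inv_mul_eq_one.1 h).symm
  clear_value e₁
  set e₂ := R * e₁ * R⁻¹ with he₂
  have h2A : e₂ ∈ A := hconj R e₁ h1A
  have hr2 : R * e₂ * R⁻¹ = e₁⁻¹ := by
    rw [he₂, ← hZinv e₁ h1A, ← hRR]; group
  have hb2 : Bq * e₂ * Bq⁻¹ = e₂ := by
    have h : Bq * R = R * Z * Bq := by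
      rw [hBq, hRdef, hZdef, ← map_mul, ← map_mul, ← map_mul, sr_mul_r, r_mul_r, r_mul_sr]; rfl
    calc Bq * e₂ * Bq⁻¹ = (Bq * R) * e₁ * (Bq * R)⁻¹ := by rw [he₂]; group
      _ = R * (Z * (Bq * e₁ * Bq⁻¹) * Z⁻¹) * R⁻¹ := by rw [h]; group
      _ = e₂ := by rw [hb1, hZinv _ (inv_mem h1A), inv_inv, he₂]
  clear_value e₂
  have hcl : Subgroup.closure {e₁, e₂} = A := by
    refine Subgroup.eq_of_le_of_card_ge ((Subgroup.closure_le A).2
      (Set.insert_subset h1A (Set.singleton_subset_iff.2 h2A))) ?_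
    set C := Subgroup.closure ({e₁, e₂} : Set S)
    have h1 : Nat.card C ∣ 3 ^ 2 := by
      have := Subgroup.card_dvd_of_le ((Subgroup.closure_le A).2
        (Set.insert_subset h1A (Set.singleton_subset_iff.2 h2A)))
      rwa [hA9] at this
    obtain ⟨i, hi, hCi⟩ := (Nat.dvd_prime_pow Nat.prime_three).1 h1
    have he1C : e₁ ∈ C := Subgroup.subset_closure (by simp)
    interval_cases i
    · exact absurd ((Subgroup.card_eq_one.1 (by simpa using hCi) ▸ he1C : e₁ ∈ (⊥ : Subgroup S)))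
        (by simpa using he₁1)
    · exfalso
      have hCe : C = Subgroup.zpowers e₁ := (Subgroup.eq_of_le_of_card_ge
        (Subgroup.zpowers_le.2 he1C)
        (by rw [Nat.card_zpowers, hCi, pow_one, orderOf_eq_prime (hA3 _ h1A) he₁1])).symm
      obtain ⟨n, hn⟩ : e₂ ∈ Subgroup.zpowers e₁ := hCe ▸ Subgroup.subset_closure (by simp)
      have hn' : e₁ ^ n = e₂ := hn
      have h3 := hb2
      rw [← hn', ← conj_zpow, hb1, inv_zpow, hn'] at h3
      have h4 : e₂ = 1 := ne_inv e₂ h2A h3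
      rw [he₂, conj_eq_one_iff] at h4
      exact he₁1 h4
    · rw [hA9, hCi]; norm_num
  have hgen : ∀ (f₁ f₂ : S) (k : ZMod 4), e₁ ∈ Subgroup.closure {f₁, f₂, φ (r 1), φ (sr k)} →
      e₂ ∈ Subgroup.closure {f₁, f₂, φ (r 1), φ (sr k)} →
      Subgroup.closure {f₁, f₂, φ (r 1), φ (sr k)} = ⊤ := by
    intro f₁ f₂ k h1 h2
    rw [eq_top_iff, ← hAX, sup_le_iff]
    refine ⟨?_, ?_⟩
    · rw [← hcl, Subgroup.closure_le]
      exact Set.insert_subset h1 (Set.singleton_subset_iff.2 h2)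
    · rw [← hφX]
      rintro _ ⟨d, rfl⟩
      exact mem_closure_gens k _ (Subgroup.subset_closure (by simp)) (Subgroup.subset_closure (by simp)) d
  -- no common fixed point
  have h0 : ∀ v, ρ e₁ v = v → ρ e₂ v = v → v = 0 := by
    intro v h1 h2
    rcases hirr (fixSub ρ e₁ ⊓ fixSub ρ e₂) (fun s m hm => by
      have key : ∀ x ∈ A, ρ x m = m := by
        intro x hx
        rw [← hcl] at hx
        induction hx using Subgroup.closure_induction with
        | mem y hy => rcases hy with rfl | rfl; exacts [hm.1, hm.2]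
        | one => simp
        | mul x y _ _ ihx ihy => rw [← mv, ihy, ihx]
        | inv x _ ih => conv_lhs => rw [← ih, mv, inv_mul_cancel, map_one]
                        rfl
      have hs : ∀ x ∈ A, ρ x (ρ s m) = ρ s m := fun x hx => by
        rw [mv, show x * s = s * (s⁻¹ * x * s) by group, ← mv, key _ (by
          simpa using hconj s⁻¹ x hx)]
      exact ⟨hs e₁ h1A, hs e₂ h2A⟩) with h | h
    · exact (Submodule.eq_bot_iff _).1 h v ⟨h1, h2⟩
    · exfalso
      refine he₁1 (hfaith (LinearMap.ext fun m => ?_))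
      rw [map_one]
      exact (show m ∈ fixSub ρ e₁ ⊓ fixSub ρ e₂ by rw [h]; trivial).1
  -- the decomposition into the four lines
  have hsum : ∀ v, ∃ v₁ ∈ fixSub ρ e₁ ⊔ fixSub ρ e₂, ∃ v₂ ∈ fixSub ρ (e₁ * e₂⁻¹) ⊔ fixSub ρ (e₂ * e₁),
      v₁ + v₂ = v := by
    intro v
    set x := ρ e₁ with hx
    set y := ρ e₂ with hy
    have hxy : ∀ v, x (y v) = y (x v) := fun v => by rw [hx, hy, mv, mv, hAc _ h1A _ h2A]
    have x3 : ∀ v, x (x (x v)) = v := fun v => by
      rw [hx, mv, mv, ← pow_two, ← pow_succ, hA3 _ h1A, map_one]; rfl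
    have y3 : ∀ v, y (y (y v)) = v := fun v => by
      rw [hy, mv, mv, ← pow_two, ← pow_succ, hA3 _ h2A, map_one]; rfl
    have hx' : ∀ v, ρ (e₁ * e₂⁻¹) v = x (y (y v)) := fun v => by
      rw [hx, hy, mv, mv, mul_assoc, ← pow_two,
        show e₂⁻¹ = e₂ ^ 2 from inv_eq_of_mul_eq_one_right (by rw [← pow_succ', hA3 _ h2A])]
    have hy' : ∀ v, ρ (e₂ * e₁) v = y (x v) := fun v => by rw [hx, hy, mv]
    have hall : (v + y v + y (y v)) + x (v + y v + y (y v)) + x (x (v + y v + y (y v))) = 0 :=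
      h0 _ (by simp only [map_add, ← hx]; rw [x3, x3, x3]; abel)
        (by simp only [map_add, ← hy, ← hxy]; rw [y3]; abel)
    refine ⟨(v + x v + x (x v)) + (v + y v + y (y v)), Submodule.add_mem_sup ?_ ?_,
      (v + x (y (y v)) + x (x (y v))) + (v + y (x v) + x (x (y (y v)))),
      Submodule.add_mem_sup ?_ ?_, ?_⟩
    · show x _ = _; rw [map_add, map_add, x3]; abel
    · show y _ = _; rw [map_add, map_add, y3]; abel
    · show ρ _ _ = _
      rw [hx', map_add, map_add, map_add, map_add, map_add, map_add]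
      simp only [← hxy, y3, x3]
      abel
    · show ρ _ _ = _
      rw [hy', map_add, map_add, map_add, map_add]
      simp only [← hxy, y3, x3]
      abel
    · calc _ = ((v + y v + y (y v)) + x (v + y v + y (y v)) + x (x (v + y v + y (y v)))) +
            (v + v) + v := by simp only [map_add, ← hxy]; abel
        _ = v := by rw [hall, two_add, zero_add, zero_add]
  have hinv : ∀ s : S, ∀ m ∈ fixSub ρ e₁ ⊔ fixSub ρ e₂, ρ s m ∈ fixSub ρ e₁ ⊔ fixSub ρ e₂ := by
    intro s m hm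
    have hs : s ∈ Subgroup.closure {e₁, e₂, φ (r 1), φ (sr 0)} := by
      rw [hgen e₁ e₂ 0 (Subgroup.subset_closure (by simp)) (Subgroup.subset_closure (by simp))]
      trivial
    have step : ∀ g f₁ f₂ : S, g * f₁ = e₁ * g ∨ g * f₁ = e₂ * g ∨ g * f₁ = e₁⁻¹ * g →
        ∀ u, ρ f₁ u = u → ρ g u ∈ fixSub ρ e₁ ⊔ fixSub ρ e₂ := by
      intro g f₁ _ h u hu
      rcases h with h | h | h
      · exact Submodule.mem_sup_left (show ρ e₁ (ρ g u) = ρ g u by rw [mv, ← h, ← mv, hu])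
      · exact Submodule.mem_sup_right (show ρ e₂ (ρ g u) = ρ g u by rw [mv, ← h, ← mv, hu])
      · refine Submodule.mem_sup_left (show ρ e₁ (ρ g u) = ρ g u from ?_)
        conv_lhs => rw [← hu]
        rw [mv, mv, mul_assoc, h, mul_inv_cancel_left]
    induction hs using Subgroup.closure_induction generalizing m with
    | mem g hg =>
      obtain ⟨p, hp, q, hq, rfl⟩ := Submodule.mem_sup.1 hm
      rw [map_add]
      rcases hg with hg | hg | hg | hg <;> rw [hg]
      · exact add_mem (step e₁ e₁ e₁ (Or.inl rfl) p hp)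
          (step e₁ e₂ e₂ (Or.inr (Or.inl (hAc _ h1A _ h2A))) q hq)
      · exact add_mem (step e₂ e₁ e₁ (Or.inl (hAc _ h2A _ h1A)) p hp)
          (step e₂ e₂ e₂ (Or.inr (Or.inl rfl)) q hq)
      · exact add_mem (step _ e₁ e₁ (Or.inr (Or.inl (mul_inv_eq_iff_eq_mul.1 he₂.symm))) p hp)
          (step _ e₂ e₂ (Or.inr (Or.inr (mul_inv_eq_iff_eq_mul.1 hr2))) q hq)
      · exact add_mem (step _ e₁ e₁ (Or.inr (Or.inr (mul_inv_eq_iff_eq_mul.1 hb1))) p hp)
          (step _ e₂ e₂ (Or.inr (Or.inl (mul_inv_eq_iff_eq_mul.1 hb2))) q hq)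
    | one => simpa using hm
    | mul x y _ _ ihx ihy => rw [← mv]; exact ihx _ (ihy m hm)
    | inv x _ ih =>
      have hinj : Function.Injective (fun z : ↥(fixSub ρ e₁ ⊔ fixSub ρ e₂) =>
          (⟨ρ x z, ih z z.2⟩ : ↥(fixSub ρ e₁ ⊔ fixSub ρ e₂))) := fun y z h => by
        have h' : ρ x y = ρ x z := congrArg Subtype.val h
        have := congrArg (ρ x⁻¹) h'
        rw [mv, mv, inv_mul_cancel, map_one] at this
        exact Subtype.ext this
      obtain ⟨z, hz⟩ := Finite.surjective_of_injective hinj ⟨m, hm⟩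
      have hz' : ρ x z = m := congrArg Subtype.val hz
      rw [← hz', mv, inv_mul_cancel, map_one]; exact z.2
  -- apply the frame computation
  obtain ⟨k, h16, hk4, hk2⟩ : ∃ k : ZMod 4, Nat.card M = 16 ∧ Nat.card (fixK ρ φ k) = 4 ∧
      Nat.card (fixK ρ φ (k + 1)) = 2 := by
    rcases hirr _ hinv with h | h
    · have hBR : φ (sr 1) = Bq * R := by rw [hBq, hRdef, ← map_mul, sr_mul_r, zero_add]
      have c12 := hAc _ h1A _ h2A
      set f₁ := e₁ * e₂⁻¹ with hf₁
      set f₂ := e₂ * e₁ with hf₂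
      have f1A : f₁ ∈ A := mul_mem h1A (inv_mem h2A)
      have f2A : f₂ ∈ A := mul_mem h2A h1A
      have hRf1 : R * f₁ * R⁻¹ = f₂ := by
        calc R * f₁ * R⁻¹ = (R * e₁ * R⁻¹) * (R * e₂ * R⁻¹)⁻¹ := by rw [hf₁]; group
          _ = f₂ := by rw [← he₂, hr2, inv_inv]
      have hRf2 : R * f₂ * R⁻¹ = f₁⁻¹ := by
        calc R * f₂ * R⁻¹ = (R * e₂ * R⁻¹) * (R * e₁ * R⁻¹) := by rw [hf₂]; group
          _ = f₁⁻¹ := by
            rw [← he₂, hr2, hf₁, mul_inv_rev, inv_inv, hAc _ (inv_mem h1A) _ h2A]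
      have hQ1 : (Bq * R) * e₁ * (Bq * R)⁻¹ = e₂ := by
        calc (Bq * R) * e₁ * (Bq * R)⁻¹ = Bq * (R * e₁ * R⁻¹) * Bq⁻¹ := by group
          _ = e₂ := by rw [← he₂, hb2]
      have hQ2 : (Bq * R) * e₂ * (Bq * R)⁻¹ = e₁ := by
        calc (Bq * R) * e₂ * (Bq * R)⁻¹ = (Bq * ((R * e₂ * R⁻¹)⁻¹) * Bq⁻¹)⁻¹ := by group
          _ = e₁ := by rw [hr2, inv_inv, hb1, inv_inv]
      have hQf1 : φ (sr 1) * f₁ * (φ (sr 1))⁻¹ = f₁⁻¹ := by
        calc φ (sr 1) * f₁ * (φ (sr 1))⁻¹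
            = ((Bq * R) * e₁ * (Bq * R)⁻¹) * ((Bq * R) * e₂ * (Bq * R)⁻¹)⁻¹ := by
              rw [hBR, hf₁]; group
          _ = f₁⁻¹ := by rw [hQ1, hQ2, hf₁, mul_inv_rev, inv_inv]
      have hQf2 : φ (sr 1) * f₂ * (φ (sr 1))⁻¹ = f₂ := by
        calc φ (sr 1) * f₂ * (φ (sr 1))⁻¹
            = ((Bq * R) * e₂ * (Bq * R)⁻¹) * ((Bq * R) * e₁ * (Bq * R)⁻¹) := by
              rw [hBR, hf₂]; group
          _ = f₂ := by rw [hQ1, hQ2, hf₂, c12]
      have he : e₁ ∈ Subgroup.closure {f₁, f₂, φ (r 1), φ (sr 1)} := by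
        have h2 : e₁ * e₁ ∈ Subgroup.closure {f₁, f₂, φ (r 1), φ (sr 1)} := by
          have := mul_mem (Subgroup.subset_closure (show f₁ ∈ ({f₁, f₂, φ (r 1), φ (sr 1)} : Set S) by simp))
            (Subgroup.subset_closure (show f₂ ∈ ({f₁, f₂, φ (r 1), φ (sr 1)} : Set S) by simp))
          rwa [hf₁, hf₂, mul_assoc, inv_mul_cancel_left] at this
        have h4 := mul_mem h2 h2
        rwa [show e₁ * e₁ * (e₁ * e₁) = e₁ ^ 3 * e₁ by rw [pow_succ, pow_two]; group, hA3 _ h1A,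
          one_mul] at h4
      refine ⟨1, core ρ φ f₁ f₂ 1 (hA3 _ f1A) (hA3 _ f2A) (hAc _ f1A _ f2A)
        (mul_inv_eq_iff_eq_mul.1 hRf1) ?_ ?_ (mul_inv_eq_iff_eq_mul.1 hQf2) ?_ hirr ?_ ?_⟩
      · rw [mul_inv_eq_iff_eq_mul.1 hRf2, mul_inv_cancel_left]
      · rw [mul_inv_eq_iff_eq_mul.1 hQf1, mul_inv_cancel_left]
      · refine hgen f₁ f₂ 1 he ?_
        have := mul_mem (Subgroup.subset_closure (show f₂ ∈ ({f₁, f₂, φ (r 1), φ (sr 1)} : Set S) by simp))
          (inv_mem he)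
        rwa [hf₂, mul_inv_cancel_right] at this
      · intro v hv1 hv2
        refine h0 v ?_ ?_
        all_goals
          have key : ∀ x ∈ Subgroup.closure ({f₁, f₂} : Set S), ρ x v = v := by
            intro x hx
            induction hx using Subgroup.closure_induction with
            | mem y hy => rcases hy with rfl | rfl; exacts [hv1, hv2]
            | one => simp
            | mul x y _ _ ihx ihy => rw [← mv, ihy, ihx]
            | inv x _ ih => conv_lhs => rw [← ih, mv, inv_mul_cancel, map_one]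
                            rfl
          have m1 : e₁ ∈ Subgroup.closure ({f₁, f₂} : Set S) := by
            have h2 : e₁ * e₁ ∈ Subgroup.closure ({f₁, f₂} : Set S) := by
              have := mul_mem (Subgroup.subset_closure (show f₁ ∈ ({f₁, f₂} : Set S) by simp))
                (Subgroup.subset_closure (show f₂ ∈ ({f₁, f₂} : Set S) by simp))
              rwa [hf₁, hf₂, mul_assoc, inv_mul_cancel_left] at this
            have h4 := mul_mem h2 h2
            rwa [show e₁ * e₁ * (e₁ * e₁) = e₁ ^ 3 * e₁ by rw [pow_succ, pow_two]; group,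
              hA3 _ h1A, one_mul] at h4
        · exact key _ m1
        · refine key _ ?_
          have := mul_mem (Subgroup.subset_closure (show f₂ ∈ ({f₁, f₂} : Set S) by simp)) (inv_mem m1)
          rwa [hf₂, mul_inv_cancel_right] at this
      · intro v
        obtain ⟨v₁, hv₁, v₂, hv₂, rfl⟩ := hsum v
        rw [h] at hv₁
        rw [(Submodule.mem_bot _).1 hv₁, zero_add]
        obtain ⟨p, hp, q, hq, rfl⟩ := Submodule.mem_sup.1 hv₂
        exact ⟨p, q, hp, hq, rfl⟩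
    · refine ⟨0, core ρ φ e₁ e₂ 0 (hA3 _ h1A) (hA3 _ h2A) (hAc _ h1A _ h2A)
        (mul_inv_eq_iff_eq_mul.1 he₂.symm) ?_ ?_ (mul_inv_eq_iff_eq_mul.1 hb2)
        (hgen e₁ e₂ 0 (Subgroup.subset_closure (by simp)) (Subgroup.subset_closure (by simp)))
        hirr h0 fun v => ?_⟩
      · rw [mul_inv_eq_iff_eq_mul.1 hr2, mul_inv_cancel_left]
      · rw [mul_inv_eq_iff_eq_mul.1 hb1, mul_inv_cancel_left]
      · obtain ⟨p, hp, q, hq, hpq⟩ := Submodule.mem_sup.1
          (show v ∈ fixSub ρ e₁ ⊔ fixSub ρ e₂ by rw [h]; trivial)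
        exact ⟨p, q, hp, hq, hpq⟩
  -- the four-groups
  have hfix : ∀ j : ZMod 4, Nat.card {m : M // ∀ b ∈ (K4 j).map φ, ρ b m = m}
      = Nat.card (fixK ρ φ j) := by
    intro j
    refine Nat.card_congr (Equiv.subtypeEquivRight fun m => ⟨fun h => ⟨?_, ?_⟩, fun h b hb => ?_⟩)
    · exact h _ ⟨_, mem_K4.2 (Or.inr (Or.inl rfl)), rfl⟩
    · exact h _ ⟨_, mem_K4.2 (Or.inr (Or.inr (Or.inl rfl))), rfl⟩
    · obtain ⟨d, hd, rfl⟩ := hb
      obtain ⟨hz, hs⟩ := h
      rcases mem_K4.1 hd with rfl | rfl | rfl | rfl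
      · rw [← DihedralGroup.one_def, map_one, map_one]; rfl
      · exact hz
      · exact hs
      · rw [show sr (j + 2) = sr j * r 2 by rw [sr_mul_r], map_mul, ← mv, hz, hs]
  refine ⟨h16, (K4 (k + 1)).map φ, ⟨hφX ▸ Subgroup.map_le_range φ _, ?_, ?_,
    (hfix _).trans hk2⟩, ?_⟩
  · rw [Subgroup.card_map_of_injective hφ, card_K4]
  · rintro _ ⟨d, hd, rfl⟩
    rw [pow_two, ← map_mul, sq_K4 hd, map_one]
  rintro B ⟨hBX, hB4, hB2, hBf⟩
  have hBmap : (B.comap φ).map φ = B := Subgroup.map_comap_eq_self (hBX.trans hφX.ge)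
  have hsq : ∀ d ∈ B.comap φ, d * d = 1 := fun d hd => hφ (by
    rw [map_mul, map_one, ← pow_two]; exact hB2 _ hd)
  have hle : B.comap φ ≤ K4 k ∨ B.comap φ ≤ K4 (k + 1) := by
    by_contra hcon
    simp only [not_or, SetLike.not_le_iff_exists] at hcon
    obtain ⟨⟨x, hx, hxn⟩, ⟨y, hy, hyn⟩⟩ := hcon
    rcases two_cases k x y (hsq x hx) (hsq y hy) (hsq _ (mul_mem hx hy)) with h | h
    · exact hxn h
    · exact hyn h
  have hBeq : ∀ j, B.comap φ ≤ K4 j → B = (K4 j).map φ := fun j hj =>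
    Subgroup.eq_of_le_of_card_ge (hBmap ▸ Subgroup.map_mono hj)
      (by rw [Subgroup.card_map_of_injective hφ, card_K4, hB4])
  rcases hle with h | h
  · exfalso
    rw [hBeq k h, hfix, hk4] at hBf
    norm_num at hBf
  · exact hBeq _ h

end Cfsg.Agent.Lib.NineDihedral76
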