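import Mathlib

/-!
Faithful irreducible modules over `GF(2)` for `3^2 : D_8`: the computation in a frame.
-/

set_option autoImplicit false
set_option linter.style.haveILetI false

namespace Cfsg.Agent.Lib.NineDihedralModule76

open DihedralGroup

variable {S : Type*} [Group S] {M : Type*} [AddCommGroup M] [Module (ZMod 2) M]
  (ρ : Representation (ZMod 2) S M) (φ : DihedralGroup 4 →* S)

/-- The fixed points of the four-group `{1, r^2, sr k, sr (k+2)}`. -/
def fixK (k : ZMod 4) : Set M := {m | ρ (φ (r 2)) m = m ∧ ρ (φ (sr k)) m = m}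

theorem mv (x y : S) (m : M) : ρ x (ρ y m) = ρ (x * y) m := by rw [map_mul]; rfl

theorem two_add (v : M) : v + v = 0 := by
  rw [← two_smul (ZMod 2) v, show (2 : ZMod 2) = 0 from rfl, zero_smul]

set_option maxHeartbeats 1000000 in
theorem core (e₁ e₂ : S) (k : ZMod 4) (h31 : e₁ ^ 3 = 1) (h32 : e₂ ^ 3 = 1)
    (hc : e₁ * e₂ = e₂ * e₁)
    (hr1 : φ (r 1) * e₁ = e₂ * φ (r 1)) (hr2 : e₁ * (φ (r 1) * e₂) = φ (r 1))
    (hb1 : e₁ * (φ (sr k) * e₁) = φ (sr k)) (hb2 : φ (sr k) * e₂ = e₂ * φ (sr k))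
    (hgen : Subgroup.closure {e₁, e₂, φ (r 1), φ (sr k)} = ⊤)
    (hirr : ∀ N : Submodule (ZMod 2) M, (∀ s : S, ∀ m ∈ N, ρ s m ∈ N) → N = ⊥ ∨ N = ⊤)
    (h0 : ∀ v, ρ e₁ v = v → ρ e₂ v = v → v = 0)
    (hW : ∀ v, ∃ v₁ v₂, ρ e₁ v₁ = v₁ ∧ ρ e₂ v₂ = v₂ ∧ v₁ + v₂ = v)
    [Nontrivial M] [Finite M] :
    Nat.card M = 16 ∧ Nat.card (fixK ρ φ k) = 4 ∧ Nat.card (fixK ρ φ (k + 1)) = 2 := by
  classical
  set R := ρ (φ (r 1)) with hR
  set B := ρ (φ (sr k)) with hB
  set Z := ρ (φ (r 2)) with hZ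
  set E1 := ρ e₁ with hE1
  set E2 := ρ e₂ with hE2
  have rr : ∀ v, R (R v) = Z v := fun v => by
    rw [hR, hZ, mv, ← map_mul, r_mul_r]; rfl
  have rz : ∀ v, R (Z v) = Z (R v) := fun v => by rw [← rr, ← rr]
  have zz : ∀ v, Z (Z v) = v := fun v => by
    rw [hZ, mv, ← map_mul, r_mul_r, show (2 + 2 : ZMod 4) = 0 from rfl, r_zero, map_one, map_one]; rfl
  have bb : ∀ v, B (B v) = v := fun v => by
    rw [hB, mv, ← map_mul, sr_mul_sr, sub_self, r_zero, map_one, map_one]; rfl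
  have zb : ∀ v, Z (B v) = B (Z v) := fun v => by
    rw [hB, hZ, mv, mv, ← map_mul, ← map_mul, r_mul_sr, sr_mul_r]
    rw [(show ∀ j : ZMod 4, j - 2 = j + 2 by decide) k]
  have br : ∀ v, B (R v) = R (Z (B v)) := fun v => by
    rw [hB, hR, hZ, mv, mv, mv, ← map_mul, ← map_mul, ← map_mul, sr_mul_r, r_mul_r, r_mul_sr]
    rw [(show ∀ j : ZMod 4, j - (1 + 2) = j + 1 by decide) k]
  have e13 : ∀ v, E1 (E1 (E1 v)) = v := fun v => by
    rw [hE1, mv, mv, ← pow_two, ← pow_succ, h31, map_one]; rfl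
  have e23 : ∀ v, E2 (E2 (E2 v)) = v := fun v => by
    rw [hE2, mv, mv, ← pow_two, ← pow_succ, h32, map_one]; rfl
  have e12 : ∀ v, E1 (E2 v) = E2 (E1 v) := fun v => by rw [hE1, hE2, mv, mv, hc]
  have re1 : ∀ v, R (E1 v) = E2 (R v) := fun v => by rw [hR, hE1, hE2, mv, mv, hr1]
  have re2 : ∀ v, E1 (R (E2 v)) = R v := fun v => by rw [hR, hE1, hE2, mv, mv, mul_assoc, hr2]
  have be1 : ∀ v, E1 (B (E1 v)) = B v := fun v => by rw [hB, hE1, mv, mv, mul_assoc, hb1]
  have be2 : ∀ v, B (E2 v) = E2 (B v) := fun v => by rw [hB, hE2, mv, mv, hb2]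
  have r1to2 : ∀ v, E1 v = v → E2 (R v) = R v := fun v h => by rw [← re1, h]
  have r2to1 : ∀ v, E2 v = v → E1 (R v) = R v := fun v h => by
    conv_rhs => rw [← re2 v, h]
  have z1to1 : ∀ v, E1 v = v → E1 (Z v) = Z v := fun v h => by
    rw [← rr]; exact r2to1 _ (r1to2 v h)
  have b1to1 : ∀ v, E1 v = v → E1 (B v) = B v := fun v h => by
    conv_rhs => rw [← be1 v, h]
  have Rinj : Function.Injective R := fun a b h => by
    have := congrArg R h
    rw [rr, rr] at this
    simpa [zz] using congrArg Z this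
  -- the irreducibility criterion
  have crit : ∀ U : Submodule (ZMod 2) M, U ≠ ⊥ → (∀ u ∈ U, E1 u = u) → (∀ u ∈ U, B u = u) →
      (∀ u ∈ U, E2 u ∈ U) → (∀ u ∈ U, Z u ∈ U) → ∀ m, E1 m = m → m ∈ U := by
    intro U hU h1 hb h2 hz m hm
    set N := U ⊔ U.map R with hN
    have inv : ∀ T : M →ₗ[ZMod 2] M, (∀ u ∈ U, T u ∈ N) → (∀ u ∈ U, T (R u) ∈ N) →
        ∀ x ∈ N, T x ∈ N := by
      intro T h h' x hx
      obtain ⟨a, ha, b, hb', rfl⟩ := Submodule.mem_sup.1 hx
      obtain ⟨c, hc', rfl⟩ := hb'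
      rw [map_add]
      exact add_mem (h a ha) (h' c hc')
    have inU : ∀ u ∈ U, u ∈ N := fun u hu => Submodule.mem_sup_left hu
    have inR : ∀ u ∈ U, R u ∈ N := fun u hu => Submodule.mem_sup_right ⟨u, hu, rfl⟩
    have hall : ∀ s : S, ∀ x ∈ N, ρ s x ∈ N := by
      intro s
      have hs : s ∈ Subgroup.closure ({e₁, e₂, φ (r 1), φ (sr k)} : Set S) := by
        rw [hgen]; exact Subgroup.mem_top s
      induction hs using Subgroup.closure_induction with
      | mem g hg =>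
        rcases hg with rfl | rfl | rfl | rfl
        · refine inv E1 (fun u hu => ?_) (fun u hu => ?_)
          · rw [h1 u hu]; exact inU u hu
          · rw [show R u = R (E2 (E2 (E2 u))) by rw [e23], re2]
            exact inR _ (h2 _ (h2 u hu))
        · refine inv E2 (fun u hu => inU _ (h2 u hu)) (fun u hu => ?_)
          rw [← re1, h1 u hu]; exact inR u hu
        · refine inv R (fun u hu => inR u hu) (fun u hu => ?_)
          rw [rr]; exact inU _ (hz u hu)
        · refine inv B (fun u hu => ?_) (fun u hu => ?_)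
          · rw [hb u hu]; exact inU u hu
          · rw [br, hb u hu]; exact inR _ (hz u hu)
      | one => intro x hx; simpa using hx
      | mul a b _ _ iha ihb => intro x hx; rw [← mv]; exact iha _ (ihb x hx)
      | inv a _ iha =>
        intro x hx
        have hinj : Function.Injective (fun y : N => (⟨ρ a y, iha y y.2⟩ : N)) := fun y z h => by
          have h' : ρ a y = ρ a z := congrArg Subtype.val h
          have := congrArg (ρ a⁻¹) h'
          rw [mv, mv, inv_mul_cancel, map_one] at this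
          exact Subtype.ext this
        obtain ⟨y, hy⟩ := Finite.surjective_of_injective hinj ⟨x, hx⟩
        have hy' : ρ a y = x := congrArg Subtype.val hy
        rw [← hy', mv, inv_mul_cancel, map_one]; exact y.2
    rcases hirr N hall with h | h
    · exact absurd (le_bot_iff.1 (h ▸ le_sup_left)) hU
    · obtain ⟨a, ha, b, hb', hab⟩ := Submodule.mem_sup.1 (show m ∈ N by rw [h]; trivial)
      obtain ⟨c, hc', rfl⟩ := hb'
      have h3 : R c = m - a := by rw [← hab]; abel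
      have h4 : R c = 0 := h0 _ (by rw [h3, map_sub, hm, h1 a ha]) (r1to2 c (h1 c hc'))
      rw [h4, add_zero] at hab
      exact hab ▸ ha
  -- the two summands are nonzero
  obtain ⟨m₀, hm₀, hm₀0⟩ : ∃ m, E1 m = m ∧ m ≠ 0 := by
    obtain ⟨v, hv⟩ := exists_ne (0 : M)
    obtain ⟨v₁, v₂, h1, h2, h12⟩ := hW v
    by_cases hv1 : v₁ = 0
    · refine ⟨R v₂, r2to1 v₂ h2, fun h => hv ?_⟩
      have : v₂ = 0 := Rinj (h.trans (map_zero R).symm)
      rw [← h12, hv1, this, add_zero]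
    · exact ⟨v₁, h1, hv1⟩
  -- `B` is trivial on the first summand
  have hBfix : ∀ m, E1 m = m → B m = m := by
    let U : Submodule (ZMod 2) M :=
      { carrier := {u | E1 u = u ∧ B u = u}
        add_mem' := fun {a b} ha hb => ⟨by rw [map_add, ha.1, hb.1], by rw [map_add, ha.2, hb.2]⟩
        zero_mem' := ⟨map_zero _, map_zero _⟩
        smul_mem' := fun c u hu => ⟨by rw [map_smul, hu.1], by rw [map_smul, hu.2]⟩ }
    refine fun m hm => (crit U ?_ (fun u hu => hu.1) (fun u hu => hu.2) ?_ ?_ m hm).2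
    · rw [Submodule.ne_bot_iff]
      by_cases hcase : B m₀ = m₀
      · exact ⟨m₀, ⟨hm₀, hcase⟩, hm₀0⟩
      · refine ⟨m₀ + B m₀, ⟨by rw [map_add, hm₀, b1to1 m₀ hm₀], by rw [map_add, bb, add_comm]⟩,
          fun h => hcase ?_⟩
        calc B m₀ = m₀ + m₀ + B m₀ := by rw [two_add, zero_add]
          _ = m₀ := by rw [add_assoc, h, add_zero]
    · exact fun u hu => ⟨by rw [e12, hu.1], by rw [be2, hu.2]⟩
    · exact fun u hu => ⟨z1to1 u hu.1, by rw [← zb, hu.2]⟩
  -- a basis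
  obtain ⟨v, hv, hv0, hvz⟩ : ∃ v, E1 v = v ∧ v ≠ 0 ∧ Z v = v := by
    by_cases hcase : Z m₀ = m₀
    · exact ⟨m₀, hm₀, hm₀0, hcase⟩
    · refine ⟨m₀ + Z m₀, by rw [map_add, hm₀, z1to1 m₀ hm₀], fun h => hcase ?_,
        by rw [map_add, zz, add_comm]⟩
      calc Z m₀ = m₀ + m₀ + Z m₀ := by rw [two_add, zero_add]
        _ = m₀ := by rw [add_assoc, h, add_zero]
  set w := E2 v with hw
  have hw1 : E1 w = w := by rw [hw, e12, hv]
  have hww : E2 w = v + w := by
    have hs : v + w + E2 w = 0 := h0 _ (by rw [map_add, map_add, hv, hw1, e12, hw1])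
      (by rw [map_add, map_add, hw, e23]; abel)
    calc E2 w = v + w + (v + w + E2 w) := by
          rw [← add_assoc (v + w) (v + w), two_add, zero_add]
      _ = v + w := by rw [hs, add_zero]
  have hzw : Z w = v + w := by
    have h : E2 (Z w) = v := by
      rw [← rr, ← re1]
      have h1 : R w = E1 (E1 (R v)) := by
        conv_rhs => rw [← re2 v]
        rw [hw, e13]
      rw [h1, e13, rr, hvz]
    have h2 : Z w = E2 (E2 (E2 (Z w))) := (e23 _).symm
    rw [h2, h, ← hw, hww]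
  let Ψ : (ZMod 2 × ZMod 2) × (ZMod 2 × ZMod 2) →ₗ[ZMod 2] M :=
    { toFun := fun x => (x.1.1 • v + x.1.2 • w) + R (x.2.1 • v + x.2.2 • w)
      map_add' := fun x y => by simp only [Prod.fst_add, Prod.snd_add, add_smul, map_add]; abel
      map_smul' := fun c x => by
        simp only [Prod.smul_fst, Prod.smul_snd, smul_eq_mul, mul_smul, map_add, map_smul,
          smul_add, RingHom.id_apply] }
  have hsub : ∀ m, E1 m = m → ∃ a b : ZMod 2, a • v + b • w = m := by
    intro m hm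
    have := crit (Submodule.span (ZMod 2) {v, w}) ?_ ?_ ?_ ?_ ?_ m hm
    · exact Submodule.mem_span_pair.1 this
    · rw [Submodule.ne_bot_iff]; exact ⟨v, Submodule.subset_span (by simp), hv0⟩
    · intro u hu
      obtain ⟨a, b, rfl⟩ := Submodule.mem_span_pair.1 hu
      simp [map_add, map_smul, hv, hw1]
    · intro u hu
      obtain ⟨a, b, rfl⟩ := Submodule.mem_span_pair.1 hu
      simp [map_add, map_smul, hBfix v hv, hBfix w hw1]
    · intro u hu
      obtain ⟨a, b, rfl⟩ := Submodule.mem_span_pair.1 hu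
      rw [Submodule.mem_span_pair]
      refine ⟨b, a + b, ?_⟩
      rw [map_add, map_smul, map_smul, ← hw, hww, smul_add, add_smul]
      abel
    · intro u hu
      obtain ⟨a, b, rfl⟩ := Submodule.mem_span_pair.1 hu
      rw [Submodule.mem_span_pair]
      refine ⟨a + b, b, ?_⟩
      rw [map_add, map_smul, map_smul, hvz, hzw, smul_add, add_smul]
      abel
  have hz2 : ∀ a : ZMod 2, a = 0 ∨ a = 1 := by decide
  have hind : ∀ a b : ZMod 2, a • v + b • w = 0 → a = 0 ∧ b = 0 := by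
    intro a b h
    have hw0 : w ≠ 0 := fun h' => hv0 (by
      have h2 := e23 v
      rw [← hw, h', map_zero, map_zero] at h2
      exact h2.symm)
    rcases hz2 a with rfl | rfl <;> rcases hz2 b with rfl | rfl
    · exact ⟨rfl, rfl⟩
    · exact absurd (by simpa using h) hw0
    · exact absurd (by simpa using h) hv0
    · exfalso
      have h' : v + w = 0 := by simpa using h
      rw [← hww] at h'
      exact hw0 (by simpa [h'] using (e23 w).symm)
  have hΨi : Function.Injective Ψ := by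
    rw [← LinearMap.ker_eq_bot, Submodule.eq_bot_iff]
    rintro ⟨⟨a, b⟩, ⟨c, d⟩⟩ h
    have h' : a • v + b • w + R (c • v + d • w) = 0 := h
    have k1 : E1 (a • v + b • w) = a • v + b • w := by simp [map_add, map_smul, hv, hw1]
    have k2 : E2 (R (c • v + d • w)) = R (c • v + d • w) :=
      r1to2 _ (by simp [map_add, map_smul, hv, hw1])
    have heq : a • v + b • w = R (c • v + d • w) := by
      calc a • v + b • w = a • v + b • w + R (c • v + d • w) + R (c • v + d • w) := by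
            rw [add_assoc, two_add, add_zero]
        _ = _ := by rw [h', zero_add]
    have hz0 := h0 _ (heq ▸ k1) k2
    obtain ⟨rfl, rfl⟩ := hind a b (heq.trans hz0)
    obtain ⟨rfl, rfl⟩ := hind c d (Rinj (hz0.trans (map_zero R).symm))
    rfl
  have hΨs : Function.Surjective Ψ := by
    intro m
    obtain ⟨v₁, v₂, h1, h2, rfl⟩ := hW m
    obtain ⟨a, b, rfl⟩ := hsub v₁ h1
    obtain ⟨c, d, hcd⟩ := hsub (Z (R v₂)) (z1to1 _ (r2to1 v₂ h2))
    refine ⟨((a, b), (c, d)), ?_⟩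
    show _ + R (c • v + d • w) = _
    rw [hcd, rz, rr, zz]
  have hcount : ∀ (k' : ZMod 4) (g : ((ZMod 2 × ZMod 2) × (ZMod 2 × ZMod 2)) →
      ((ZMod 2 × ZMod 2) × (ZMod 2 × ZMod 2))) (n : ℕ),
      (∀ x, ρ (φ (sr k')) (Ψ x) = Ψ (g x)) →
      (Finset.univ.filter fun x : (ZMod 2 × ZMod 2) × (ZMod 2 × ZMod 2) =>
        ((x.1.1 + x.1.2, x.1.2), (x.2.1 + x.2.2, x.2.2)) = x ∧ g x = x).card = n →
      Nat.card (fixK ρ φ k') = n := by
    intro k' g n hg hn
    have hzΨ : ∀ x, Z (Ψ x) = Ψ ((x.1.1 + x.1.2, x.1.2), (x.2.1 + x.2.2, x.2.2)) := by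
      intro x
      show Z (_ + R _) = _ + R _
      rw [map_add, ← rz]
      simp only [map_add, map_smul, hvz, hzw, smul_add, add_smul]
      abel
    rw [← hn, ← Fintype.card_subtype, ← Nat.card_eq_fintype_card]
    refine (Nat.card_congr ((Equiv.ofBijective Ψ ⟨hΨi, hΨs⟩).subtypeEquiv fun x => ?_)).symm
    show _ ↔ Z (Ψ x) = Ψ x ∧ ρ (φ (sr k')) (Ψ x) = Ψ x
    rw [hzΨ, hg, hΨi.eq_iff, hΨi.eq_iff]
  refine ⟨?_, ?_, ?_⟩
  · rw [← Nat.card_congr (Equiv.ofBijective Ψ ⟨hΨi, hΨs⟩)]; simp [Nat.card_prod]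
  · refine hcount k (fun x => (x.1, (x.2.1 + x.2.2, x.2.2))) 4 (fun x => ?_) (by decide)
    show B (_ + R _) = _ + R _
    rw [map_add, br]
    simp only [map_add, map_smul, hBfix v hv, hBfix w hw1, hvz, hzw, smul_add, add_smul]
    abel
  · refine hcount (k + 1) (fun x => ((x.2.1 + x.2.2, x.2.2), (x.1.1 + x.1.2, x.1.2))) 2
      (fun x => ?_) (by decide)
    have hBR : ∀ m, ρ (φ (sr (k + 1))) m = B (R m) := fun m => by
      rw [hB, hR, mv, ← map_mul, sr_mul_r]
    rw [hBR]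
    show B (R (_ + R _)) = _ + R _
    rw [map_add, rr, map_add, br]
    simp only [map_add, map_smul, hBfix v hv, hBfix w hw1, hvz, hzw, smul_add, add_smul]
    abel

end Cfsg.Agent.Lib.NineDihedralModule76
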