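import Mathlib

/-!
Regular (single Jordan block) nilpotent endomorphisms: kernels of powers, invariant subspaces, cyclic vectors,
the commutant is in bijection with the space, conjugacy.
-/

set_option autoImplicit false

namespace Cfsg.Agent.Lib.RegularUnipotent

open Module LinearMap

variable {K : Type*} [Field K] {V : Type*} [AddCommGroup V] [Module K V] [FiniteDimensional K V]

/-- `N` is nilpotent with a one-dimensional kernel. -/
structure IsRegNilp (N : Module.End K V) : Prop where
  pow_eq_zero : N ^ Module.finrank K V = 0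
  ker_le_one : Module.finrank K (LinearMap.ker N) ≤ 1

variable {N : Module.End K V}

theorem finrank_ker_pow_succ_le (hN : IsRegNilp N) (k : ℕ) :
    finrank K (ker (N ^ (k + 1))) ≤ finrank K (ker (N ^ k)) + 1 := by
  let f : ker (N ^ (k + 1)) →ₗ[K] ker N :=
    ((N ^ k).comp (ker (N ^ (k + 1))).subtype).codRestrict (ker N) fun x => by
      have := x.2
      rw [LinearMap.mem_ker] at this ⊢
      show N ((N ^ k) x.1) = 0
      rw [← Module.End.mul_apply, ← pow_succ']
      exact this
  have h := f.finrank_range_add_finrank_ker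
  have h1 : finrank K (range f) ≤ 1 := (Submodule.finrank_le _).trans hN.ker_le_one
  have h2 : finrank K (ker f) ≤ finrank K (ker (N ^ k)) := by
    rw [(Submodule.equivMapOfInjective _ (ker (N ^ (k + 1))).injective_subtype (ker f)).finrank_eq]
    refine Submodule.finrank_mono ?_
    rintro _ ⟨x, hx, rfl⟩
    have := congrArg Subtype.val (LinearMap.mem_ker.1 hx)
    simpa [f] using this
  omega

theorem finrank_ker_pow_le_add (hN : IsRegNilp N) (k j : ℕ) :
    finrank K (ker (N ^ (k + j))) ≤ finrank K (ker (N ^ k)) + j := by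
  induction j with
  | zero => rfl
  | succ j ih => exact (finrank_ker_pow_succ_le hN (k + j)).trans (by omega)

theorem finrank_ker_pow (hN : IsRegNilp N) {k : ℕ} (hk : k ≤ finrank K V) :
    finrank K (ker (N ^ k)) = k := by
  refine le_antisymm ?_ ?_
  · have := finrank_ker_pow_le_add hN 0 k
    have h0 : finrank K (ker (N ^ 0)) = 0 := by
      rw [pow_zero, Module.End.one_eq_id, LinearMap.ker_id, finrank_bot]
    rw [zero_add] at this
    omega
  · have := finrank_ker_pow_le_add hN k (finrank K V - k)
    rw [Nat.add_sub_cancel' hk, hN.pow_eq_zero, LinearMap.ker_zero, finrank_top] at this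
    omega

theorem finrank_range_pow (hN : IsRegNilp N) {k : ℕ} (hk : k ≤ finrank K V) :
    finrank K (range (N ^ k)) = finrank K V - k := by
  have := (N ^ k).finrank_range_add_finrank_ker
  rw [finrank_ker_pow hN hk] at this
  omega

theorem range_pow_sub (hN : IsRegNilp N) {k : ℕ} (hk : k ≤ finrank K V) :
    range (N ^ (finrank K V - k)) = ker (N ^ k) := by
  refine Submodule.eq_of_le_of_finrank_eq ?_ ?_
  · rintro _ ⟨x, rfl⟩
    rw [LinearMap.mem_ker, ← Module.End.mul_apply, ← pow_add, Nat.add_sub_cancel' hk, hN.pow_eq_zero,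
      LinearMap.zero_apply]
  · rw [finrank_range_pow hN (by omega), finrank_ker_pow hN hk]
    omega

/-- The only invariant subspaces are the kernels of the powers. -/
theorem eq_ker_pow (hN : IsRegNilp N) (W : Submodule K V) (hW : ∀ v ∈ W, N v ∈ W) :
    W = ker (N ^ finrank K W) := by
  refine Submodule.eq_of_le_of_finrank_eq ?_ ?_
  · intro w hw
    have hnil : IsNilpotent (N.restrict hW) :=
      Module.End.isNilpotent.restrict hW ⟨finrank K V, hN.pow_eq_zero⟩
    have hpow := (LinearMap.charpoly_nilpotent_tfae (N.restrict hW)).out 0 1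
    have hz : (N.restrict hW) ^ finrank K W = 0 := by
      have h1 := LinearMap.aeval_self_charpoly (N.restrict hW)
      rwa [hpow.1 hnil, map_pow, Polynomial.aeval_X] at h1
    rw [LinearMap.mem_ker]
    have h2 := congrArg Subtype.val (LinearMap.congr_fun hz ⟨w, hw⟩)
    rw [Module.End.pow_restrict _] at h2
    simpa using h2
  · rw [finrank_ker_pow hN (Submodule.finrank_le W)]

theorem exists_cyclic (hN : IsRegNilp N) (h : 0 < finrank K V) :
    ∃ v : V, v ∉ ker (N ^ (finrank K V - 1)) := by
  by_contra hcon
  push Not at hcon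
  have h1 : ker (N ^ (finrank K V - 1)) = ⊤ := eq_top_iff.2 fun x _ => hcon x
  have h2 := finrank_ker_pow hN (k := finrank K V - 1) (by omega)
  rw [h1, finrank_top] at h2
  omega

/-- The family `v, N v, …, N^(n-1) v`. -/
def chain (N : Module.End K V) (v : V) (i : Fin (finrank K V)) : V := (N ^ (i : ℕ)) v

theorem linearIndependent_chain (hN : IsRegNilp N) {v : V} (hv : v ∉ ker (N ^ (finrank K V - 1))) :
    LinearIndependent K (chain N v) := by
  classical
  rw [Fintype.linearIndependent_iff]
  intro g hg
  by_contra hcon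
  push Not at hcon
  have hne : (Finset.univ.filter fun i : Fin (finrank K V) => g i ≠ 0).Nonempty := by
    obtain ⟨i, hi⟩ := hcon
    exact ⟨i, by simpa using hi⟩
  set j := (Finset.univ.filter fun i : Fin (finrank K V) => g i ≠ 0).min' hne with hj
  have hgj : g j ≠ 0 := by
    have := Finset.min'_mem _ hne
    rw [← hj] at this
    simpa using this
  have hsum := congrArg (N ^ (finrank K V - 1 - j)) hg
  rw [map_sum, map_zero, Finset.sum_eq_single j] at hsum
  · rw [map_smul, chain, ← Module.End.mul_apply, ← pow_add,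
      show finrank K V - 1 - (j : ℕ) + j = finrank K V - 1 by omega] at hsum
    exact hv (LinearMap.mem_ker.2 ((smul_eq_zero.1 hsum).resolve_left hgj))
  · intro i _ hij
    by_cases hgi : g i = 0
    · simp [hgi]
    have hji : j < i := by
      refine lt_of_le_of_ne ?_ (Ne.symm hij)
      rw [hj]
      exact Finset.min'_le _ _ (by simpa using hgi)
    have hji' : (j : ℕ) < i := hji
    obtain ⟨d, hd⟩ : ∃ d, finrank K V - 1 - (j : ℕ) + i = finrank K V + d :=
      ⟨(i : ℕ) - j - 1, by omega⟩
    rw [map_smul, chain, ← Module.End.mul_apply, ← pow_add, hd, pow_add, hN.pow_eq_zero, zero_mul,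
      LinearMap.zero_apply, smul_zero]
  · simp

/-- The basis `v, N v, …` of a cyclic vector. -/
noncomputable def chainBasis (hN : IsRegNilp N) {v : V} (hv : v ∉ ker (N ^ (finrank K V - 1))) :
    Module.Basis (Fin (finrank K V)) K V :=
  haveI : Nonempty (Fin (finrank K V)) := by
    refine Fin.pos_iff_nonempty.1 ?_
    by_contra h
    have : Subsingleton V := (finrank_zero_iff (R := K)).1 (by omega)
    exact hv (LinearMap.mem_ker.2 (Subsingleton.elim _ _))
  basisOfLinearIndependentOfCardEqFinrank (linearIndependent_chain hN hv) (Fintype.card_fin _)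

theorem chainBasis_apply (hN : IsRegNilp N) {v : V} (hv : v ∉ ker (N ^ (finrank K V - 1)))
    (i : Fin (finrank K V)) : chainBasis hN hv i = (N ^ (i : ℕ)) v := by
  simp [chainBasis, chain]

/-- Two regular nilpotents are conjugate, and cyclic vectors can be prescribed. -/
theorem exists_equiv {V' : Type*} [AddCommGroup V'] [Module K V'] [FiniteDimensional K V']
    {N' : Module.End K V'} (hN : IsRegNilp N) (hN' : IsRegNilp N')
    (hd : finrank K V = finrank K V')
    {v : V} (hv : v ∉ ker (N ^ (finrank K V - 1)))
    {v' : V'} (hv' : v' ∉ ker (N' ^ (finrank K V' - 1))) :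
    ∃ e : V ≃ₗ[K] V', e v = v' ∧ ∀ x, e (N x) = N' (e x) := by
  let e : V ≃ₗ[K] V' := (chainBasis hN hv).equiv (chainBasis hN' hv') (finCongr hd)
  have he : ∀ i : Fin (finrank K V), e ((N ^ (i : ℕ)) v) = (N' ^ (i : ℕ)) v' := fun i => by
    have := (chainBasis hN hv).equiv_apply i (chainBasis hN' hv') (finCongr hd)
    rw [chainBasis_apply, chainBasis_apply] at this
    simpa using this
  have he' : ∀ i : ℕ, e ((N ^ i) v) = (N' ^ i) v' := by
    intro i
    by_cases hi : i < finrank K V
    · exact he ⟨i, hi⟩
    · obtain ⟨d, rfl⟩ : ∃ d, i = finrank K V + d := ⟨i - finrank K V, by omega⟩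
      rw [pow_add, pow_add, hN.pow_eq_zero, hd, hN'.pow_eq_zero]
      simp
  refine ⟨e, by simpa using he' 0, fun x => ?_⟩
  have hlin : e.toLinearMap.comp N = N'.comp e.toLinearMap := by
    refine (chainBasis hN hv).ext fun i => ?_
    rw [chainBasis_apply]
    simp only [LinearMap.comp_apply, LinearEquiv.coe_coe]
    rw [← Module.End.mul_apply, ← pow_succ', he', he', pow_succ', Module.End.mul_apply]
  exact LinearMap.congr_fun hlin x

/-- An endomorphism commuting with `N` is determined by the image of a cyclic vector. -/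
theorem commute_ext (hN : IsRegNilp N) {v : V} (hv : v ∉ ker (N ^ (finrank K V - 1)))
    {A B : Module.End K V} (hA : Commute A N) (hB : Commute B N) (h : A v = B v) : A = B := by
  refine (chainBasis hN hv).ext fun i => ?_
  rw [chainBasis_apply, ← Module.End.mul_apply, ← Module.End.mul_apply, (hA.pow_right _).eq,
    (hB.pow_right _).eq, Module.End.mul_apply, Module.End.mul_apply, h]

/-- Linear automorphisms commuting with `N` send cyclic vectors to cyclic vectors. -/
theorem equiv_map_cyclic {v : V} {k : ℕ} (hv : v ∉ ker (N ^ k)) (e : V ≃ₗ[K] V)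
    (he : ∀ x, e (N x) = N (e x)) : e v ∉ ker (N ^ k) := by
  intro h
  apply hv
  rw [LinearMap.mem_ker] at h ⊢
  have : ∀ j : ℕ, e ((N ^ j) v) = (N ^ j) (e v) := by
    intro j
    induction j with
    | zero => simp
    | succ j ih => rw [pow_succ', Module.End.mul_apply, Module.End.mul_apply, he, ih]
  rw [← this] at h
  exact e.map_eq_zero_iff.1 h

/-- The matrix form of the hypothesis. -/
theorem isRegNilp_toLin' {n : ℕ} (M : Matrix (Fin n) (Fin n) K) (hnil : M ^ n = 0) (hreg : M.rank = n - 1) :
    IsRegNilp (Matrix.toLin' M) := by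
  refine ⟨?_, ?_⟩
  · rw [finrank_pi, Fintype.card_fin, ← Matrix.toLin'_pow, hnil, map_zero]
  · have h := (Matrix.toLin' M).finrank_range_add_finrank_ker
    rw [Matrix.rank] at hreg
    rw [finrank_pi, Fintype.card_fin] at h
    have : range (Matrix.toLin' M) = range M.mulVecLin := rfl
    rw [this] at h
    omega

/-- The matrix form of the hypothesis, any index type. -/
theorem isRegNilp_toLin'' {ι : Type*} [Fintype ι] [DecidableEq ι] (M : Matrix ι ι K)
    (hnil : M ^ Fintype.card ι = 0) (hreg : M.rank = Fintype.card ι - 1) :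
    IsRegNilp (Matrix.toLin' M) := by
  refine ⟨?_, ?_⟩
  · rw [finrank_pi, ← Matrix.toLin'_pow, hnil, map_zero]
  · have h := (Matrix.toLin' M).finrank_range_add_finrank_ker
    rw [Matrix.rank] at hreg
    rw [finrank_pi] at h
    have : range (Matrix.toLin' M) = range M.mulVecLin := rfl
    rw [this] at h
    omega

end Cfsg.Agent.Lib.RegularUnipotent
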