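import Cfsg.Agent.Lib.RegularUnipotentMatrix
import Cfsg.Agent.Lib.Symplectic.Order

/-!
# Regular unipotent elements of symplectic groups in odd characteristic

For a regular unipotent isometry `u` of a nondegenerate alternating form put `s = u - u⁻¹`; its commutant consists
of the polynomials in `s`, the adjoint map sends `s` to `-s`, and the norm `x ↦ (adjoint x) x` on units has image
the squares of the self-adjoint units.  This gives the centraliser order and the number of classes.
-/

set_option autoImplicit false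

namespace Cfsg.Agent.Lib.RegularUnipotentSymp

open Module LinearMap Cfsg.Agent.Lib.RegularUnipotent Cfsg.Agent.Lib.Symplectic

variable {K : Type*} [Field K] {V : Type*} [AddCommGroup V] [Module K V] [FiniteDimensional K V]
  {B : V →ₗ[K] V →ₗ[K] K}

/-- The commutant data of a regular nilpotent skew-adjoint map. -/
structure Data (B : V →ₗ[K] V →ₗ[K] K) (m : ℕ) where
  form : IsSympForm B
  two : (2 : K) ≠ 0
  pos : 1 ≤ m
  dim : finrank K V = 2 * m
  s : Module.End K V
  reg : IsRegNilp s
  skew : ∀ a b, B (s a) b = -B a (s b)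
  v : V
  cyc : v ∉ ker (s ^ (finrank K V - 1))

namespace Data

variable {m : ℕ} (d : Data B m)

/-- The chain basis. -/
noncomputable def basis : Basis (Fin (finrank K V)) K V := chainBasis d.reg d.cyc

/-- The polynomial in `s` with given coefficients. -/
noncomputable def ev (c : Fin (finrank K V) → K) : Module.End K V := ∑ i, c i • d.s ^ (i : ℕ)

/-- The coefficients of an element of the commutant. -/
noncomputable def co (x : Module.End K V) : Fin (finrank K V) → K := d.basis.equivFun (x d.v)

theorem ev_commute (c : Fin (finrank K V) → K) : Commute (d.ev c) d.s :=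
  Commute.sum_left _ _ _ fun i _ => ((Commute.refl d.s).pow_left _).smul_left (c i)

theorem ev_apply_v (c : Fin (finrank K V) → K) : d.ev c d.v = d.basis.equivFun.symm c := by
  rw [Basis.equivFun_symm_apply, ev, LinearMap.sum_apply]
  exact Finset.sum_congr rfl fun i _ => by rw [LinearMap.smul_apply, basis, chainBasis_apply]

theorem co_ev (c : Fin (finrank K V) → K) : d.co (d.ev c) = c := by
  rw [co, ev_apply_v, LinearEquiv.apply_symm_apply]

theorem ev_co {x : Module.End K V} (hx : Commute x d.s) : d.ev (d.co x) = x :=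
  commute_ext d.reg d.cyc (d.ev_commute _) hx (by rw [ev_apply_v, co, LinearEquiv.symm_apply_apply])

theorem commute_of {x y : Module.End K V} (hx : Commute x d.s) (hy : Commute y d.s) : Commute x y := by
  rw [← d.ev_co hy]
  exact Commute.sum_right _ _ _ fun i _ => (hx.pow_right _).smul_right _

include d in
theorem ext_right {X Y : Module.End K V} (h : ∀ a b, B a (X b) = B a (Y b)) : X = Y := by
  refine LinearMap.ext fun b => sub_eq_zero.1 (d.form.nondeg _ fun a => ?_)
  rw [d.form.swap, map_sub, h, sub_self, neg_zero]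

/-- The adjoint on the commutant. -/
noncomputable def tau (x : Module.End K V) : Module.End K V :=
  d.ev fun i => (-1) ^ (i : ℕ) * d.co x i

theorem tau_commute (x : Module.End K V) : Commute (d.tau x) d.s := d.ev_commute _

theorem skew_pow (k : ℕ) (a b : V) : B ((d.s ^ k) a) b = (-1) ^ k * B a ((d.s ^ k) b) := by
  induction k generalizing a b with
  | zero => simp
  | succ k ih =>
    rw [pow_succ, Module.End.mul_apply, ih, d.skew, ← Module.End.mul_apply, ← pow_succ', pow_succ]
    ring

theorem adj {x : Module.End K V} (hx : Commute x d.s) (a b : V) : B (x a) b = B a (d.tau x b) := by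
  conv_lhs => rw [← d.ev_co hx]
  simp only [ev, tau, LinearMap.sum_apply, LinearMap.smul_apply, map_sum, map_smul, smul_eq_mul]
  exact Finset.sum_congr rfl fun i _ => by rw [d.skew_pow]; ring

theorem tau_eq_of_adj {x y : Module.End K V} (hx : Commute x d.s)
    (h : ∀ a b, B (x a) b = B a (y b)) : d.tau x = y :=
  d.ext_right fun a b => by rw [← d.adj hx, h]

theorem tau_mul {x y : Module.End K V} (hx : Commute x d.s) (hy : Commute y d.s) :
    d.tau (x * y) = d.tau x * d.tau y := by
  refine d.tau_eq_of_adj (hx.mul_left hy) fun a b => ?_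
  rw [Module.End.mul_apply, d.adj hx, d.adj hy, ← Module.End.mul_apply,
    (d.commute_of (d.tau_commute y) (d.tau_commute x)).eq]

theorem tau_one : d.tau 1 = 1 := d.tau_eq_of_adj (Commute.one_left _) fun _ _ => rfl

theorem tau_tau {x : Module.End K V} (hx : Commute x d.s) : d.tau (d.tau x) = x :=
  d.tau_eq_of_adj (d.tau_commute x) fun a b => by
    rw [d.form.swap, ← d.adj hx, d.form.swap, neg_neg]

theorem tau_eq_self_iff {x : Module.End K V} (hx : Commute x d.s) :
    d.tau x = x ↔ ∀ i : Fin (finrank K V), Odd (i : ℕ) → d.co x i = 0 := by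
  constructor
  · intro h i hi
    have h1 := congrFun (congrArg d.co h) i
    rw [tau, co_ev, hi.neg_one_pow] at h1
    have h2 : (2 : K) * d.co x i = 0 := by linear_combination -h1
    exact (mul_eq_zero.1 h2).resolve_left d.two
  · intro h
    conv_rhs => rw [← d.ev_co hx]
    refine congrArg d.ev (funext fun i => ?_)
    rcases Nat.even_or_odd (i : ℕ) with he | ho
    · rw [he.neg_one_pow, one_mul]
    · rw [h i ho, mul_zero]

/-- The first index. -/
def i0 : Fin (finrank K V) := ⟨0, by have := d.dim; have := d.pos; omega⟩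

/-- The eigenvalue on the socle. -/
noncomputable def rho (x : Module.End K V) : K := d.co x d.i0

/-- The socle vector. -/
noncomputable def z0 : V := (d.s ^ (finrank K V - 1)) d.v

theorem z0_ne : d.z0 ≠ 0 := fun h => d.cyc (LinearMap.mem_ker.2 h)

theorem s_z0 : d.s d.z0 = 0 := by
  have := d.dim
  have := d.pos
  rw [z0, ← Module.End.mul_apply, ← pow_succ', show finrank K V - 1 + 1 = finrank K V by omega,
    d.reg.pow_eq_zero, LinearMap.zero_apply]

theorem apply_z0 {x : Module.End K V} (hx : Commute x d.s) : x d.z0 = d.rho x • d.z0 := by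
  conv_lhs => rw [← d.ev_co hx]
  rw [ev, LinearMap.sum_apply, Finset.sum_eq_single d.i0]
  · simp [rho, i0]
  · intro i _ hi
    obtain ⟨j, hj⟩ : ∃ j, (i : ℕ) = j + 1 := ⟨(i : ℕ) - 1, by
      have : (i : ℕ) ≠ 0 := fun h => hi (Fin.ext h)
      omega⟩
    rw [LinearMap.smul_apply, hj, pow_succ, Module.End.mul_apply, d.s_z0, map_zero, smul_zero]
  · simp

theorem rho_mul {x y : Module.End K V} (hx : Commute x d.s) (hy : Commute y d.s) :
    d.rho (x * y) = d.rho x * d.rho y := by
  refine smul_left_injective K d.z0_ne ?_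
  show d.rho (x * y) • d.z0 = (d.rho x * d.rho y) • d.z0
  rw [← d.apply_z0 (hx.mul_left hy), Module.End.mul_apply, d.apply_z0 hy, map_smul, d.apply_z0 hx, smul_smul,
    mul_comm]

theorem rho_one : d.rho 1 = 1 := by
  refine smul_left_injective K d.z0_ne ?_
  show d.rho 1 • d.z0 = (1 : K) • d.z0
  rw [← d.apply_z0 (Commute.one_left _), one_smul, Module.End.one_apply]

theorem rho_smul_one (c : K) : d.rho (c • 1) = c := by
  refine smul_left_injective K d.z0_ne ?_
  show d.rho (c • 1) • d.z0 = c • d.z0
  rw [← d.apply_z0 ((Commute.one_left _).smul_left c), LinearMap.smul_apply, Module.End.one_apply]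

theorem rho_tau {x : Module.End K V} : d.rho (d.tau x) = d.rho x := by
  rw [rho, tau, co_ev]; simp [i0, rho]

theorem injective_of_rho {x : Module.End K V} (hx : Commute x d.s) (h : d.rho x ≠ 0) :
    Function.Injective x := by
  rw [injective_iff_map_eq_zero]
  intro y hy
  by_contra hy0
  classical
  have hex : ∃ k, (d.s ^ k) y = 0 := ⟨finrank K V, by rw [d.reg.pow_eq_zero, LinearMap.zero_apply]⟩
  obtain ⟨k, hk⟩ : ∃ k, Nat.find hex = k + 1 := by
    refine ⟨Nat.find hex - 1, ?_⟩
    have : Nat.find hex ≠ 0 := fun h0 => hy0 (by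
      have := Nat.find_spec hex
      rwa [h0, pow_zero, Module.End.one_apply] at this)
    omega
  have hw : (d.s ^ k) y ≠ 0 := Nat.find_min hex (by omega)
  have hsw : d.s ((d.s ^ k) y) = 0 := by
    rw [← Module.End.mul_apply, ← pow_succ', ← hk]
    exact Nat.find_spec hex
  have hker : ker d.s = K ∙ d.z0 := by
    refine (Submodule.eq_of_le_of_finrank_le ?_ ?_).symm
    · rw [Submodule.span_singleton_le_iff_mem, LinearMap.mem_ker]; exact d.s_z0
    · rw [finrank_span_singleton d.z0_ne]; exact d.reg.ker_le_one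
  obtain ⟨a, ha⟩ := Submodule.mem_span_singleton.1 (hker ▸ LinearMap.mem_ker.2 hsw : (d.s ^ k) y ∈ K ∙ d.z0)
  have h1 : x ((d.s ^ k) y) = 0 := by
    rw [← Module.End.mul_apply, (hx.pow_right k).eq, Module.End.mul_apply, hy, map_zero]
  rw [← ha, map_smul, d.apply_z0 hx, smul_smul] at h1
  rcases mul_eq_zero.1 ((smul_eq_zero.1 h1).resolve_right d.z0_ne) with h2 | h2
  · exact hw (by rw [← ha, h2, zero_smul])
  · exact h h2

theorem isUnit_iff {x : Module.End K V} (hx : Commute x d.s) : IsUnit x ↔ d.rho x ≠ 0 := by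
  constructor
  · rintro ⟨u, rfl⟩ h
    apply d.z0_ne
    have h1 := d.apply_z0 hx
    rw [h, zero_smul] at h1
    rw [← Module.End.one_apply (R := K) d.z0, ← u.inv_mul, Module.End.mul_apply, h1, map_zero]
  · intro h
    exact (Module.End.isUnit_iff _).2
      ⟨d.injective_of_rho hx h, LinearMap.injective_iff_surjective.1 (d.injective_of_rho hx h)⟩

/-- The units of the commutant. -/
def Z : Subgroup (Module.End K V)ˣ where
  carrier := {x | Commute (x : Module.End K V) d.s}
  one_mem' := Commute.one_left _
  mul_mem' ha hb := ha.mul_left hb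
  inv_mem' ha := Commute.units_inv_left ha

theorem mem_Z {x : (Module.End K V)ˣ} : x ∈ d.Z ↔ Commute (x : Module.End K V) d.s := Iff.rfl

theorem tau_mem {x : (Module.End K V)ˣ} (hx : x ∈ d.Z) : IsUnit (d.tau x) :=
  (d.isUnit_iff (d.tau_commute _)).2 (by rw [rho_tau]; exact (d.isUnit_iff hx).1 x.isUnit)

/-- `x ↦ τ x * x`. -/
noncomputable def norm : d.Z →* (Module.End K V)ˣ :=
  MonoidHom.mk' (fun x => (d.tau_mem x.2).unit * x.1) fun x y => Units.ext (by
    simp only [Subgroup.coe_mul, Units.val_mul, IsUnit.unit_spec]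
    rw [d.tau_mul x.2 y.2, mul_assoc, mul_assoc, ← mul_assoc (d.tau (y.1 : Module.End K V)),
      (d.commute_of (d.tau_commute _) x.2).eq, mul_assoc])

theorem norm_apply (x : d.Z) :
    (d.norm x : Module.End K V) = d.tau (x.1 : Module.End K V) * (x.1 : Module.End K V) := rfl

/-- The self-adjoint units. -/
noncomputable def Fix : Subgroup d.Z where
  carrier := {x | d.tau (x.1 : Module.End K V) = x.1}
  one_mem' := by simp [tau_one]
  mul_mem' {a b} ha hb := by
    show d.tau ((a.1 : Module.End K V) * b.1) = (a.1 : Module.End K V) * b.1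
    rw [d.tau_mul a.2 b.2, ha, hb]
  inv_mem' {a} ha := by
    show d.tau (((a⁻¹ : d.Z).1 : (Module.End K V)ˣ) : Module.End K V) = ((a⁻¹ : d.Z).1 : (Module.End K V)ˣ)
    have h1 := congrArg d.tau (show (a.1 : Module.End K V) * ((a⁻¹ : d.Z).1 : (Module.End K V)ˣ) = 1 from
      a.1.mul_inv)
    rw [d.tau_mul a.2 (a⁻¹).2, ha, d.tau_one] at h1
    exact (a.1.mul_right_inj).1 (h1.trans a.1.mul_inv.symm)

/-- The residue of a self-adjoint unit. -/
noncomputable def res : d.Z →* Kˣ :=
  MonoidHom.mk' (fun x => Units.mk0 (d.rho (x.1 : Module.End K V)) ((d.isUnit_iff x.2).1 x.1.isUnit))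
    fun x y => Units.ext (d.rho_mul x.2 y.2)

section Finite

variable [Finite K]

/-- Squares in the multiplicative group. -/
theorem isSquare_div {a b : K} (ha : a ≠ 0) (hb : b ≠ 0) (h : IsSquare a ↔ IsSquare b) : IsSquare (a / b) := by
  by_cases hsa : IsSquare a
  · exact hsa.div (h.1 hsa)
  · have hsb := fun hs => hsa (h.2 hs)
    haveI := Fintype.ofFinite K
    classical
    have h1 := quadraticChar_neg_one_iff_not_isSquare.2 hsa
    have h2 := quadraticChar_neg_one_iff_not_isSquare.2 hsb
    have h3 : a / b = a * b⁻¹ := div_eq_mul_inv a b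
    have h4 : quadraticChar K b⁻¹ = -1 := quadraticChar_neg_one_iff_not_isSquare.2 fun hs => hsb (by
      have := hs.inv; rwa [inv_inv] at this)
    refine (quadraticChar_one_iff_isSquare (div_ne_zero ha hb)).1 ?_
    rw [h3, map_mul, h1, h4]
    norm_num

theorem card_split {n : ℕ} (i : Fin n) :
    Nat.card {c : Fin n → K // c i ≠ 0} = (Nat.card K - 1) * Nat.card K ^ (n - 1) := by
  classical
  haveI := Fintype.ofFinite K
  have e : {c : Fin n → K // c i ≠ 0} ≃ {p : K × ({j // j ≠ i} → K) // p.1 ≠ 0} :=
    (Equiv.funSplitAt i K).subtypeEquiv fun c => Iff.rfl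
  rw [Nat.card_congr e,
    Nat.card_congr (Equiv.prodSubtypeFstEquivSubtypeProd (p := fun x : K => x ≠ 0)), Nat.card_prod,
    Nat.card_congr unitsEquivNeZero.symm, Nat.card_units, Nat.card_fun, Nat.card_eq_fintype_card (α := {j // j ≠ i}),
    Fintype.card_subtype_compl, Fintype.card_subtype_eq, Fintype.card_fin]

theorem card_Z : Nat.card d.Z = (Nat.card K - 1) * Nat.card K ^ (2 * m - 1) := by
  rw [← d.dim, ← card_split d.i0]
  refine Nat.card_eq_of_bijective (fun x : d.Z => ⟨d.co (x.1 : Module.End K V), (d.isUnit_iff x.2).1 x.1.isUnit⟩)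
    ⟨fun x y h => ?_, fun c => ?_⟩
  · refine Subtype.ext (Units.ext ?_)
    rw [← d.ev_co x.2, ← d.ev_co y.2]
    exact congrArg d.ev (congrArg Subtype.val h)
  · have hu : IsUnit (d.ev c.1) := (d.isUnit_iff (d.ev_commute _)).2 (by rw [rho, co_ev]; exact c.2)
    exact ⟨⟨hu.unit, d.ev_commute _⟩, Subtype.ext (d.co_ev c.1)⟩

theorem card_Fix : Nat.card d.Fix = (Nat.card K - 1) * Nat.card K ^ (m - 1) := by
  have hm := d.pos
  have hd := d.dim
  rw [← card_split (⟨0, hm⟩ : Fin m)]
  let ext : (Fin m → K) → Fin (finrank K V) → K := fun e i =>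
    if (i : ℕ) % 2 = 0 then e ⟨(i : ℕ) / 2, by have := i.isLt; omega⟩ else 0
  refine Nat.card_eq_of_bijective (fun x : d.Fix =>
    ⟨fun j : Fin m => d.co (x.1.1 : Module.End K V) ⟨2 * (j : ℕ), by omega⟩,
      (d.isUnit_iff x.1.2).1 x.1.1.isUnit⟩) ⟨fun x y h => ?_, fun e => ?_⟩
  · refine Subtype.ext (Subtype.ext (Units.ext ?_))
    rw [← d.ev_co x.1.2, ← d.ev_co y.1.2]
    refine congrArg d.ev (funext fun i => ?_)
    rcases Nat.even_or_odd (i : ℕ) with he | ho
    · have h1 := congrFun (congrArg Subtype.val h) ⟨(i : ℕ) / 2, by have := i.isLt; omega⟩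
      have h2 : (⟨2 * ((i : ℕ) / 2), by have := i.isLt; omega⟩ : Fin (finrank K V)) = i :=
        Fin.ext (Nat.two_mul_div_two_of_even he)
      rw [← h2]
      exact h1
    · rw [(d.tau_eq_self_iff x.1.2).1 x.2 i ho, (d.tau_eq_self_iff y.1.2).1 y.2 i ho]
  · have hu : IsUnit (d.ev (ext e.1)) :=
      (d.isUnit_iff (d.ev_commute _)).2 (by rw [rho, co_ev]; simp [ext, i0, e.2])
    refine ⟨⟨⟨hu.unit, d.ev_commute _⟩, ?_⟩, Subtype.ext (funext fun j => ?_)⟩
    · show d.tau (d.ev (ext e.1)) = d.ev (ext e.1)
      refine (d.tau_eq_self_iff (d.ev_commute _)).2 fun i hi => ?_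
      rw [co_ev]
      show ite _ _ _ = (0 : K)
      rw [if_neg]
      rw [Nat.odd_iff] at hi
      omega
    · show d.co (d.ev (ext e.1)) _ = e.1 j
      rw [co_ev]
      simp [ext]

/-- The subgroup of self-adjoint units with square residue. -/
noncomputable def SqFix : Subgroup d.Fix where
  carrier := {x | IsSquare (d.rho (x.1.1 : Module.End K V))}
  one_mem' := by simp [rho_one]
  mul_mem' {a b} ha hb := by
    show IsSquare (d.rho ((a.1.1 : Module.End K V) * b.1.1))
    rw [d.rho_mul a.1.2 b.1.2]
    exact ha.mul hb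
  inv_mem' {a} ha := by
    show IsSquare ((d.res (a.1⁻¹) : Kˣ) : K)
    rw [map_inv, Units.val_inv_eq_inv_val]
    exact ha.inv

theorem mem_range_norm_iff (hodd : Odd (Nat.card K)) (x : d.Fix) :
    (x.1.1 : (Module.End K V)ˣ) ∈ d.norm.range ↔ IsSquare (d.rho (x.1.1 : Module.End K V)) := by
  constructor
  · rintro ⟨b, hb⟩
    refine ⟨d.rho (b.1 : Module.End K V), ?_⟩
    rw [← hb, norm_apply, d.rho_mul (d.tau_commute _) b.2, rho_tau]
  · intro hx
    -- the squaring map on `Fix`
    let sq : d.Fix →* d.Fix := MonoidHom.mk' (fun a => a * a) fun a b => by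
      have hab : a * b = b * a := Subtype.ext (Subtype.ext (Units.ext (d.commute_of a.1.2 b.1.2).eq))
      rw [mul_assoc, ← mul_assoc b a b, ← hab]
      simp only [mul_assoc]
    have hker : Nat.card sq.ker ≤ 2 := by
      classical
      let g : sq.ker → Bool := fun a => decide (d.rho (a.1.1.1 : Module.End K V) = 1)
      refine (Nat.card_le_card_of_injective g fun a b hab => ?_).trans (by simp)
      have key : ∀ a : sq.ker, ((a.1.1.1 : Module.End K V) = 1 ∧ d.rho (a.1.1.1 : Module.End K V) = 1) ∨
          ((a.1.1.1 : Module.End K V) = -1 ∧ d.rho (a.1.1.1 : Module.End K V) = -1) := by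
        intro a
        set A := (a.1.1.1 : Module.End K V)
        have hA : Commute A d.s := a.1.1.2
        have h2 : A * A = 1 := congrArg (fun z : d.Fix => (z.1.1 : Module.End K V)) (MonoidHom.mem_ker.1 a.2)
        have hr := d.rho_mul hA hA
        rw [h2, d.rho_one] at hr
        rcases mul_self_eq_one_iff.1 hr.symm with h | h
        · refine Or.inl ⟨?_, h⟩
          have hu : Function.Injective (A + 1 : Module.End K V) := d.injective_of_rho (hA.add_left (Commute.one_left _)) (by
            have : d.rho (A + 1) = d.rho A + d.rho 1 := by simp [rho, co]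
            rw [this, h, d.rho_one, one_add_one_eq_two]
            exact d.two)
          refine LinearMap.ext fun y => sub_eq_zero.1 (hu ?_)
          rw [map_zero, map_sub, LinearMap.add_apply, LinearMap.add_apply, ← Module.End.mul_apply, h2]
          simp [Module.End.one_apply]
          abel
        · refine Or.inr ⟨?_, h⟩
          have hu : Function.Injective (A - 1 : Module.End K V) := d.injective_of_rho (hA.sub_left (Commute.one_left _)) (by
            have : d.rho (A - 1) = d.rho A - d.rho 1 := by simp [rho, co]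
            rw [this, h, d.rho_one]
            intro h0
            exact d.two (by linear_combination -h0))
          refine LinearMap.ext fun y => sub_eq_zero.1 (hu ?_)
          rw [map_zero, map_sub, LinearMap.sub_apply, LinearMap.sub_apply, ← Module.End.mul_apply, h2]
          simp [Module.End.one_apply]
          abel
      have h1 : decide (d.rho (a.1.1.1 : Module.End K V) = 1) = decide (d.rho (b.1.1.1 : Module.End K V) = 1) := hab
      have hne : (-1 : K) ≠ 1 := fun h => d.two (by linear_combination -h)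
      refine Subtype.ext (Subtype.ext (Subtype.ext (Units.ext ?_)))
      rcases key a with ⟨ha, ha'⟩ | ⟨ha, ha'⟩ <;> rcases key b with ⟨hb, hb'⟩ | ⟨hb, hb'⟩
      · rw [ha, hb]
      · rw [ha', hb'] at h1; simp [hne] at h1
      · rw [ha', hb'] at h1; simp [hne] at h1
      · rw [ha, hb]
    haveI : Fintype K := Fintype.ofFinite K
    obtain ⟨δ, hδ⟩ := FiniteField.exists_nonsquare (F := K) (fun h => by
      have := FiniteField.even_card_of_char_two h
      rw [← Nat.card_eq_fintype_card] at this
      rw [Nat.odd_iff] at hodd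
      omega)
    have hδ0 : δ ≠ 0 := fun h => hδ (h ▸ ⟨0, by simp⟩)
    have hle : sq.range ≤ d.SqFix := by
      rintro _ ⟨a, rfl⟩
      exact ⟨d.rho (a.1.1 : Module.End K V), d.rho_mul a.1.2 a.1.2⟩
    have hne : d.SqFix ≠ ⊤ := by
      intro htop
      have hu : IsUnit (δ • (1 : Module.End K V)) := (d.isUnit_iff ((Commute.one_left _).smul_left _)).2
        (by rw [d.rho_smul_one]; exact hδ0)
      let e : d.Fix := ⟨⟨hu.unit, (Commute.one_left d.s).smul_left δ⟩,
        d.tau_eq_of_adj ((Commute.one_left _).smul_left _) fun a b => by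
          show B (δ • a) b = B a (δ • b)
          rw [map_smul, LinearMap.smul_apply, map_smul]⟩
      have : e ∈ d.SqFix := htop ▸ Subgroup.mem_top e
      exact hδ (by
        have h1 : IsSquare (d.rho (δ • (1 : Module.End K V))) := this
        rwa [d.rho_smul_one] at h1)
    haveI : Finite V := Module.finite_of_finite K
    haveI : Finite (Module.End K V) := Finite.of_injective (fun f : Module.End K V => (f : V → V)) DFunLike.coe_injective
    have heq : sq.range = d.SqFix := by
      refine Subgroup.eq_of_le_of_card_ge hle ?_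
      have h1 := sq.ker.card_mul_index
      rw [Subgroup.index_ker] at h1
      have h2 := d.SqFix.card_mul_index
      have h3 : 2 ≤ d.SqFix.index := by
        have h4 : d.SqFix.index ≠ 1 := fun h => hne (Subgroup.index_eq_one.1 h)
        have h5 : d.SqFix.index ≠ 0 := Subgroup.index_ne_zero_of_finite
        omega
      have h6 : Nat.card d.SqFix * 2 ≤ Nat.card sq.range * 2 :=
        calc Nat.card d.SqFix * 2 ≤ Nat.card d.SqFix * d.SqFix.index := Nat.mul_le_mul_left _ h3
          _ = Nat.card d.Fix := h2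
          _ = Nat.card sq.ker * Nat.card sq.range := h1.symm
          _ ≤ 2 * Nat.card sq.range := Nat.mul_le_mul_right _ hker
          _ = _ := mul_comm _ _
      omega
    obtain ⟨a, ha⟩ : x ∈ sq.range := heq ▸ hx
    refine ⟨a.1, Units.ext ?_⟩
    rw [norm_apply, show d.tau (a.1.1 : Module.End K V) = a.1.1 from a.2, ← ha]
    rfl

theorem norm_mem_fix (x : d.Z) : ∃ y : d.Fix, (y.1.1 : (Module.End K V)ˣ) = d.norm x := by
  have hc : Commute (d.norm x : Module.End K V) d.s := (d.tau_commute _).mul_left x.2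
  refine ⟨⟨⟨d.norm x, hc⟩, ?_⟩, rfl⟩
  show d.tau (d.tau (x.1 : Module.End K V) * x.1) = d.tau (x.1 : Module.End K V) * x.1
  rw [d.tau_mul (d.tau_commute _) x.2, d.tau_tau x.2, (d.commute_of x.2 (d.tau_commute _)).eq]

theorem card_ker_norm (hodd : Odd (Nat.card K)) :
    Nat.card d.norm.ker = 2 * Nat.card K ^ m := by
  haveI : Finite V := Module.finite_of_finite K
  haveI : Finite (Module.End K V) := Finite.of_injective (fun f : Module.End K V => (f : V → V)) DFunLike.coe_injective
  haveI : Fintype K := Fintype.ofFinite K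
  have hrange : Nat.card d.norm.range = Nat.card d.SqFix := by
    symm
    refine Nat.card_eq_of_bijective (fun x : d.SqFix =>
      (⟨x.1.1.1, (d.mem_range_norm_iff hodd x.1).2 x.2⟩ : d.norm.range)) ⟨fun x y h => ?_, fun y => ?_⟩
    · exact Subtype.ext (Subtype.ext (Subtype.ext (congrArg (fun z : d.norm.range => (z : (Module.End K V)ˣ)) h)))
    · obtain ⟨y, b, rfl⟩ := y
      obtain ⟨f, hf⟩ := d.norm_mem_fix b
      exact ⟨⟨f, (d.mem_range_norm_iff hodd f).1 ⟨b, hf.symm⟩⟩, Subtype.ext hf⟩
  -- `SqFix` has index two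
  obtain ⟨δ, hδ⟩ := FiniteField.exists_nonsquare (F := K) (fun h => by
    have := FiniteField.even_card_of_char_two h
    rw [← Nat.card_eq_fintype_card] at this
    rw [Nat.odd_iff] at hodd
    omega)
  have hδ0 : δ ≠ 0 := fun h => hδ (h ▸ ⟨0, by simp⟩)
  have hu : IsUnit (δ • (1 : Module.End K V)) := (d.isUnit_iff ((Commute.one_left _).smul_left _)).2
    (by rw [d.rho_smul_one]; exact hδ0)
  let e : d.Fix := ⟨⟨hu.unit, (Commute.one_left d.s).smul_left δ⟩,
    d.tau_eq_of_adj ((Commute.one_left _).smul_left _) fun a b => by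
      show B (δ • a) b = B a (δ • b)
      rw [map_smul, LinearMap.smul_apply, map_smul]⟩
  have heρ : d.rho (e.1.1 : Module.End K V) = δ := d.rho_smul_one δ
  have hidx : d.SqFix.index = 2 := by
    rw [Subgroup.index_eq_two_iff]
    refine ⟨e, fun b => ?_⟩
    have hb : d.rho (b.1.1 : Module.End K V) ≠ 0 := (d.isUnit_iff b.1.2).1 b.1.1.isUnit
    have hval : d.rho ((b * e).1.1 : Module.End K V) = d.rho (b.1.1 : Module.End K V) * δ := by
      rw [← heρ]; exact d.rho_mul b.1.2 e.1.2
    by_cases hsb : IsSquare (d.rho (b.1.1 : Module.End K V))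
    · refine Or.inr ⟨hsb, fun h => hδ ?_⟩
      have h1 : IsSquare (d.rho (b.1.1 : Module.End K V) * δ) := hval ▸ h
      have := h1.div hsb
      rwa [mul_div_cancel_left₀ _ hb] at this
    · refine Or.inl ⟨?_, hsb⟩
      show IsSquare (d.rho ((b * e).1.1 : Module.End K V))
      rw [hval]
      have hinv : ¬ IsSquare δ⁻¹ := fun h => hδ (by have := h.inv; rwa [inv_inv] at this)
      have := isSquare_div hb (inv_ne_zero hδ0) (iff_of_false hsb hinv)
      rwa [div_inv_eq_mul] at this
  have h1 := d.norm.ker.card_mul_index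
  rw [Subgroup.index_ker, hrange, d.card_Z] at h1
  have h2 := d.SqFix.card_mul_index
  rw [hidx, d.card_Fix] at h2
  have hm := d.pos
  have hq : 2 ≤ Nat.card K := Finite.one_lt_card
  refine Nat.eq_of_mul_eq_mul_right (Nat.card_pos (α := d.SqFix)) ?_
  rw [h1, show 2 * m - 1 = m + (m - 1) by omega, pow_add, mul_comm (Nat.card K ^ m), ← mul_assoc, ← h2]
  ring

end Finite

end Data

end Cfsg.Agent.Lib.RegularUnipotentSymp
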