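import Cfsg.Agent.Lib.RegularUnipotentSymp

/-!
# Centraliser and classes of regular unipotent symplectic isometries (odd characteristic)
-/

set_option autoImplicit false

namespace Cfsg.Agent.Lib.RegularUnipotentSymp

open Module LinearMap Cfsg.Agent.Lib.RegularUnipotent Cfsg.Agent.Lib.Symplectic

variable {K : Type*} [Field K] {V : Type*} [AddCommGroup V] [Module K V] [FiniteDimensional K V]
  {B : V →ₗ[K] V →ₗ[K] K}

/-- An isometry as an endomorphism. -/
def toEnd : Isom B →* Module.End K V where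
  toFun u := ((u : V ≃ₗ[K] V) : V →ₗ[K] V)
  map_one' := rfl
  map_mul' a b := rfl

theorem toEnd_apply (u : Isom B) (x : V) : toEnd u x = u • x := rfl

/-- An isometry as a unit of the endomorphism ring. -/
def toUnit : Isom B →* (Module.End K V)ˣ := (toEnd (B := B)).toHomUnits

/-- Regular unipotent isometries. -/
def IsReg (u : Isom B) : Prop := IsRegNilp (toEnd u - 1)

/-- The isometry defined by a unit preserving the form. -/
def ofUnit (g : (Module.End K V)ˣ) (h : ∀ x y, B ((g : Module.End K V) x) ((g : Module.End K V) y) = B x y) :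
    Isom B :=
  ⟨LinearMap.GeneralLinearGroup.toLinearEquiv g, h⟩

theorem toEnd_ofUnit (g : (Module.End K V)ˣ) (h) : toEnd (ofUnit (B := B) g h) = (g : Module.End K V) := rfl

theorem toEnd_injective : Function.Injective (toEnd (B := B)) := fun _ _ h =>
  isom_ext fun x => LinearMap.congr_fun h x

theorem exists_data (hB : IsSympForm B) (h2 : (2 : K) ≠ 0) {m : ℕ} (hm : 1 ≤ m) (hdim : finrank K V = 2 * m)
    {u : Isom B} (hu : IsReg u) :
    ∃ d : Data B m, ∀ x : Module.End K V, Commute x d.s ↔ Commute x (toEnd u) := by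
  set U := toEnd u with hU
  set U' := toEnd u⁻¹ with hU'
  have hUU' : U * U' = 1 := by rw [hU, hU', ← map_mul, mul_inv_cancel, map_one]
  have hU'U : U' * U = 1 := by rw [hU, hU', ← map_mul, inv_mul_cancel, map_one]
  have hcUU' : Commute U' U := hU'U.trans hUU'.symm
  set s := U - U' with hs
  have hfac : s = U' * (U + 1) * (U - 1) := by
    rw [hs]
    noncomm_ring [hU'U]
  have hn : (U - 1) ^ finrank K V = 0 := hu.pow_eq_zero
  have hinj1 : ∀ y, (U + 1) y = 0 → y = 0 := by
    intro y hy
    have h1 : ∀ k : ℕ, ((U - 1) ^ k) y = (-2 : K) ^ k • y := by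
      intro k
      induction k with
      | zero => simp
      | succ k ih =>
        have h0 : U y = -y := eq_neg_of_add_eq_zero_left (by simpa using hy)
        rw [pow_succ', Module.End.mul_apply, ih, map_smul, LinearMap.sub_apply, h0, Module.End.one_apply,
          pow_succ, mul_smul]
        congr 1
        module
    have h3 := h1 (finrank K V)
    rw [hn, LinearMap.zero_apply] at h3
    exact (smul_eq_zero.1 h3.symm).resolve_left (pow_ne_zero _ (neg_ne_zero.2 h2))
  have hU'inj : ∀ y, U' y = 0 → y = 0 := fun y hy => by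
    have := congrArg U hy
    rwa [← Module.End.mul_apply, hUU', map_zero, Module.End.one_apply] at this
  have hreg : IsRegNilp s := by
    refine ⟨?_, ?_⟩
    · rw [hfac, Commute.mul_pow, hn, mul_zero]
      exact ((hcUU'.sub_right (Commute.one_right U')).mul_left
        ((((Commute.refl U).sub_right (Commute.one_right U))).add_left (Commute.one_left _)))
    · refine le_trans (Submodule.finrank_mono ?_) hu.ker_le_one
      intro y hy
      rw [LinearMap.mem_ker, hfac, Module.End.mul_apply, Module.End.mul_apply] at hy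
      exact LinearMap.mem_ker.2 (hinj1 _ (hU'inj _ hy))
  have hadj : ∀ a b, B (U a) b = B a (U' b) := fun a b => by
    conv_lhs => rw [show b = U (U' b) by rw [← Module.End.mul_apply, hUU']; rfl]
    exact u.2 a (U' b)
  have hadj' : ∀ a b, B (U' a) b = B a (U b) := fun a b => by
    conv_lhs => rw [show b = U' (U b) by rw [← Module.End.mul_apply, hU'U]; rfl]
    exact (u⁻¹).2 a (U b)
  obtain ⟨v, hv⟩ := exists_cyclic hreg (by omega)
  refine ⟨⟨hB, h2, hm, hdim, s, hreg, fun a b => by
    rw [hs, LinearMap.sub_apply, LinearMap.sub_apply, map_sub, map_sub, LinearMap.sub_apply, hadj, hadj', neg_sub],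
    v, hv⟩, fun x => ?_⟩
  constructor
  · intro hx
    refine Data.commute_of ⟨hB, h2, hm, hdim, s, hreg, fun a b => by
      rw [hs, LinearMap.sub_apply, LinearMap.sub_apply, map_sub, map_sub, LinearMap.sub_apply, hadj, hadj', neg_sub],
      v, hv⟩ hx ?_
    exact (Commute.refl U).sub_right hcUU'.symm
  · intro hx
    have hx' : Commute x U' := by
      have := Commute.units_inv_right (a := x) (u := ⟨U, U', hUU', hU'U⟩) hx
      exact this
    exact hx.sub_right hx'

namespace Data

variable {m : ℕ} (d : Data B m) [Finite K]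

theorem card_centralizer {u : Isom B} (hd : ∀ x : Module.End K V, Commute x d.s ↔ Commute x (toEnd u))
    (hodd : Odd (Nat.card K)) :
    Nat.card (Subgroup.centralizer ({u} : Set (Isom B))) = 2 * Nat.card K ^ m := by
  rw [← d.card_ker_norm hodd]
  have hiso : ∀ x : d.norm.ker, ∀ a b, B ((x.1.1 : Module.End K V) a) ((x.1.1 : Module.End K V) b) = B a b := by
    intro x a b
    rw [d.adj x.1.2, ← Module.End.mul_apply, ← norm_apply, MonoidHom.mem_ker.1 x.2]
    rfl
  symm
  refine Nat.card_eq_of_bijective (fun x : d.norm.ker =>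
    (⟨ofUnit x.1.1 (hiso x), Subgroup.mem_centralizer_singleton_iff.2 (toEnd_injective (by
      rw [map_mul, map_mul, toEnd_ofUnit]; exact ((hd _).1 x.1.2).eq))⟩ :
      Subgroup.centralizer ({u} : Set (Isom B)))) ⟨fun x y h => ?_, fun g => ?_⟩
  · exact Subtype.ext (Subtype.ext (Units.ext (congrArg (fun z : Subgroup.centralizer ({u} : Set (Isom B)) =>
      toEnd z.1) h)))
  · have hg : Commute (toEnd g.1) (toEnd u) := by
      have := congrArg toEnd (Subgroup.mem_centralizer_singleton_iff.1 g.2)
      rwa [map_mul, map_mul] at this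
    have hz : Commute (toUnit g.1 : Module.End K V) d.s := (hd _).2 hg
    refine ⟨⟨⟨toUnit g.1, hz⟩, MonoidHom.mem_ker.2 (Units.ext ?_)⟩, Subtype.ext (toEnd_injective rfl)⟩
    rw [norm_apply]
    refine d.ext_right fun a b => ?_
    rw [Module.End.mul_apply, ← d.adj hz]
    exact g.1.2 a b

/-- Every bilinear form is `B(·, H ·)`. -/
theorem exists_rep (d : Data B m) (T : V →ₗ[K] V →ₗ[K] K) : ∃ H : Module.End K V, ∀ x y, B x (H y) = T x y := by
  have hinj : Function.Injective B.flip := by
    rw [injective_iff_map_eq_zero]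
    intro y hy
    exact d.form.nondeg y fun x => by
      rw [d.form.swap]
      simpa using LinearMap.congr_fun hy x
  let e : V ≃ₗ[K] Module.Dual K V :=
    LinearMap.linearEquivOfInjective B.flip hinj Subspace.dual_finrank_eq.symm
  refine ⟨e.symm.toLinearMap.comp T.flip, fun x y => ?_⟩
  have h := e.apply_symm_apply (T.flip y)
  exact LinearMap.congr_fun h x

variable {u0 : Isom B}

/-- `g` carries `u0` to `u` and pulls `B` back to `B(·, H ·)`. -/
def Witness (u0 u : Isom B) (g : (Module.End K V)ˣ) (H : Module.End K V) : Prop :=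
  (g : Module.End K V) * toEnd u0 = toEnd u * g ∧
    ∀ x y, B ((g : Module.End K V) x) ((g : Module.End K V) y) = B x (H y)

theorem witness_props (hd : ∀ x : Module.End K V, Commute x d.s ↔ Commute x (toEnd u0)) {u : Isom B}
    {g : (Module.End K V)ˣ} {H : Module.End K V} (h : Witness u0 u g H) :
    Commute H d.s ∧ IsUnit H ∧ d.tau H = H := by
  obtain ⟨h1, h2⟩ := h
  have hc : Commute H (toEnd u0) := by
    have key : ∀ x y, B x (H (toEnd u0 y)) = B x (toEnd u0 (H y)) := by
      intro x y
      have e1 : x = toEnd u0 (toEnd u0⁻¹ x) := by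
        rw [← Module.End.mul_apply, ← map_mul, mul_inv_cancel, map_one]; rfl
      conv_lhs => rw [e1]
      conv_rhs => rw [e1]
      rw [← h2]
      rw [← Module.End.mul_apply (g : Module.End K V), ← Module.End.mul_apply (g : Module.End K V), h1,
        Module.End.mul_apply, Module.End.mul_apply, toEnd_apply u, toEnd_apply u, isom_apply_smul, h2,
        toEnd_apply u0, toEnd_apply u0, isom_apply_smul]
    exact d.ext_right key
  have hs : Commute H d.s := (hd H).2 hc
  refine ⟨hs, (Module.End.isUnit_iff _).2 ?_, d.tau_eq_of_adj hs fun a b => ?_⟩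
  · have hinj : Function.Injective H := by
      rw [injective_iff_map_eq_zero]
      intro y hy
      have hgy : (g : Module.End K V) y = 0 := d.form.nondeg _ fun x => by
        obtain ⟨x, rfl⟩ := ((Module.End.isUnit_iff _).1 g.isUnit).2 x
        rw [d.form.swap, h2, hy, map_zero, neg_zero]
      exact ((Module.End.isUnit_iff _).1 g.isUnit).1 (hgy.trans (map_zero _).symm)
    exact ⟨hinj, LinearMap.injective_iff_surjective.1 hinj⟩
  · rw [d.form.swap, ← h2, d.form.swap, neg_neg, h2]

/-- The class invariant. -/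
def Chi (u0 u : Isom B) : Prop := ∃ g H, Witness u0 u g H ∧ IsSquare (d.rho H)

theorem chi_iff (hd : ∀ x : Module.End K V, Commute x d.s ↔ Commute x (toEnd u0)) {u : Isom B}
    {g : (Module.End K V)ˣ} {H : Module.End K V} (h : Witness u0 u g H) :
    d.Chi u0 u ↔ IsSquare (d.rho H) := by
  refine ⟨fun ⟨g', H', h', hsq⟩ => ?_, fun hsq => ⟨g, H, h, hsq⟩⟩
  obtain ⟨hs, -, -⟩ := d.witness_props hd h
  set b : (Module.End K V)ˣ := g'⁻¹ * g with hb
  have hbc : Commute (b : Module.End K V) (toEnd u0) := by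
    have e1 := h'.1
    have e2 := h.1
    show (b : Module.End K V) * toEnd u0 = toEnd u0 * b
    rw [hb, Units.val_mul, mul_assoc, e2, ← mul_assoc, ← mul_assoc (toEnd u0)]
    congr 1
    rw [Units.inv_mul_eq_iff_eq_mul, ← mul_assoc, e1, mul_assoc, Units.mul_inv, mul_one]
  have hbs : Commute (b : Module.End K V) d.s := (hd _).2 hbc
  obtain ⟨hs', -, -⟩ := d.witness_props hd h'
  have hH : H = d.tau (b : Module.End K V) * H' * b := by
    refine d.ext_right fun x y => ?_
    rw [Module.End.mul_apply, Module.End.mul_apply, ← d.adj hbs, ← h.2, ← h'.2,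
      ← Module.End.mul_apply (g' : Module.End K V), ← Module.End.mul_apply (g' : Module.End K V),
      ← Units.val_mul, hb, mul_inv_cancel_left]
  rw [hH, d.rho_mul ((d.tau_commute _).mul_left hs') hbs, d.rho_mul (d.tau_commute _) hs', rho_tau,
    mul_comm (d.rho (b : Module.End K V)), mul_assoc]
  exact hsq.mul ⟨_, rfl⟩

include d in
theorem exists_witness {u : Isom B} (h0 : IsReg u0) (hu : IsReg u) : ∃ g H, Witness (B := B) u0 u g H := by
  obtain ⟨v, hv⟩ := exists_cyclic h0 (by have := d.dim; have := d.pos; omega)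
  obtain ⟨v', hv'⟩ := exists_cyclic hu (by have := d.dim; have := d.pos; omega)
  obtain ⟨e, -, he⟩ := exists_equiv h0 hu rfl hv hv'
  obtain ⟨H, hH⟩ := d.exists_rep (B.compl₁₂ (e : V →ₗ[K] V) (e : V →ₗ[K] V))
  refine ⟨(LinearMap.GeneralLinearGroup.generalLinearEquiv K V).symm e, H, ?_, fun x y => (hH x y).symm⟩
  refine LinearMap.ext fun x => ?_
  show e (toEnd u0 x) = toEnd u (e x)
  have h1 := he x
  rw [LinearMap.sub_apply, LinearMap.sub_apply, Module.End.one_apply, Module.End.one_apply, map_sub] at h1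
  exact sub_left_inj.1 h1

theorem isConj_iff_chi (hd : ∀ x : Module.End K V, Commute x d.s ↔ Commute x (toEnd u0)) (h0 : IsReg u0)
    (hodd : Odd (Nat.card K)) {u u' : Isom B} (hu : IsReg u) (hu' : IsReg u') :
    IsConj u u' ↔ (d.Chi u0 u ↔ d.Chi u0 u') := by
  obtain ⟨g, H, hw⟩ := d.exists_witness h0 hu
  obtain ⟨g', H', hw'⟩ := d.exists_witness h0 hu'
  constructor
  · intro hc
    obtain ⟨k, hk⟩ := isConj_iff.1 hc
    have hw2 : Witness u0 u' (toUnit k * g) H := by
      refine ⟨?_, fun x y => ?_⟩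
      · show toEnd k * (g : Module.End K V) * toEnd u0 = toEnd u' * (toEnd k * g)
        rw [mul_assoc, hw.1, ← mul_assoc, ← mul_assoc, ← map_mul, ← map_mul, mul_inv_eq_iff_eq_mul.1 hk]
      · show B (toEnd k ((g : Module.End K V) x)) (toEnd k ((g : Module.End K V) y)) = _
        rw [toEnd_apply, toEnd_apply, isom_apply_smul, hw.2]
    rw [d.chi_iff hd hw, d.chi_iff hd hw2]
  · intro hchi
    rw [d.chi_iff hd hw, d.chi_iff hd hw'] at hchi
    obtain ⟨hs, hu1, ht⟩ := d.witness_props hd hw
    obtain ⟨hs', hu1', ht'⟩ := d.witness_props hd hw'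
    let x : d.Fix := ⟨⟨hu1.unit, hs⟩, ht⟩
    let x' : d.Fix := ⟨⟨hu1'.unit, hs'⟩, ht'⟩
    have hsq : IsSquare (d.rho ((x⁻¹ * x').1.1 : Module.End K V)) := by
      have h1 : ((d.res (x⁻¹ * x').1 : Kˣ) : K) = (d.rho H)⁻¹ * d.rho H' := by
        rw [Subgroup.coe_mul, Subgroup.coe_inv, map_mul, map_inv, Units.val_mul, Units.val_inv_eq_inv_val]
        rfl
      show IsSquare ((d.res (x⁻¹ * x').1 : Kˣ) : K)
      rw [h1, mul_comm, ← div_eq_mul_inv]
      exact isSquare_div ((d.isUnit_iff hs').1 hu1') ((d.isUnit_iff hs).1 hu1) hchi.symm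
    obtain ⟨b, hb⟩ := (d.mem_range_norm_iff hodd (x⁻¹ * x')).2 hsq
    have hH' : H' = d.tau (b.1 : Module.End K V) * H * b.1 := by
      rw [(d.commute_of (d.tau_commute (b.1 : Module.End K V)) hs).eq, mul_assoc, ← norm_apply, hb]
      show H' = (x.1.1 : Module.End K V) * ((x⁻¹ * x').1.1 : Module.End K V)
      rw [← Units.val_mul, ← Subgroup.coe_mul, ← Subgroup.coe_mul, mul_inv_cancel_left]
      rfl
    set g'' : (Module.End K V)ˣ := g * b.1
    have hw'' : Witness u0 u g'' H' := by
      refine ⟨?_, fun a c => ?_⟩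
      · show (g : Module.End K V) * b.1 * toEnd u0 = toEnd u * ((g : Module.End K V) * b.1)
        rw [mul_assoc, ((hd _).1 b.2).eq, ← mul_assoc, hw.1, mul_assoc]
      · show B ((g : Module.End K V) ((b.1 : Module.End K V) a)) ((g : Module.End K V) ((b.1 : Module.End K V) c)) = _
        rw [hw.2, hH', Module.End.mul_apply, Module.End.mul_apply, ← d.adj b.2]
    have hk : ∀ a c, B (((g' * g''⁻¹ : (Module.End K V)ˣ) : Module.End K V) a)
        (((g' * g''⁻¹ : (Module.End K V)ˣ) : Module.End K V) c) = B a c := by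
      intro a c
      rw [Units.val_mul, Module.End.mul_apply, Module.End.mul_apply, hw'.2, ← hw''.2, ← Module.End.mul_apply,
        ← Module.End.mul_apply, Units.mul_inv]
      rfl
    refine isConj_iff.2 ⟨ofUnit _ hk, mul_inv_eq_iff_eq_mul.2 (toEnd_injective ?_)⟩
    rw [map_mul, map_mul, toEnd_ofUnit, Units.val_mul, mul_assoc, ← mul_assoc (toEnd u'), ← hw'.1,
      mul_assoc (g' : Module.End K V)]
    congr 1
    rw [Units.inv_mul_eq_iff_eq_mul, ← mul_assoc, hw''.1, mul_assoc, Units.mul_inv, mul_one]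

theorem exists_other (hd : ∀ x : Module.End K V, Commute x d.s ↔ Commute x (toEnd u0)) (h0 : IsReg u0)
    (hodd : Odd (Nat.card K)) : d.Chi u0 u0 ∧ ∃ u, IsReg u ∧ ¬ d.Chi u0 u := by
  refine ⟨⟨1, 1, ⟨by rw [Units.val_one, one_mul, mul_one], fun x y => rfl⟩, by rw [rho_one]; exact ⟨1, (one_mul 1).symm⟩⟩, ?_⟩
  haveI : Fintype K := Fintype.ofFinite K
  obtain ⟨δ, hδ⟩ := FiniteField.exists_nonsquare (F := K) (fun h => by
    have := FiniteField.even_card_of_char_two h
    rw [← Nat.card_eq_fintype_card] at this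
    rw [Nat.odd_iff] at hodd
    omega)
  have hδ0 : δ ≠ 0 := fun h => hδ (h ▸ ⟨0, by simp⟩)
  have hB' : IsSympForm (δ • B) := ⟨fun x => by simp [d.form.self], fun x hx => d.form.nondeg x fun y => by
    simpa [hδ0] using hx y⟩
  obtain ⟨e, he⟩ := exists_isometry hB' d.form rfl
  let g : (Module.End K V)ˣ := (LinearMap.GeneralLinearGroup.generalLinearEquiv K V).symm e
  have hg : ∀ x y, B ((g : Module.End K V) x) ((g : Module.End K V) y) = δ * B x y := fun x y => by
    have := he x y
    simp only [LinearMap.smul_apply, smul_eq_mul] at this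
    exact this
  have hiso : ∀ x y, B (((g * toUnit u0 * g⁻¹ : (Module.End K V)ˣ) : Module.End K V) x)
      (((g * toUnit u0 * g⁻¹ : (Module.End K V)ˣ) : Module.End K V) y) = B x y := by
    intro x y
    simp only [Units.val_mul, Module.End.mul_apply]
    rw [hg]
    show δ * B (toEnd u0 _) (toEnd u0 _) = _
    rw [toEnd_apply, toEnd_apply, isom_apply_smul, ← hg, ← Module.End.mul_apply, ← Module.End.mul_apply,
      Units.mul_inv]
    rfl
  refine ⟨ofUnit _ hiso, ?_, ?_⟩
  · have e1 : toEnd (ofUnit _ hiso) - 1 = (g : Module.End K V) * (toEnd u0 - 1) * ((g⁻¹ : (Module.End K V)ˣ) : Module.End K V) := by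
      rw [mul_sub, sub_mul, mul_one, Units.mul_inv]; rfl
    unfold IsReg
    rw [e1]
    refine ⟨by rw [Units.conj_pow, h0.pow_eq_zero, mul_zero, zero_mul], ?_⟩
    refine le_trans ?_ h0.ker_le_one
    have hle : ker ((g : Module.End K V) * (toEnd u0 - 1) * ((g⁻¹ : (Module.End K V)ˣ) : Module.End K V)) ≤
        (ker (toEnd u0 - 1)).map (g : Module.End K V) := by
      intro y hy
      refine ⟨((g⁻¹ : (Module.End K V)ˣ) : Module.End K V) y, ?_, ?_⟩
      · rw [SetLike.mem_coe, LinearMap.mem_ker]
        rw [LinearMap.mem_ker, Module.End.mul_apply, Module.End.mul_apply] at hy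
        exact ((Module.End.isUnit_iff _).1 g.isUnit).1 (hy.trans (map_zero _).symm)
      · rw [← Module.End.mul_apply, Units.mul_inv]; rfl
    exact (Submodule.finrank_mono hle).trans (Submodule.finrank_map_le _ _)
  · rw [d.chi_iff hd (g := g) (H := δ • 1) ⟨?_, fun x y => by rw [hg]; simp⟩, d.rho_smul_one]
    · exact hδ
    · rw [toEnd_ofUnit, Units.val_mul, Units.val_mul, mul_assoc, Units.inv_mul, mul_one]
      rfl

end Data

/-- A regular unipotent isometry exists. -/
theorem exists_regular (hB : IsSympForm B) (h2 : (2 : K) ≠ 0) {m : ℕ} (hm : 1 ≤ m)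
    (hdim : finrank K V = 2 * m) : ∃ u : Isom B, IsReg u := by
  classical
  let n := 2 * m
  let J : Matrix (Fin n) (Fin n) K := Matrix.of fun i j =>
    if (i : ℕ) + (j : ℕ) = n - 1 then (-1) ^ (i : ℕ) else 0
  let S := RegularUnipotentMatrix.shift K n
  let B0 : (Fin n → K) →ₗ[K] (Fin n → K) →ₗ[K] K := Matrix.toLinearMap₂' K J
  have hB0 : ∀ x y, B0 x y = dotProduct x (J.mulVec y) := fun x y => Matrix.toLinearMap₂'_apply' J x y
  have hJ : ∀ (y : Fin n → K) i, J.mulVec y i = (-1) ^ (i : ℕ) * y (Fin.rev i) := by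
    intro y i
    rw [Matrix.mulVec, dotProduct, Finset.sum_eq_single (Fin.rev i)]
    · simp only [J, Matrix.of_apply, Fin.val_rev]
      rw [if_pos (by have := i.isLt; omega)]
    · intro j _ hj
      simp only [J, Matrix.of_apply]
      rw [if_neg, zero_mul]
      intro h
      exact hj (Fin.ext (by rw [Fin.val_rev]; omega))
    · simp
  have hsymp : IsSympForm B0 := by
    refine ⟨fun x => ?_, fun x hx => ?_⟩
    · have h : B0 x x = -B0 x x := by
        rw [hB0, dotProduct]
        simp only [hJ]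
        rw [← Finset.sum_neg_distrib]
        refine Fintype.sum_equiv Fin.revPerm _ _ fun i => ?_
        rw [Fin.revPerm_apply, Fin.rev_rev, Fin.val_rev]
        have hpar : ((-1 : K)) ^ (n - ((i : ℕ) + 1)) = -((-1) ^ (i : ℕ)) := by
          have hi : (i : ℕ) < 2 * m := i.isLt
          rcases Nat.even_or_odd (i : ℕ) with he | ho
          · rw [he.neg_one_pow, Odd.neg_one_pow]
            rw [Nat.even_iff] at he; rw [Nat.odd_iff]; omega
          · rw [ho.neg_one_pow, neg_neg, Even.neg_one_pow]
            rw [Nat.odd_iff] at ho; rw [Nat.even_iff]; omega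
        rw [hpar]; ring
      have : (2 : K) * B0 x x = 0 := by linear_combination h
      exact (mul_eq_zero.1 this).resolve_left h2
    · funext i
      have := hx (Pi.single (Fin.rev i) 1)
      rw [hB0, dotProduct, Finset.sum_eq_single i] at this
      · simpa [hJ] using this
      · intro j _ hj
        rw [hJ, Pi.single_eq_of_ne (fun h => hj (Fin.rev_injective h)), mul_zero, mul_zero]
      · simp
  have hskew : S.transpose * J = -(J * S) := by
    ext i j
    have hS : ∀ a b : Fin n, S a b = if (a : ℕ) = (b : ℕ) + 1 then 1 else 0 := fun a b => rfl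
    rw [Matrix.neg_apply, Matrix.mul_apply, Matrix.mul_apply]
    have hi := i.isLt
    have hj := j.isLt
    by_cases hij : (i : ℕ) + 1 + (j : ℕ) = n - 1
    · rw [Finset.sum_eq_single (⟨(i : ℕ) + 1, by omega⟩ : Fin n),
        Finset.sum_eq_single (⟨(j : ℕ) + 1, by omega⟩ : Fin n)]
      · simp only [Matrix.transpose_apply, hS, J, Matrix.of_apply, if_true, one_mul, mul_one]
        rw [if_pos hij, if_pos (by omega), pow_succ]
        ring
      · intro b _ hb
        rw [hS, if_neg (fun h => hb (Fin.ext h)), mul_zero]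
      · simp
      · intro b _ hb
        rw [Matrix.transpose_apply, hS, if_neg (fun h => hb (Fin.ext h)), zero_mul]
      · simp
    · rw [Finset.sum_eq_zero, Finset.sum_eq_zero, neg_zero]
      · intro b _
        simp only [hS, J, Matrix.of_apply]
        by_cases h1 : (i : ℕ) + (b : ℕ) = n - 1
        · rw [if_neg (show ¬ (b : ℕ) = (j : ℕ) + 1 by omega), mul_zero]
        · rw [if_neg h1, zero_mul]
      · intro b _
        simp only [Matrix.transpose_apply, hS, J, Matrix.of_apply]
        by_cases h1 : (b : ℕ) = (i : ℕ) + 1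
        · rw [if_neg (show ¬ (b : ℕ) + (j : ℕ) = n - 1 by omega), mul_zero]
        · rw [if_neg h1, zero_mul]
  let s := Matrix.toLin' S
  have hs : ∀ a b, B0 (s a) b = -B0 a (s b) := fun a b => by
    rw [hB0, hB0, Matrix.toLin'_apply, Matrix.toLin'_apply, ← Matrix.vecMul_transpose, ← Matrix.dotProduct_mulVec,
      Matrix.mulVec_mulVec, hskew, Matrix.neg_mulVec, dotProduct_neg, Matrix.mulVec_mulVec]
  have hsreg : IsRegNilp s := by
    have h := (RegularUnipotentMatrix.isRegUnip_one_add_shift (F := K) (show 1 ≤ n by omega)).isRegNilp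
    rwa [add_sub_cancel_left] at h
  have hnil : IsNilpotent s := ⟨_, hsreg.pow_eq_zero⟩
  have hp : IsUnit (1 + s) := hnil.isUnit_one_add
  have hq : IsUnit (1 - s) := hnil.isUnit_one_sub
  set P := hp.unit
  set Qm := hq.unit
  have hPQ : ∀ a b, B0 ((P : Module.End K (Fin n → K)) a) ((P : Module.End K (Fin n → K)) b) =
      B0 ((Qm : Module.End K (Fin n → K)) a) ((Qm : Module.End K (Fin n → K)) b) := fun a b => by
    rw [IsUnit.unit_spec, IsUnit.unit_spec]
    simp only [LinearMap.add_apply, LinearMap.sub_apply, Module.End.one_apply, map_add, map_sub, hs]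
    ring
  have hiso : ∀ a b, B0 (((P * Qm⁻¹ : (Module.End K (Fin n → K))ˣ) : Module.End K (Fin n → K)) a)
      (((P * Qm⁻¹ : (Module.End K (Fin n → K))ˣ) : Module.End K (Fin n → K)) b) = B0 a b := fun a b => by
    rw [Units.val_mul, Module.End.mul_apply, Module.End.mul_apply, hPQ, ← Module.End.mul_apply,
      ← Module.End.mul_apply, Units.mul_inv]
    rfl
  let u0 : Isom B0 := ofUnit _ hiso
  have hu0 : IsReg u0 := by
    have hcs : Commute s ((Qm⁻¹ : (Module.End K (Fin n → K))ˣ) : Module.End K (Fin n → K)) :=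
      Commute.units_inv_right (by rw [IsUnit.unit_spec]; exact (Commute.one_right s).sub_right (Commute.refl s))
    have hfac : toEnd u0 - 1 = (2 : K) • (s * ((Qm⁻¹ : (Module.End K (Fin n → K))ˣ) : Module.End K (Fin n → K))) := by
      rw [toEnd_ofUnit, Units.val_mul]
      conv_lhs => rw [← Units.mul_inv Qm, ← sub_mul, IsUnit.unit_spec, IsUnit.unit_spec]
      rw [← smul_mul_assoc]
      congr 1
      rw [two_smul]
      abel
    unfold IsReg
    rw [hfac]
    refine ⟨?_, le_trans (Submodule.finrank_mono ?_) hsreg.ker_le_one⟩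
    · rw [smul_pow, hcs.mul_pow, hsreg.pow_eq_zero, zero_mul, smul_zero]
    · intro y hy
      rw [LinearMap.mem_ker, LinearMap.smul_apply, smul_eq_zero] at hy
      have hy2 := hy.resolve_left h2
      rw [hcs.eq, Module.End.mul_apply] at hy2
      rw [LinearMap.mem_ker]
      exact ((Module.End.isUnit_iff _).1 (Qm⁻¹).isUnit).1 (hy2.trans (map_zero _).symm)
  obtain ⟨e, he⟩ := exists_isometry hsymp hB (by rw [Module.finrank_fin_fun, hdim])
  refine ⟨isomCongr e he u0, ?_⟩
  have hconj : toEnd (isomCongr e he u0) - 1 = e.conj (toEnd u0 - 1) := by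
    rw [map_sub, Module.End.one_eq_id (M := Fin n → K), LinearEquiv.conj_id]
    rfl
  unfold IsReg
  rw [hconj]
  refine ⟨?_, ?_⟩
  · have hpow : ∀ k : ℕ, e.conj (toEnd u0 - 1) ^ k = e.conj ((toEnd u0 - 1) ^ k) := fun k => by
      induction k with
      | zero => exact (LinearEquiv.conj_id e).symm
      | succ k ih =>
        rw [pow_succ, pow_succ, ih]
        exact (LinearEquiv.conj_comp e _ _).symm
    rw [← e.finrank_eq, hpow, hu0.pow_eq_zero, map_zero]
  · refine le_trans ?_ hu0.ker_le_one
    rw [← e.finrank_map_eq (ker (toEnd u0 - 1))]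
    refine Submodule.finrank_mono fun y hy => ⟨e.symm y, ?_, e.apply_symm_apply y⟩
    rw [SetLike.mem_coe, LinearMap.mem_ker]
    rw [LinearMap.mem_ker, LinearEquiv.conj_apply_apply] at hy
    exact e.map_eq_zero_iff.1 hy

/-- Exactly two classes. -/
theorem card_classes [Finite K] (hB : IsSympForm B) (h2 : (2 : K) ≠ 0) (hodd : Odd (Nat.card K)) {m : ℕ}
    (hm : 1 ≤ m) (hdim : finrank K V = 2 * m) :
    Nat.card {C : ConjClasses (Isom B) // ∃ u : Isom B, ConjClasses.mk u = C ∧ IsReg u} = 2 := by
  classical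
  obtain ⟨u0, h0⟩ := exists_regular hB h2 hm hdim
  obtain ⟨d, hd⟩ := exists_data hB h2 hm hdim h0
  obtain ⟨hc0, u1, h1, hc1⟩ := d.exists_other hd h0 hodd
  rw [← Fintype.card_bool, ← Nat.card_eq_fintype_card]
  symm
  refine Nat.card_eq_of_bijective (fun b : Bool =>
    (⟨ConjClasses.mk (if b then u0 else u1), if b then u0 else u1, rfl, by cases b <;> assumption⟩ :
      {C : ConjClasses (Isom B) // ∃ u : Isom B, ConjClasses.mk u = C ∧ IsReg u})) ⟨?_, ?_⟩
  · intro a b hab
    have h := ConjClasses.mk_eq_mk_iff_isConj.1 (congrArg Subtype.val hab)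
    cases a <;> cases b
    · rfl
    · exact absurd (((d.isConj_iff_chi hd h0 hodd h1 h0).1 h).2 hc0) hc1
    · exact absurd (((d.isConj_iff_chi hd h0 hodd h0 h1).1 h).1 hc0) hc1
    · rfl
  · rintro ⟨C, u, rfl, hu⟩
    by_cases hc : d.Chi u0 u
    · exact ⟨true, Subtype.ext (ConjClasses.mk_eq_mk_iff_isConj.2
        ((d.isConj_iff_chi hd h0 hodd h0 hu).2 (iff_of_true hc0 hc)))⟩
    · exact ⟨false, Subtype.ext (ConjClasses.mk_eq_mk_iff_isConj.2
        ((d.isConj_iff_chi hd h0 hodd h1 hu).2 (iff_of_false hc1 hc)))⟩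

end Cfsg.Agent.Lib.RegularUnipotentSymp
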