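import Cfsg.Agent.Lib.RegularUnipotentSympClasses
import Cfsg.Agent.Lib.Symplectic.Std

/-!
# Regular unipotent matrices in `Matrix.symplecticGroup`
-/

set_option autoImplicit false

namespace Cfsg.Agent.Lib.RegularUnipotentSymp

open Matrix Module Cfsg.Agent.Lib.RegularUnipotent Cfsg.Agent.Lib.Symplectic

variable {F : Type*} [Field F] {m : ℕ}

theorem isReg_spEquiv (hm : 1 ≤ m) (u : symplecticGroup (Fin m) F) :
    IsReg (spEquiv m F u) ↔ (((u : Matrix (Fin m ⊕ Fin m) (Fin m ⊕ Fin m) F) - 1) ^ (2 * m) = 0 ∧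
      ((u : Matrix (Fin m ⊕ Fin m) (Fin m ⊕ Fin m) F) - 1).rank = 2 * m - 1) := by
  have hc : Fintype.card (Fin m ⊕ Fin m) = 2 * m := by simp [two_mul]
  have he : toEnd (spEquiv m F u) - 1 = Matrix.toLin' ((u : Matrix (Fin m ⊕ Fin m) (Fin m ⊕ Fin m) F) - 1) := by
    refine LinearMap.ext fun x => ?_
    rw [LinearMap.sub_apply, toEnd_apply, spEquiv_smul, Matrix.toLin'_apply, Matrix.sub_mulVec,
      Matrix.one_mulVec, Module.End.one_apply]
  unfold IsReg
  rw [he]
  constructor
  · intro h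
    refine ⟨Matrix.toLin'.injective ?_, ?_⟩
    · rw [map_zero, Matrix.toLin'_pow]
      have := h.pow_eq_zero
      rwa [finrank_pi, hc] at this
    · have h1 := finrank_range_pow h (k := 1) (by rw [finrank_pi, hc]; omega)
      rw [pow_one, finrank_pi, hc] at h1
      exact h1
  · rintro ⟨h1, h2⟩
    exact isRegNilp_toLin'' _ (hc.symm ▸ h1) (hc.symm ▸ h2)

theorem two_ne_zero_of_odd [Fintype F] (hq : Odd (Fintype.card F)) : (2 : F) ≠ 0 := by
  intro h
  have := FiniteField.even_card_of_char_two (F := F) (CharP.ringChar_of_prime_eq_zero Nat.prime_two (by exact_mod_cast h))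
  rw [Nat.odd_iff] at hq
  omega

end Cfsg.Agent.Lib.RegularUnipotentSymp
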