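import Mathlib
import Cfsg.Prelude.Def_ClassicalGeometry

/-!
Transvections `1 + v φᵀ` of `GL_n`: the normal form, transitivity of conjugation and a determinant correction.
-/

set_option autoImplicit false

namespace Cfsg.Agent.Lib.TransvectionClass

open Matrix Module

variable {n : ℕ} {F : Type*} [Field F]

/-- A centre–axis pair. -/
def IsPair (v φ : Fin n → F) : Prop := v ≠ 0 ∧ φ ≠ 0 ∧ φ ⬝ᵥ v = 0

/-- The transvection of a centre–axis pair. -/
def tvMat (v φ : Fin n → F) : Matrix (Fin n) (Fin n) F := 1 + vecMulVec v φ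

theorem trans_mulVec (v φ x : Fin n → F) : tvMat v φ *ᵥ x = x + (φ ⬝ᵥ x) • v := by
  rw [tvMat, add_mulVec, one_mulVec, vecMulVec_mulVec, op_smul_eq_smul]

theorem vecMulVec_self_mul {v φ : Fin n → F} (h : φ ⬝ᵥ v = 0) :
    vecMulVec v φ * vecMulVec v φ = 0 := by
  rw [vecMulVec_mul_vecMulVec, h, zero_smul, vecMulVec_zero]

theorem isTransvection_tvMat {v φ : Fin n → F} (h : IsPair v φ) : Cfsg.IsTransvection (tvMat v φ) := by
  refine ⟨?_, ?_⟩
  · rw [tvMat, add_sub_cancel_left]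
    refine le_antisymm (Matrix.rank_vecMulVec_le v φ) (Nat.one_le_iff_ne_zero.2 fun h0 => ?_)
    obtain ⟨i, hi⟩ := Function.ne_iff.1 h.1
    obtain ⟨j, hj⟩ := Function.ne_iff.1 h.2.1
    have h1 : LinearMap.range (vecMulVec v φ).mulVecLin = ⊥ := Submodule.finrank_eq_zero.1 h0
    have h2 := congrArg (fun f : (Fin n → F) →ₗ[F] (Fin n → F) => f (Pi.single j 1) i)
      (LinearMap.range_eq_bot.1 h1)
    simp [vecMulVec_apply] at h2
    rcases h2 with h2 | h2
    · exact hi h2
    · exact hj h2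
  · rw [tvMat, add_sub_cancel_left]
    exact vecMulVec_self_mul h.2.2

theorem exists_pair {t : Matrix (Fin n) (Fin n) F} (ht : Cfsg.IsTransvection t) :
    ∃ v φ, IsPair v φ ∧ t = tvMat v φ := by
  obtain ⟨hr, hsq⟩ := ht
  set M := t - 1 with hM
  obtain ⟨⟨v, hv⟩, hv0, hspan⟩ := finrank_eq_one_iff'.1 (show finrank F (LinearMap.range M.mulVecLin) = 1 from hr)
  have hv0' : v ≠ 0 := fun h => hv0 (Subtype.ext h)
  choose c hc using fun j : Fin n => hspan ⟨M *ᵥ Pi.single j 1, ⟨Pi.single j 1, rfl⟩⟩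
  have hMc : M = vecMulVec v c := by
    ext i j
    have h1 := congrFun (congrArg Subtype.val (hc j)) i
    simp only [SetLike.val_smul, Pi.smul_apply, smul_eq_mul, mulVec_single_one] at h1
    rw [vecMulVec_apply, mul_comm, h1]
    rfl
  have hc0 : c ≠ 0 := by
    rintro rfl
    rw [hMc, vecMulVec_zero, Matrix.rank_zero] at hr
    exact zero_ne_one hr
  refine ⟨v, c, ⟨hv0', hc0, ?_⟩, by rw [tvMat, ← hMc, hM, add_sub_cancel]⟩
  rw [hMc, vecMulVec_mul_vecMulVec] at hsq
  obtain ⟨i, hi⟩ := Function.ne_iff.1 hv0'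
  obtain ⟨j, hj⟩ := Function.ne_iff.1 hc0
  have h2 := congrFun (congrFun hsq i) j
  simp only [vecMulVec_apply, Pi.smul_apply, smul_eq_mul, Matrix.zero_apply, mul_eq_zero] at h2
  exact (h2.resolve_left hi).resolve_right hj

theorem exists_dot_eq_one {φ : Fin n → F} (h : φ ≠ 0) : ∃ a : Fin n → F, φ ⬝ᵥ a = 1 := by
  classical
  obtain ⟨j, hj⟩ := Function.ne_iff.1 h
  exact ⟨Pi.single j (φ j)⁻¹, by rw [dotProduct_single, mul_inv_cancel₀ hj]⟩

/-- Two non-zero vectors in spaces of the same finite dimension correspond under some isomorphism. -/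
theorem exists_equiv_map {V W : Type*} [AddCommGroup V] [Module F V] [AddCommGroup W] [Module F W]
    [FiniteDimensional F V] [FiniteDimensional F W] (hd : finrank F V = finrank F W)
    {v : V} {w : W} (hv : v ≠ 0) (hw : w ≠ 0) : ∃ e : V ≃ₗ[F] W, e v = w := by
  obtain ⟨C, hC⟩ := (F ∙ v).exists_isCompl
  obtain ⟨D, hD⟩ := (F ∙ w).exists_isCompl
  have hCD : finrank F C = finrank F D := by
    have h1 := Submodule.finrank_add_eq_of_isCompl hC
    have h2 := Submodule.finrank_add_eq_of_isCompl hD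
    rw [finrank_span_singleton hv] at h1
    rw [finrank_span_singleton hw] at h2
    omega
  refine ⟨((Submodule.prodEquivOfIsCompl _ C hC).symm.trans
    (((LinearEquiv.toSpanNonzeroSingleton F V v hv).symm.trans
      (LinearEquiv.toSpanNonzeroSingleton F W w hw)).prodCongr (LinearEquiv.ofFinrankEq C D hCD))).trans
    (Submodule.prodEquivOfIsCompl _ D hD), ?_⟩
  have h1 : (Submodule.prodEquivOfIsCompl _ C hC).symm v
      = (⟨v, Submodule.mem_span_singleton_self v⟩, 0) :=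
    Submodule.prodEquivOfIsCompl_symm_apply_left _ C hC ⟨v, Submodule.mem_span_singleton_self v⟩
  have h2 : (LinearEquiv.toSpanNonzeroSingleton F V v hv).symm ⟨v, Submodule.mem_span_singleton_self v⟩ = 1 := by
    rw [LinearEquiv.symm_apply_eq]
    exact Subtype.ext (one_smul F v).symm
  simp only [LinearEquiv.trans_apply, h1, LinearEquiv.prodCongr_apply, h2, map_zero,
    Submodule.coe_prodEquivOfIsCompl', ZeroMemClass.coe_zero, add_zero]
  exact one_smul F w

/-- The linear form `x ↦ φ ⬝ x`. -/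
def dotForm (φ : Fin n → F) : (Fin n → F) →ₗ[F] F where
  toFun x := φ ⬝ᵥ x
  map_add' x y := dotProduct_add φ x y
  map_smul' c x := by rw [dotProduct_smul, RingHom.id_apply]

theorem finrank_ker_dotForm {φ : Fin n → F} (h : φ ≠ 0) :
    finrank F (LinearMap.ker (dotForm φ)) = n - 1 := by
  have h1 := (dotForm φ).finrank_range_add_finrank_ker
  obtain ⟨a, ha⟩ := exists_dot_eq_one h
  have h2 : LinearMap.range (dotForm φ) = ⊤ := LinearMap.range_eq_top.2 fun c => ⟨c • a, by
    show φ ⬝ᵥ (c • a) = c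
    rw [dotProduct_smul, ha, smul_eq_mul, mul_one]⟩
  rw [h2, finrank_top, finrank_self, finrank_fintype_fun_eq_card, Fintype.card_fin] at h1
  omega

/-- GL is transitive on centre–axis pairs. -/
theorem exists_map_pair {v φ v' φ' : Fin n → F} (h : IsPair v φ) (h' : IsPair v' φ') :
    ∃ g : GL (Fin n) F, (g : Matrix (Fin n) (Fin n) F) *ᵥ v = v' ∧
      φ' ᵥ* (g : Matrix (Fin n) (Fin n) F) = φ := by
  obtain ⟨a, ha⟩ := exists_dot_eq_one h.2.1
  obtain ⟨a', ha'⟩ := exists_dot_eq_one h'.2.1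
  obtain ⟨e, he⟩ := exists_equiv_map (V := LinearMap.ker (dotForm φ)) (W := LinearMap.ker (dotForm φ'))
    (by rw [finrank_ker_dotForm h.2.1, finrank_ker_dotForm h'.2.1])
    (v := ⟨v, h.2.2⟩) (w := ⟨v', h'.2.2⟩) (fun hh => h.1 (congrArg Subtype.val hh))
    (fun hh => h'.1 (congrArg Subtype.val hh))
  let π : (Fin n → F) →ₗ[F] LinearMap.ker (dotForm φ) :=
    (LinearMap.id - (dotForm φ).smulRight a).codRestrict _ fun x => by
      rw [LinearMap.mem_ker]
      show φ ⬝ᵥ (x - (φ ⬝ᵥ x) • a) = 0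
      rw [dotProduct_sub, dotProduct_smul, ha, smul_eq_mul, mul_one, sub_self]
  let f : (Fin n → F) →ₗ[F] (Fin n → F) :=
    (LinearMap.ker (dotForm φ')).subtype.comp (e.toLinearMap.comp π) + (dotForm φ).smulRight a'
  have hf : ∀ x, f x = (e (π x) : Fin n → F) + (φ ⬝ᵥ x) • a' := fun x => rfl
  have hπv : ∀ x, (π x : Fin n → F) = x - (φ ⬝ᵥ x) • a := fun x => rfl
  have hφ : ∀ x, φ' ⬝ᵥ f x = φ ⬝ᵥ x := by
    intro x
    rw [hf, dotProduct_add, show φ' ⬝ᵥ (e (π x) : Fin n → F) = 0 from (e (π x)).2, dotProduct_smul, ha',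
      smul_eq_mul, mul_one, zero_add]
  have hinj : LinearMap.ker f = ⊥ := by
    rw [LinearMap.ker_eq_bot']
    intro x hx
    have h0 : φ ⬝ᵥ x = 0 := by rw [← hφ, hx, dotProduct_zero]
    rw [hf, h0, zero_smul, add_zero] at hx
    have hπ : π x = 0 := e.map_eq_zero_iff.1 (Subtype.ext hx)
    have h2 := congrArg Subtype.val hπ
    rw [hπv, h0, zero_smul, sub_zero] at h2
    exact h2
  have hdet : IsUnit (LinearMap.toMatrix' f) := by
    rw [← Matrix.mulVec_injective_iff_isUnit]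
    intro x y hxy
    rw [LinearMap.toMatrix'_mulVec, LinearMap.toMatrix'_mulVec] at hxy
    exact LinearMap.ker_eq_bot.1 hinj hxy
  refine ⟨hdet.unit, ?_, ?_⟩
  · rw [IsUnit.unit_spec, LinearMap.toMatrix'_mulVec, hf, h.2.2, zero_smul, add_zero]
    have : π v = ⟨v, h.2.2⟩ := Subtype.ext (show (π v : Fin n → F) = v by rw [hπv, h.2.2, zero_smul, sub_zero])
    rw [this, he]
  · funext j
    rw [IsUnit.unit_spec]
    have := hφ (Pi.single j 1)
    rw [← LinearMap.toMatrix'_mulVec, dotProduct_mulVec, dotProduct_single, dotProduct_single,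
      mul_one, mul_one] at this
    exact this

theorem mul_tvMat {v φ v' φ' : Fin n → F} {g : Matrix (Fin n) (Fin n) F}
    (h1 : g *ᵥ v = v') (h2 : φ' ᵥ* g = φ) : g * tvMat v φ = tvMat v' φ' * g := by
  rw [tvMat, tvMat, mul_add, add_mul, mul_one, one_mul, mul_vecMulVec, vecMulVec_mul, h1, h2]

/-- For `n ≥ 3` the pair stabiliser has every determinant. -/
theorem exists_det_fix {v φ : Fin n → F} (h : IsPair v φ) (hn : 3 ≤ n) (c : F) :
    ∃ D : Matrix (Fin n) (Fin n) F, D.det = c ∧ D *ᵥ v = v ∧ φ ᵥ* D = φ := by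
  -- a vector `w` in the axis outside the line of `v`
  obtain ⟨w, hw, hwv⟩ : ∃ w, w ∈ LinearMap.ker (dotForm φ) ∧ w ∉ (F ∙ v) := by
    by_contra hcon
    push Not at hcon
    have h1 := Submodule.finrank_mono (show LinearMap.ker (dotForm φ) ≤ (F ∙ v) from hcon)
    rw [finrank_ker_dotForm h.2.1, finrank_span_singleton h.1] at h1
    omega
  obtain ⟨ψ, hψw, hψ⟩ := Submodule.exists_dual_map_eq_bot_of_notMem hwv inferInstance
  have hψv : ψ v = 0 := by
    have h1 : ψ v ∈ (F ∙ v).map ψ := ⟨v, Submodule.mem_span_singleton_self v, rfl⟩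
    rwa [hψ, Submodule.mem_bot] at h1
  let u : Fin n → F := fun j => ψ (Pi.single j 1)
  have hu : ∀ x, u ⬝ᵥ x = ψ x := by
    intro x
    conv_rhs => rw [pi_eq_sum_univ' x]
    rw [map_sum]
    simp [u, dotProduct, mul_comm]
  refine ⟨1 + vecMulVec (((c - 1) * (ψ w)⁻¹) • w) u, ?_, ?_, ?_⟩
  · rw [vecMulVec_eq Unit, det_one_add_replicateCol_mul_replicateRow, dotProduct_smul, hu,
      smul_eq_mul, mul_assoc, inv_mul_cancel₀ hψw, mul_one, add_sub_cancel]
  · rw [add_mulVec, one_mulVec, vecMulVec_mulVec, op_smul_eq_smul, hu, hψv, zero_smul, add_zero]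
  · have hw' : φ ⬝ᵥ w = 0 := hw
    rw [vecMul_add, vecMul_one, vecMul_vecMulVec, dotProduct_smul, hw', smul_zero, zero_smul, add_zero]

end Cfsg.Agent.Lib.TransvectionClass
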