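import Mathlib

/-!
Sharply `k`-transitive actions: order, passage to a point stabilizer, simplicity in degrees 11 and 12.
-/

set_option autoImplicit false

namespace Cfsg.Agent.Lib.SharpTransitive

open MulAction

universe u v

variable {G : Type u} [Group G] {α : Type v} [MulAction G α]

/-- The action is sharply `k`-transitive. -/
def Sharp (G : Type u) [Group G] (α : Type v) [MulAction G α] (k : ℕ) : Prop :=
  IsMultiplyPretransitive G α k ∧ ∀ x : Fin k ↪ α, stabilizer G x = ⊥

theorem faithful {k : ℕ} (h : Sharp G α k) [Finite α] (hk : k ≤ Nat.card α) :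
    FaithfulSMul G α := by
  constructor
  intro g g' hg
  let := Fintype.ofFinite α
  have : k ≤ Fintype.card α := by rwa [← Nat.card_eq_fintype_card]
  obtain ⟨x⟩ : Nonempty (Fin k ↪ α) :=
    Function.Embedding.nonempty_of_card_le (by simpa using this)
  have hmem : g'⁻¹ * g ∈ stabilizer G x := by
    ext i
    simp [mul_smul, hg]
  rw [h.2 x, Subgroup.mem_bot] at hmem
  exact (inv_mul_eq_one.mp hmem).symm

theorem card_eq {k : ℕ} (h : Sharp G α k) [Finite α] (hk : k ≤ Nat.card α) :
    Nat.card G = (Nat.card α).descFactorial k := by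
  classical
  let := Fintype.ofFinite α
  have hk' : k ≤ Fintype.card α := by rwa [← Nat.card_eq_fintype_card]
  obtain ⟨x⟩ : Nonempty (Fin k ↪ α) :=
    Function.Embedding.nonempty_of_card_le (by simpa using hk')
  have := h.1
  have e := MulAction.index_stabilizer_of_transitive G x
  rw [h.2 x, Subgroup.index_bot] at e
  rw [e, Nat.card_eq_fintype_card, Fintype.card_embedding_eq, Fintype.card_fin,
    Nat.card_eq_fintype_card]

theorem isPretransitive {k : ℕ} (h : Sharp G α k) [Finite α] (hk1 : 1 ≤ k)
    (hk : k ≤ Nat.card α) : IsPretransitive G α := by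
  have := h.1
  exact is_one_pretransitive_iff.mp (isMultiplyPretransitive_of_le hk1 hk)

theorem stabilizer_sharp {k : ℕ} (h : Sharp G α (k + 1)) [Finite α]
    (hk : k + 1 ≤ Nat.card α) (a : α) :
    Sharp (stabilizer G a) (SubMulAction.ofStabilizer G a) k := by
  have := isPretransitive h (by omega) hk
  refine ⟨SubMulAction.ofStabilizer.isMultiplyPretransitive.mp h.1, fun x => ?_⟩
  rw [eq_bot_iff]
  intro g hg
  have hmem : (g : G) ∈ stabilizer G (SubMulAction.ofStabilizer.snoc x) := by
    rw [mem_stabilizer_iff]
    ext i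
    rw [Function.Embedding.smul_apply]
    rcases Fin.eq_castSucc_or_eq_last i with ⟨i, rfl⟩ | rfl
    · rw [SubMulAction.ofStabilizer.snoc_castSucc]
      have := congrArg (fun y : Fin k ↪ _ => ((y i : SubMulAction.ofStabilizer G a) : α))
        (mem_stabilizer_iff.mp hg)
      exact this
    · rw [SubMulAction.ofStabilizer.snoc_last]
      exact g.2
  rw [h.2] at hmem
  exact Subgroup.mem_bot.mpr (Subtype.ext (Subgroup.mem_bot.mp hmem))

/-- A normal subgroup of a quasiprimitive faithful action is trivial or transitive. -/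
theorem normal_bot_or_transitive [FaithfulSMul G α] [IsQuasiPreprimitive G α]
    (N : Subgroup G) [N.Normal] : N = ⊥ ∨ IsPretransitive N α := by
  by_cases hfp : fixedPoints N α = .univ
  · left
    rw [eq_bot_iff]
    intro n hn
    rw [Subgroup.mem_bot]
    apply FaithfulSMul.eq_of_smul_eq_smul (α := α)
    intro x
    have hx : x ∈ fixedPoints N α := hfp ▸ Set.mem_univ x
    rw [one_smul]
    exact hx ⟨n, hn⟩
  · exact Or.inr (IsQuasiPreprimitive.isPretransitive_of_normal hfp)

theorem card_orbit_dvd_of_transitive {N : Subgroup G} [Finite α] [Nonempty α]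
    (hN : IsPretransitive N α) :
    Nat.card α * Nat.card (stabilizer N (Classical.arbitrary α)) = Nat.card N := by
  rw [← MulAction.index_stabilizer_of_transitive N (Classical.arbitrary α),
    Subgroup.index_mul_card]

/-- A sharply 4-transitive group of degree 11 is simple. -/
theorem isSimpleGroup_eleven [Finite α] (hα : Nat.card α = 11) (h : Sharp G α 4) :
    IsSimpleGroup G := by
  classical
  have hcard : Nat.card G = 7920 := by
    rw [card_eq h (by omega), hα]; decide
  have : Finite G := Nat.finite_of_card_ne_zero (by omega)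
  have hne : Nonempty α := (Nat.card_pos_iff.mp (by omega)).1
  have := faithful h (by omega)
  have := isPretransitive h (by norm_num) (by omega)
  have : IsPreprimitive G α := IsPreprimitive.of_prime_card (by rw [hα]; norm_num)
  have : Fact (Nat.Prime 11) := ⟨by norm_num⟩
  obtain ⟨P⟩ : Nonempty (Sylow 11 G) := inferInstance
  -- order of P
  have hP : Nat.card P = 11 := by
    rw [P.card_eq_multiplicity, hcard]
    have : (7920 : ℕ).factorization 11 = 1 := by
      rw [show (7920 : ℕ) = 11 * 720 by norm_num, Nat.factorization_mul (by norm_num) (by norm_num),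
        Finsupp.add_apply, Nat.Prime.factorization_self (by norm_num),
        Nat.factorization_eq_zero_of_not_dvd (by norm_num)]
    rw [this, pow_one]
  -- P is transitive on the points
  have hPne : (P : Subgroup G) ≠ ⊥ := by
    intro hbot
    rw [hbot, Subgroup.card_bot] at hP
    omega
  obtain ⟨c, hcP, hc1⟩ : ∃ c ∈ (P : Subgroup G), c ≠ 1 := by
    contrapose! hPne
    rw [eq_bot_iff]
    intro x hx
    exact Subgroup.mem_bot.mpr (hPne x hx)
  obtain ⟨a, ha⟩ : ∃ a : α, c • a ≠ a := by
    by_contra hno
    push Not at hno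
    exact hc1 (FaithfulSMul.eq_of_smul_eq_smul (α := α) (by simpa using hno))
  have hPtrans : IsPretransitive (P : Subgroup G) α := by
    rw [isPretransitive_iff_orbit_eq_univ a, Set.eq_univ_iff_ncard, hα,
      ← Nat.card_coe_set_eq]
    have hdvd : Nat.card (orbit (P : Subgroup G) a) ∣ 11 := by
      refine Dvd.dvd.trans ?_ (dvd_of_eq hP)
      rw [Nat.card_coe_set_eq, ← index_stabilizer]
      exact Subgroup.index_dvd_card _
    rcases (Nat.dvd_prime (by norm_num)).mp hdvd with h1 | h11
    · exfalso
      apply ha
      have : Subsingleton (orbit (P : Subgroup G) a) :=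
        (Nat.card_eq_one_iff_unique.mp h1).1
      exact congrArg Subtype.val (this.elim
        (⟨c • a, mem_orbit a (⟨c, hcP⟩ : (P : Subgroup G))⟩ : orbit (P : Subgroup G) a)
        ⟨a, mem_orbit_self a⟩)
    · exact h11
  -- centralizer of P acts semiregularly
  have hcent : Nat.card (Subgroup.centralizer ((P : Subgroup G) : Set G)) ≤ 11 := by
    refine le_trans ?_ (le_of_eq hα)
    apply Nat.card_le_card_of_injective
      (fun g : Subgroup.centralizer ((P : Subgroup G) : Set G) => (g : G) • a)
    intro g g' hgg
    apply Subtype.ext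
    apply FaithfulSMul.eq_of_smul_eq_smul (α := α)
    intro x
    obtain ⟨⟨q, hq⟩, rfl⟩ := hPtrans.exists_smul_eq a x
    have e1 := (Subgroup.mem_centralizer_iff.mp g.2) q hq
    have e2 := (Subgroup.mem_centralizer_iff.mp g'.2) q hq
    show (g : G) • q • a = (g' : G) • q • a
    rw [← mul_smul, ← mul_smul, ← e1, ← e2, mul_smul, mul_smul]
    exact congrArg (q • ·) hgg
  -- normalizer bound
  have hnorm : Nat.card (Subgroup.normalizer ((P : Subgroup G) : Set G)) ≤ 110 := by
    let f := Subgroup.normalizerMonoidHom (P : Subgroup G)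
    have h1 : Nat.card f.range ≤ 10 := by
      have hcyc : IsCyclic (P : Subgroup G) := isCyclic_of_prime_card (p := 11) hP
      refine le_trans (Subgroup.card_le_card_group _) (le_of_eq ?_)
      rw [IsCyclic.card_mulAut, hP]
      decide
    have h2 : Nat.card f.ker ≤ 11 := by
      rw [Subgroup.normalizerMonoidHom_ker]
      refine le_trans (le_of_eq ?_) hcent
      exact Nat.card_congr (Subgroup.subgroupOfEquivOfLe
        (Subgroup.centralizer_le_normalizer _)).toEquiv
    rw [← Subgroup.card_mul_index f.ker, Subgroup.index_ker]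
    exact le_trans (Nat.mul_le_mul h2 h1) (by norm_num)
  -- number of Sylow 11-subgroups
  have hn : Nat.card (Sylow 11 G) = 144 := by
    have h1 : Nat.card (Sylow 11 G) *
        Nat.card (Subgroup.normalizer ((P : Subgroup G) : Set G)) = 7920 := by
      have e := (Subgroup.normalizer ((P : Subgroup G) : Set G)).index_mul_card
      rw [hcard] at e
      rw [Sylow.card_eq_index_normalizer P]
      exact e
    have h2 := card_sylow_modEq_one 11 G
    have h3 : Nat.card (Sylow 11 G) ∣ 720 := by
      have := Sylow.card_dvd_index P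
      have e := (P : Subgroup G).index_mul_card
      rw [hP, hcard] at e
      have hi : (P : Subgroup G).index = 720 := by omega
      rwa [hi] at this
    generalize Nat.card (Sylow 11 G) = n at h1 h2 h3
    have h4 : 72 ≤ n := by
      by_contra hlt
      nlinarith [hnorm]
    have h5 : n ≤ 720 := Nat.le_of_dvd (by norm_num) h3
    have key : ∀ m ∈ Finset.Icc 72 720, m ∣ 720 → m % 11 = 1 → m = 144 := by decide +kernel
    exact key n (Finset.mem_Icc.mpr ⟨h4, h5⟩) h3 h2
  have : Nontrivial G := Finite.one_lt_card_iff_nontrivial.mp (by omega)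
  refine ⟨fun N hN => ?_⟩
  rcases normal_bot_or_transitive (α := α) N with hbot | htr
  · exact Or.inl hbot
  right
  have h11 : 11 ∣ Nat.card N := ⟨_, by rw [← card_orbit_dvd_of_transitive htr, hα]⟩
  -- all Sylow 11-subgroups lie in N
  have hle : ∀ Q : Sylow 11 G, (Q : Subgroup G) ≤ N := by
    obtain ⟨x, hx⟩ := exists_prime_orderOf_dvd_card' (G := N) 11 h11
    have hpg : IsPGroup 11 (Subgroup.zpowers (x : G)) := by
      apply IsPGroup.of_card (n := 1)
      rw [Nat.card_zpowers, Subgroup.orderOf_coe, hx, pow_one]
    obtain ⟨Q₀, hQ₀⟩ := hpg.exists_le_sylow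
    have hQ : (Q₀ : Subgroup G) ≤ N := by
      have e : Subgroup.zpowers (x : G) = Q₀ := by
        apply Subgroup.eq_of_le_of_card_ge hQ₀
        refine le_of_eq ?_
        rw [Nat.card_zpowers, Subgroup.orderOf_coe, hx]
        exact (Q₀.card_eq_multiplicity.trans P.card_eq_multiplicity.symm).trans hP
      rw [← e, Subgroup.zpowers_le]
      exact x.2
    intro Q
    obtain ⟨g, rfl⟩ := MulAction.exists_smul_eq G Q₀ Q
    intro y hy
    obtain ⟨z, hz, rfl⟩ := hy
    exact hN.conj_mem z (hQ hz) g
  have hN144 : 144 ∣ Nat.card N := by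
    have e : Nat.card (Sylow 11 N) = 144 := by
      rw [← hn]
      refine Nat.card_congr (Equiv.ofBijective (fun Q => ?_) ⟨?_, ?_⟩).symm
      · exact Q.subtype (hle Q)
      · intro Q Q' hQQ
        exact Sylow.subtype_injective hQQ
      · intro R
        obtain ⟨Q, hQ⟩ := (R.2.map N.subtype).exists_le_sylow
        refine ⟨Q, Sylow.ext ?_⟩
        rw [Sylow.coe_subtype]
        exact R.3 (Q.2.comap_of_injective N.subtype Subtype.val_injective)
          (Subgroup.map_le_iff_le_comap.mp hQ)
    rw [← e]
    exact (Sylow.card_dvd_index (default : Sylow 11 N)).trans (Subgroup.index_dvd_card _)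
  have h1584 : 1584 ∣ Nat.card N := Nat.Coprime.mul_dvd_of_dvd_of_dvd (m := 11) (n := 144) (by norm_num) h11 hN144
  have hdvd : Nat.card N ∣ 7920 := hcard ▸ Subgroup.card_subgroup_dvd_card N
  obtain ⟨m, hm⟩ := h1584
  have hm5 : m ∣ 5 := (Nat.mul_dvd_mul_iff_left (a := 1584) (by norm_num)).mp (by rw [← hm]; exact hdvd)
  rcases (Nat.dvd_prime (by norm_num)).mp hm5 with rfl | rfl
  · -- index 5 : impossible
    exfalso
    let S := stabilizer G a
    have hS : Sharp S (SubMulAction.ofStabilizer G a) 3 := stabilizer_sharp h (by omega) a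
    have hX : Nat.card (SubMulAction.ofStabilizer G a) = 10 := by
      rw [SubMulAction.nat_card_ofStabilizer_eq, hα]
    have := faithful hS (by omega)
    have hne' : Nonempty (SubMulAction.ofStabilizer G a) := (Nat.card_pos_iff.mp (by omega)).1
    have h2 : IsMultiplyPretransitive S (SubMulAction.ofStabilizer G a) 2 := by
      have := hS.1
      exact isMultiplyPretransitive_of_le (n := 3) (by norm_num) (by omega)
    have := isPreprimitive_of_is_two_pretransitive h2
    have hNa : Nat.card (N.subgroupOf S) = 144 := by
      have e := card_orbit_dvd_of_transitive htr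
      have e2 := MulAction.index_stabilizer_of_transitive N a
      have e3 := (stabilizer N a).index_mul_card
      rw [e2, hα, hm] at e3
      let φ : N.subgroupOf S ≃ stabilizer N a :=
        { toFun := fun g => ⟨⟨(g : G), Subgroup.mem_subgroupOf.mp g.2⟩,
            mem_stabilizer_iff.mpr (mem_stabilizer_iff.mp (g : S).2)⟩
          invFun := fun g => ⟨⟨((g : N) : G), mem_stabilizer_iff.mpr (mem_stabilizer_iff.mp g.2)⟩,
            Subgroup.mem_subgroupOf.mpr (g : N).2⟩
          left_inv := fun g => rfl
          right_inv := fun g => rfl }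
      rw [Nat.card_congr φ]
      omega
    rcases normal_bot_or_transitive (α := SubMulAction.ofStabilizer G a) (N.subgroupOf S) with
      hb | ht
    · rw [hb, Subgroup.card_bot] at hNa; omega
    · have e := card_orbit_dvd_of_transitive ht
      rw [hX, hNa] at e
      omega
  · exact Subgroup.eq_top_of_card_eq N (by omega)

/-- A sharply 5-transitive group of degree 12 is simple. -/
theorem isSimpleGroup_twelve [Finite α] (hα : Nat.card α = 12) (h : Sharp G α 5) :
    IsSimpleGroup G := by
  classical
  have hcard : Nat.card G = 95040 := by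
    rw [card_eq h (by omega), hα]; decide
  have : Finite G := Nat.finite_of_card_ne_zero (by omega)
  have hne : Nonempty α := (Nat.card_pos_iff.mp (by omega)).1
  have := faithful h (by omega)
  have := h.1
  have := isPretransitive h (by norm_num) (by omega)
  have h2 : IsMultiplyPretransitive G α 2 :=
    isMultiplyPretransitive_of_le (n := 5) (by norm_num) (by omega)
  have := isPreprimitive_of_is_two_pretransitive h2
  have : Nontrivial G := Finite.one_lt_card_iff_nontrivial.mp (by omega)
  refine ⟨fun N hN => ?_⟩
  rcases normal_bot_or_transitive (α := α) N with hbot | htr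
  · exact Or.inl hbot
  right
  let a := Classical.arbitrary α
  let S := stabilizer G a
  have hX : Nat.card (SubMulAction.ofStabilizer G a) = 11 := by
    rw [SubMulAction.nat_card_ofStabilizer_eq, hα]
  have hSsimple : IsSimpleGroup S := isSimpleGroup_eleven hX (stabilizer_sharp h (by omega) a)
  rcases hSsimple.eq_bot_or_eq_top_of_normal (N.subgroupOf S) inferInstance with hb | ht
  · -- regular normal subgroup of order 12
    exfalso
    have hinj : ∀ n ∈ N, n • a = a → n = 1 := by
      intro n hn hna
      have hmem : (⟨n, mem_stabilizer_iff.mpr hna⟩ : S) ∈ N.subgroupOf S :=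
        Subgroup.mem_subgroupOf.mpr hn
      rw [hb, Subgroup.mem_bot] at hmem
      exact congrArg Subtype.val hmem
    have hbij : Function.Bijective (fun n : N => (n : G) • a) := by
      refine ⟨fun n n' e => ?_, fun x => htr.exists_smul_eq a x⟩
      apply Subtype.ext
      have := hinj ((n' : G)⁻¹ * n) (N.mul_mem (N.inv_mem n'.2) n.2)
        (by rw [mul_smul, inv_smul_eq_iff]; exact e)
      exact (inv_mul_eq_one.mp this).symm
    have hN12 : Nat.card N = 12 := by rw [Nat.card_eq_of_bijective _ hbij, hα]
    obtain ⟨x, hx⟩ := exists_prime_orderOf_dvd_card' (G := N) (hp := ⟨Nat.prime_two⟩) 2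
      (by rw [hN12]; norm_num)
    obtain ⟨y, hy⟩ := exists_prime_orderOf_dvd_card' (G := N) (hp := ⟨Nat.prime_three⟩) 3
      (by rw [hN12]; norm_num)
    have hxa : (x : G) • a ≠ a := fun e => by
      have : x = 1 := Subtype.ext (hinj _ x.2 e)
      rw [this, orderOf_one] at hx; omega
    have hya : (y : G) • a ≠ a := fun e => by
      have : y = 1 := Subtype.ext (hinj _ y.2 e)
      rw [this, orderOf_one] at hy; omega
    rw [is_two_pretransitive_iff] at h2
    obtain ⟨g, hga, hgx⟩ := h2 (Ne.symm hxa) (Ne.symm hya)
    have hconj : g * (x : G) * g⁻¹ = y := by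
      have hmem : g * (x : G) * g⁻¹ ∈ N := hN.conj_mem _ x.2 g
      have e : (⟨_, hmem⟩ : N) = y := by
        apply hbij.1
        show (g * (x : G) * g⁻¹) • a = (y : G) • a
        rw [mul_smul, mul_smul, inv_smul_eq_iff.mpr hga.symm, hgx]
      exact congrArg Subtype.val e
    have : orderOf (g * (x : G) * g⁻¹) = orderOf (x : G) :=
      MulEquiv.orderOf_eq (MulAut.conj g) _
    rw [hconj, Subgroup.orderOf_coe, Subgroup.orderOf_coe, hx, hy] at this
    omega
  · rw [Subgroup.subgroupOf_eq_top] at ht
    rw [eq_top_iff]
    intro g _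
    obtain ⟨n, hn⟩ := htr.exists_smul_eq a (g • a)
    have : (n : G)⁻¹ * g ∈ S := by
      rw [mem_stabilizer_iff, mul_smul, inv_smul_eq_iff]
      exact hn.symm
    have := N.mul_mem n.2 (ht this)
    rwa [mul_inv_cancel_left] at this

end Cfsg.Agent.Lib.SharpTransitive
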