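import Cfsg.Agent.Lib.Perm.Sharply2
import Cfsg.Agent.Lib.SharpTransitive

/-!
Degrees of sharply `k`-transitive groups for `k ≥ 4`.
-/

set_option autoImplicit false
set_option linter.unusedSectionVars false

namespace Cfsg.Agent.Lib.SharpFour

open MulAction SharpTransitive

universe u v

variable {G : Type u} [Group G] {α : Type v} [MulAction G α]

theorem four_injective {a b c d : α} (hab : a ≠ b) (hac : a ≠ c) (had : a ≠ d) (hbc : b ≠ c)
    (hbd : b ≠ d) (hcd : c ≠ d) : Function.Injective ![a, b, c, d] := by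
  intro i j h
  fin_cases i <;> fin_cases j <;> simp_all

theorem eq_one_of_four (h : Sharp G α 4) {g : G} {a b c d : α} (hab : a ≠ b) (hac : a ≠ c)
    (had : a ≠ d) (hbc : b ≠ c) (hbd : b ≠ d) (hcd : c ≠ d) (ha : g • a = a) (hb : g • b = b)
    (hc : g • c = c) (hd : g • d = d) : g = 1 := by
  have hm : g ∈ stabilizer G (⟨_, four_injective hab hac had hbc hbd hcd⟩ : Fin 4 ↪ α) := by
    rw [mem_stabilizer_iff]
    ext i
    fin_cases i <;> assumption
  rwa [h.2, Subgroup.mem_bot] at hm

theorem exists_map_four (h : Sharp G α 4) {a b c d a' b' c' d' : α} (hab : a ≠ b) (hac : a ≠ c)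
    (had : a ≠ d) (hbc : b ≠ c) (hbd : b ≠ d) (hcd : c ≠ d) (hab' : a' ≠ b') (hac' : a' ≠ c')
    (had' : a' ≠ d') (hbc' : b' ≠ c') (hbd' : b' ≠ d') (hcd' : c' ≠ d') :
    ∃ g : G, g • a = a' ∧ g • b = b' ∧ g • c = c' ∧ g • d = d' := by
  have := h.1
  obtain ⟨g, hg⟩ := MulAction.exists_smul_eq G
    (⟨_, four_injective hab hac had hbc hbd hcd⟩ : Fin 4 ↪ α)
    ⟨_, four_injective hab' hac' had' hbc' hbd' hcd'⟩
  exact ⟨g, DFunLike.congr_fun hg 0, DFunLike.congr_fun hg 1, DFunLike.congr_fun hg 2,
    DFunLike.congr_fun hg 3⟩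

variable [Fintype α]

theorem fixed_le_three [DecidableEq α] (h : Sharp G α 4) {g : G} (hg : g ≠ 1) :
    (Finset.univ.filter fun p : α => g • p = p).card ≤ 3 := by
  by_contra hlt
  obtain ⟨s, hs, hs4⟩ := Finset.exists_subset_card_eq (Nat.succ_le_of_lt (not_le.mp hlt))
  obtain ⟨a, b, c, d, hab, hac, had, hbc, hbd, hcd, rfl⟩ := Finset.card_eq_four.mp hs4
  have hf : ∀ p ∈ ({a, b, c, d} : Finset α), g • p = p := fun p hp =>
    (Finset.mem_filter.mp (hs hp)).2
  exact hg (eq_one_of_four h hab hac had hbc hbd hcd (hf a (by simp)) (hf b (by simp))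
    (hf c (by simp)) (hf d (by simp)))

section Involution

variable {g : G}

theorem conj_mul_of_sq (hg : g * g = 1) (s t : G) : g * (s * t) * g = (g * s * g) * (g * t * g) := by
  simp only [mul_assoc]; rw [← mul_assoc g g, hg, one_mul]

theorem conj_inv_of_sq (hg : g * g = 1) (t : G) : g * t⁻¹ * g = (g * t * g)⁻¹ := by
  rw [mul_inv_rev, mul_inv_rev, inv_eq_of_mul_eq_one_right hg, mul_assoc]

theorem conj_conj_of_sq (hg : g * g = 1) (t : G) : g * (g * t * g) * g = t := by
  simp only [mul_assoc, hg, mul_one]; rw [← mul_assoc, hg, one_mul]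

theorem mem_centralizer_of_sq (hg : g * g = 1) {t : G} (h : g * t * g = t) :
    t ∈ Subgroup.centralizer {g} := by
  rw [Subgroup.mem_centralizer_singleton_iff]
  conv_lhs => rw [← h, mul_assoc (g * t), hg, mul_one]

end Involution

/-- The regular normal subgroup of a two-point stabiliser, inside the whole group. -/
theorem exists_translations [Finite G] (h : Sharp G α 4) (h6 : 6 ≤ Fintype.card α) {a b : α}
    (hab : a ≠ b) :
    ∃ (p j : ℕ) (M : Subgroup G), p.Prime ∧ Fintype.card α = p ^ j + 2 ∧ Nat.card M = p ^ j ∧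
      (∀ s ∈ M, ∀ t ∈ M, s * t = t * s) ∧ (∀ t ∈ M, t ^ p = 1) ∧
      (∀ g, g ∈ M ↔ g • a = a ∧ g • b = b ∧ (g = 1 ∨ ∀ q, q ≠ a → q ≠ b → g • q ≠ q)) ∧
      ∀ u, u ≠ a → u ≠ b → ∀ w, w ≠ a → w ≠ b → ∃ t ∈ M, t • u = w := by
  classical
  let S : Subgroup G := stabilizer G a ⊓ stabilizer G b
  let β : SubMulAction S α :=
    { carrier := {q | q ≠ a ∧ q ≠ b}
      smul_mem' := fun s q hq => ⟨fun e => hq.1 (smul_left_cancel (s : G)
          (e.trans (s.2.1 : (s : G) • a = a).symm)),
        fun e => hq.2 (smul_left_cancel (s : G) (e.trans (s.2.2 : (s : G) • b = b).symm))⟩ }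
  haveI : Fintype β := Fintype.ofFinite β
  have hne : ∀ q : β, (q : α) ≠ a ∧ (q : α) ≠ b := fun q => q.2
  have hcard : Fintype.card α = Fintype.card β + 2 := by
    have e : (Finset.univ.filter fun q : α => q ≠ a ∧ q ≠ b) = Finset.univ \ {a, b} := by
      ext q; simp
    have e2 : Fintype.card β = (Finset.univ.filter fun q : α => q ≠ a ∧ q ≠ b).card :=
      Fintype.card_of_subtype _ fun q => by
        simp only [Finset.mem_filter, Finset.mem_univ, true_and]; exact Iff.rfl
    rw [e2, e, Finset.card_sdiff_of_subset (Finset.subset_univ _), Finset.card_univ,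
      Finset.card_pair hab]
    omega
  have hsharp : ∀ x : Fin 2 ↪ β, stabilizer S x = ⊥ := fun x => by
    rw [eq_bot_iff]
    intro s hs
    have hi : ∀ i, (s : G) • (x i : α) = x i := fun i =>
      congrArg Subtype.val (DFunLike.congr_fun (mem_stabilizer_iff.mp hs) i)
    exact Subgroup.mem_bot.mpr (Subtype.ext (eq_one_of_four h hab (hne (x 0)).1.symm
      (hne (x 1)).1.symm (hne (x 0)).2.symm (hne (x 1)).2.symm
      (fun e => absurd (x.injective (Subtype.ext e)) (by decide)) s.2.1 s.2.2 (hi 0) (hi 1)))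
  haveI : IsMultiplyPretransitive S β 2 := by
    rw [isMultiplyPretransitive_iff]
    intro x y
    obtain ⟨g, g1, g2, g3, g4⟩ := exists_map_four h hab (hne (x 0)).1.symm
      (hne (x 1)).1.symm (hne (x 0)).2.symm (hne (x 1)).2.symm
      (fun e => absurd (x.injective (Subtype.ext e)) (by decide)) hab (hne (y 0)).1.symm
      (hne (y 1)).1.symm (hne (y 0)).2.symm (hne (y 1)).2.symm
      (fun e => absurd (y.injective (Subtype.ext e)) (by decide))
    refine ⟨⟨g, g1, g2⟩, ?_⟩
    ext i
    fin_cases i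
    · exact g3
    · exact g4
  haveI : FaithfulSMul S β := by
    constructor
    intro s s' hss
    obtain ⟨x⟩ : Nonempty (Fin 2 ↪ β) :=
      Function.Embedding.nonempty_of_card_le (by rw [Fintype.card_fin]; omega)
    have hm : s'⁻¹ * s ∈ stabilizer S x := by
      rw [mem_stabilizer_iff]
      ext i
      rw [Function.Embedding.smul_apply, mul_smul, hss, inv_smul_smul]
    rw [hsharp, Subgroup.mem_bot] at hm
    exact (inv_mul_eq_one.mp hm).symm
  obtain ⟨p, j, N, hp, -, hn, hN, -, hcomm, hexp, htr, -, hmem⟩ :=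
    Perm.Sharply2.exists_kernel (G := S) (α := β) hsharp (by omega)
  refine ⟨p, j, N.map S.subtype, hp, by omega, ?_, ?_, ?_, fun g => ⟨?_, ?_⟩, ?_⟩
  · rw [← hN]
    exact Nat.card_congr (N.equivMapOfInjective _ S.subtype_injective).toEquiv.symm
  · rintro _ ⟨s, hs, rfl⟩ _ ⟨t, ht, rfl⟩
    exact congrArg (fun z : N => ((z : S) : G)) (hcomm.is_comm.comm ⟨s, hs⟩ ⟨t, ht⟩)
  · rintro _ ⟨t, ht, rfl⟩
    exact congrArg Subtype.val (hexp t ht)
  · rintro ⟨s, hs, rfl⟩
    refine ⟨s.2.1, s.2.2, ?_⟩
    rcases (hmem s).mp hs with e | e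
    · exact Or.inl (congrArg Subtype.val e)
    · exact Or.inr fun q h1 h2 he => e ⟨q, h1, h2⟩ (Subtype.ext he)
  · rintro ⟨h1, h2, h3⟩
    refine ⟨⟨g, h1, h2⟩, (hmem _).mpr ?_, rfl⟩
    rcases h3 with e | e
    · exact Or.inl (Subtype.ext e)
    · exact Or.inr fun q he => e q.1 q.2.1 q.2.2 (congrArg Subtype.val he)
  · intro u h1 h2 w h1' h2'
    obtain ⟨t, ht⟩ := exists_smul_eq N (⟨u, h1, h2⟩ : β) ⟨w, h1', h2'⟩
    exact ⟨((t : S) : G), ⟨t.1, t.2, rfl⟩, congrArg Subtype.val ht⟩

/-- The degree of a sharply 4-transitive group is 4, 5, 6 or 11. -/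
theorem degree_four [Finite G] (h : Sharp G α 4) (h4 : 4 ≤ Fintype.card α) :
    Fintype.card α = 4 ∨ Fintype.card α = 5 ∨ Fintype.card α = 6 ∨ Fintype.card α = 11 := by
  classical
  rcases Nat.lt_or_ge (Fintype.card α) 7 with h7 | h7
  · omega
  obtain ⟨w⟩ : Nonempty (Fin 4 ↪ α) := Function.Embedding.nonempty_of_card_le (by simpa using h4)
  obtain ⟨a, b, c, d, hab, hac, had, hbc, hbd, hcd⟩ :
      ∃ a b c d : α, a ≠ b ∧ a ≠ c ∧ a ≠ d ∧ b ≠ c ∧ b ≠ d ∧ c ≠ d :=
    ⟨w 0, w 1, w 2, w 3, by simp, by simp, by simp, by simp, by simp, by simp⟩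
  obtain ⟨x, xa, xb, xc, xd⟩ := exists_map_four h hab hac had hbc hbd hcd hab had hac hbd hbc hcd.symm
  obtain ⟨y, ya, yb, yc, yd⟩ := exists_map_four h hab hac had hbc hbd hcd hab.symm hbc hbd hac had hcd
  have four : ∀ g : G, g • a = a → g • b = b → g • c = c → g • d = d → g = 1 :=
    fun g => eq_one_of_four h hab hac had hbc hbd hcd
  have hxx : x * x = 1 := four _ (by rw [mul_smul, xa, xa]) (by rw [mul_smul, xb, xb])
    (by rw [mul_smul, xc, xd]) (by rw [mul_smul, xd, xc])
  have hyy : y * y = 1 := four _ (by rw [mul_smul, ya, yb]) (by rw [mul_smul, yb, ya])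
    (by rw [mul_smul, yc, yc]) (by rw [mul_smul, yd, yd])
  have hxy : x * y * x * y = 1 := four _
    (by simp only [mul_smul, ya, yb, xa, xb]) (by simp only [mul_smul, ya, yb, xa, xb])
    (by simp only [mul_smul, yc, yd, xc, xd]) (by simp only [mul_smul, yc, yd, xc, xd])
  have hx1 : x ≠ 1 := fun e => hcd (by rw [e, one_smul] at xc; exact xc)
  have hy1 : y ≠ 1 := fun e => hab (by rw [e, one_smul] at ya; exact ya)
  have hxi : x⁻¹ = x := inv_eq_of_mul_eq_one_right hxx
  have hyi : y⁻¹ = y := inv_eq_of_mul_eq_one_right hyy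
  have hcom : y * x = x * y := by
    have e : (x * y)⁻¹ = x * y := inv_eq_of_mul_eq_one_right (by rw [← hxy]; group)
    rwa [mul_inv_rev, hxi, hyi] at e
  obtain ⟨p, j, M, hp, hn, hM, hcomm, hexp, hmem, htrans⟩ := exists_translations h (by omega) hab
  have hMa : ∀ t ∈ M, t • a = a ∧ t • b = b := fun t ht => ⟨((hmem t).mp ht).1, ((hmem t).mp ht).2.1⟩
  have conjM : ∀ g : G, g * g = 1 → (g • a = a ∧ g • b = b ∨ g • a = b ∧ g • b = a) →
      ∀ t ∈ M, g * t * g ∈ M := by
    intro g hgg hgab t ht
    obtain ⟨ta, tb, hfree⟩ := (hmem t).mp ht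
    refine (hmem _).mpr ⟨?_, ?_, ?_⟩
    · rcases hgab with ⟨e1, e2⟩ | ⟨e1, e2⟩ <;> simp only [mul_smul, e1, e2, ta, tb]
    · rcases hgab with ⟨e1, e2⟩ | ⟨e1, e2⟩ <;> simp only [mul_smul, e1, e2, ta, tb]
    · rcases hfree with rfl | hfree
      · exact Or.inl (by rw [mul_one, hgg])
      · refine Or.inr fun q qa qb he => ?_
        have hq : ∀ r, g • q = r → q = g • r := fun r e => by
          rw [← e, smul_smul, hgg, one_smul]
        refine hfree (g • q) (fun e => ?_) (fun e => ?_) ?_
        · rcases hgab with ⟨e1, -⟩ | ⟨e1, -⟩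
          · exact qa ((hq _ e).trans e1)
          · exact qb ((hq _ e).trans e1)
        · rcases hgab with ⟨-, e2⟩ | ⟨-, e2⟩
          · exact qb ((hq _ e).trans e2)
          · exact qa ((hq _ e).trans e2)
        · rw [mul_smul, mul_smul] at he
          rw [← smul_left_cancel_iff g, smul_smul g g, hgg, one_smul, he]
  have hxM := conjM x hxx (Or.inl ⟨xa, xb⟩)
  have hyM := conjM y hyy (Or.inr ⟨ya, yb⟩)
  -- the fixed part of an involution on the translations
  have cent : ∀ (g : G) (e : α), g * g = 1 → e ≠ a → e ≠ b → g • e = e → g ≠ 1 →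
      (∀ t ∈ M, g * t * g ∈ M) → (M ⊓ Subgroup.centralizer {g} : Subgroup G) ≤ M ∧
      Nat.card (M ⊓ Subgroup.centralizer {g} : Subgroup G) ≤ 3 ∧
      ((g • a = a ∧ g • b = b) → ∀ t ∈ M, g * t * g = t → t = 1) := by
    intro g e hgg hea heb hge hg1 hgM
    have key : ∀ t : (M ⊓ Subgroup.centralizer {g} : Subgroup G),
        g • ((t : G) • e) = (t : G) • e := fun t => by
      rw [smul_smul, (Subgroup.mem_centralizer_singleton_iff.mp t.2.2).symm, mul_smul, hge]
    have inj : ∀ t ∈ M, t • e = e → t = 1 := fun t ht he =>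
      ((hmem t).mp ht).2.2.resolve_right fun h' => h' e hea heb he
    refine ⟨inf_le_left, ?_, ?_⟩
    · refine le_trans (Nat.card_le_card_of_injective
        (fun t : (M ⊓ Subgroup.centralizer {g} : Subgroup G) =>
          (⟨(t : G) • e, Finset.mem_filter.mpr ⟨Finset.mem_univ _, key t⟩⟩ :
            ↥(Finset.univ.filter fun q : α => g • q = q))) ?_) ?_
      · intro s t he
        have he' : (s : G) • e = (t : G) • e := congrArg Subtype.val he
        exact Subtype.ext (inv_mul_eq_one.mp (inj _ (M.mul_mem (M.inv_mem t.2.1) s.2.1)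
          (by rw [mul_smul, he', inv_smul_smul]))).symm
      · rw [Nat.card_eq_fintype_card, Fintype.card_coe]
        exact fixed_le_three h hg1
    · rintro ⟨g1, g2⟩ t ht hfix
      apply inj t ht
      by_contra hte
      apply hg1
      have h1 : g • (t • e) = t • e := by
        conv_rhs => rw [← hfix, mul_smul, mul_smul, hge]
      exact eq_one_of_four h hab hea.symm
        (fun e' => hea (smul_left_cancel t (e'.symm.trans (hMa t ht).1.symm)))
        heb.symm (fun e' => heb (smul_left_cancel t (e'.symm.trans (hMa t ht).2.symm)))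
        (Ne.symm hte) g1 g2 hge h1
  have hcard_dvd : ∀ K : Subgroup G, K ≤ M → ∃ i, i ≤ j ∧ Nat.card K = p ^ i := fun K hK =>
    (Nat.dvd_prime_pow hp).mp (hM ▸ Subgroup.card_dvd_of_le hK)
  by_cases hfix : ∃ e, e ≠ a ∧ e ≠ b ∧ x • e = e
  · obtain ⟨e, hea, heb, hxe⟩ := hfix
    have hye : y • e = e := by
      by_contra hne
      have h1 : x • (y • e) = y • e := by rw [smul_smul, ← hcom, mul_smul, hxe]
      exact hx1 (eq_one_of_four h hab hea.symm
        (fun e' => heb (smul_left_cancel y ((e'.symm.trans yb.symm))))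
        heb.symm (fun e' => hea (smul_left_cancel y (e'.symm.trans ya.symm)))
        (Ne.symm hne) xa xb hxe h1)
    obtain ⟨-, -, hxfree⟩ := cent x e hxx hea heb hxe hx1 hxM
    have hxfree := hxfree ⟨xa, xb⟩
    have hinv : ∀ t ∈ M, x * t * x = t⁻¹ := by
      let f : M → M := fun t => ⟨(t : G) * (x * t * x)⁻¹,
        M.mul_mem t.2 (M.inv_mem (hxM t t.2))⟩
      have hfi : Function.Injective f := fun s t e => by
        have e' : (s : G) * (x * s * x)⁻¹ = (t : G) * (x * t * x)⁻¹ := congrArg Subtype.val e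
        have h1 : x * ((t : G)⁻¹ * s) * x = (t : G)⁻¹ * s := by
          rw [conj_mul_of_sq hxx, conj_inv_of_sq hxx, eq_inv_mul_iff_mul_eq, ← mul_assoc, ← e',
            inv_mul_cancel_right]
        exact Subtype.ext (inv_mul_eq_one.mp
          (hxfree _ (M.mul_mem (M.inv_mem t.2) s.2) h1)).symm
      intro t ht
      obtain ⟨s, hs⟩ := (Finite.injective_iff_surjective.mp hfi) ⟨t, ht⟩
      have hs' : (s : G) * (x * s * x)⁻¹ = t := congrArg Subtype.val hs
      rw [← hs', conj_mul_of_sq hxx, conj_inv_of_sq hxx, conj_conj_of_sq hxx, mul_inv_rev, inv_inv]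
    have hp2 : p ≠ 2 := by
      rintro rfl
      obtain ⟨t, ht, hte⟩ := htrans e hea heb c hac.symm hbc.symm
      have ht1 : t⁻¹ = t := inv_eq_of_mul_eq_one_right (by rw [← pow_two]; exact hexp t ht)
      rw [hxfree t ht (by rw [hinv t ht, ht1]), one_smul] at hte
      subst hte
      exact hcd (hxe.symm.trans xc)
    -- `y` fixes exactly three translations
    set Cy : Subgroup G := M ⊓ Subgroup.centralizer {y}
    set Cz : Subgroup G := M ⊓ Subgroup.centralizer {x * y}
    have hzz : x * y * (x * y) = 1 := by rw [← mul_assoc]; exact hxy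
    have hz1 : x * y ≠ 1 := fun e' => hab (by
      have := congrArg (fun g => g • a) e'
      simpa [mul_smul, ya, xb] using this.symm)
    have hzM : ∀ t ∈ M, x * y * t * (x * y) ∈ M := fun t ht => by
      have := hxM _ (hyM t ht)
      convert this using 1
      rw [← hcom]; simp only [mul_assoc]; rw [hcom, ← mul_assoc x y, ← hcom, mul_assoc]
    obtain ⟨-, hy3, -⟩ := cent y e hyy hea heb hye hy1 hyM
    obtain ⟨-, hz3, -⟩ := cent (x * y) e hzz hea heb (by rw [mul_smul, hye, hxe]) hz1 hzM
    have hprod : p ^ j ≤ Nat.card Cy * Nat.card Cz := by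
      have hmy : ∀ t : M, y * ((t : G) * (y * t * y)) * y = (t : G) * (y * t * y) := fun t => by
        rw [conj_mul_of_sq hyy, conj_conj_of_sq hyy, hcomm _ t.2 _ (hyM t t.2)]
      have hmz : ∀ t : M, x * y * ((t : G) * (y * t * y)⁻¹) * (x * y) =
          (t : G) * (y * t * y)⁻¹ := fun t => by
        have hu := M.mul_mem t.2 (M.inv_mem (hyM t t.2))
        have h1 : y * ((t : G) * (y * t * y)⁻¹) * y = ((t : G) * (y * t * y)⁻¹)⁻¹ := by
          rw [conj_mul_of_sq hyy, conj_inv_of_sq hyy, conj_conj_of_sq hyy, mul_inv_rev, inv_inv]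
        calc x * y * ((t : G) * (y * t * y)⁻¹) * (x * y)
            = x * (y * ((t : G) * (y * t * y)⁻¹) * y) * x := by
              conv_lhs => arg 2; rw [← hcom]
              simp only [mul_assoc]
          _ = (t : G) * (y * t * y)⁻¹ := by rw [h1, conj_inv_of_sq hxx, hinv _ hu, inv_inv]
      let F : M → Cy × Cz := fun t =>
        (⟨(t : G) * (y * t * y), M.mul_mem t.2 (hyM t t.2), mem_centralizer_of_sq hyy (hmy t)⟩,
         ⟨(t : G) * (y * t * y)⁻¹, M.mul_mem t.2 (M.inv_mem (hyM t t.2)),
          mem_centralizer_of_sq hzz (hmz t)⟩)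
      have hF : Function.Injective F := fun s t e' => by
        have e1 : (s : G) * (y * s * y) = (t : G) * (y * t * y) :=
          congrArg (fun z => ((z.1 : Cy) : G)) e'
        have e2 : (s : G) * (y * s * y)⁻¹ = (t : G) * (y * t * y)⁻¹ :=
          congrArg (fun z => ((z.2 : Cz) : G)) e'
        have hsq : ∀ u : M, ((u : G) * (y * u * y)) * ((u : G) * (y * u * y)⁻¹) =
            (u : G) * u := fun u => by
          rw [mul_assoc, ← mul_assoc (y * (u : G) * y), hcomm _ (hyM u u.2) _ u.2,
            mul_inv_cancel_right]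
        have e3 : (s : G) * s = (t : G) * t := by rw [← hsq s, ← hsq t, e1, e2]
        have hM' := M.mul_mem (M.inv_mem t.2) s.2
        refine Subtype.ext (inv_mul_eq_one.mp (hxfree _ hM' ?_)).symm
        rw [hinv _ hM', inv_eq_iff_mul_eq_one]
        calc (t : G)⁻¹ * s * ((t : G)⁻¹ * s) = (t : G)⁻¹ * ((s : G) * (t : G)⁻¹) * s := by group
          _ = (t : G)⁻¹ * ((t : G)⁻¹ * s) * s := by rw [hcomm _ s.2 _ (M.inv_mem t.2)]
          _ = (t : G)⁻¹ * (t : G)⁻¹ * ((s : G) * s) := by group
          _ = 1 := by rw [e3]; group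
      have := Nat.card_le_card_of_injective F hF
      rwa [hM, Nat.card_prod] at this
    have hy3' : 3 ≤ Nat.card Cy := by
      have hc' : c ≠ e := fun e' => hcd (by rw [← e'] at hxe; exact hxe.symm.trans xc)
      have hd' : d ≠ e := fun e' => hcd (by rw [← e'] at hxe; exact xd.symm.trans hxe)
      obtain ⟨s, hs, hse⟩ := htrans e hea heb c hac.symm hbc.symm
      obtain ⟨t, ht, hte⟩ := htrans e hea heb d had.symm hbd.symm
      have hC : ∀ t ∈ M, y • (t • e) = t • e → t ∈ Cy := fun t ht he => by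
        refine ⟨ht, Subgroup.mem_centralizer_singleton_iff.mpr ?_⟩
        have h1 := M.mul_mem (M.inv_mem ht) (hyM t ht)
        have h2 : (t⁻¹ * (y * t * y)) • e = e := by
          rw [mul_smul, mul_smul, mul_smul, hye, he, inv_smul_smul]
        have h3 := ((hmem _).mp h1).2.2.resolve_right fun h' => h' e hea heb h2
        rw [inv_mul_eq_one] at h3
        conv_lhs => rw [h3]
        simp only [mul_assoc, hyy, mul_one]
      have hsC := hC s hs (by rw [hse, yc])
      have htC := hC t ht (by rw [hte, yd])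
      calc 3 = ({1, (⟨s, hsC⟩ : Cy), ⟨t, htC⟩} : Finset Cy).card := by
            rw [Finset.card_insert_of_notMem, Finset.card_pair]
            · intro e'
              exact hcd (hse.symm.trans ((congrArg (fun z : Cy => (z : G) • e) e').trans hte))
            · simp only [Finset.mem_insert, Finset.mem_singleton, not_or]
              refine ⟨fun e' => hc' ?_, fun e' => hd' ?_⟩
              · rw [← hse, ← congrArg (fun z : Cy => (z : G) • e) e']; exact one_smul _ _
              · rw [← hte, ← congrArg (fun z : Cy => (z : G) • e) e']; exact one_smul _ _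
        _ ≤ Nat.card Cy := by
            haveI : Fintype Cy := Fintype.ofFinite _
            rw [Nat.card_eq_fintype_card]; exact Finset.card_le_univ _
    obtain ⟨i, hij, hi⟩ := hcard_dvd Cy inf_le_left
    have h3 : p ^ i = 3 := hi ▸ le_antisymm hy3 hy3'
    have hp3 : p = 3 := by
      have : p ∣ 3 := h3 ▸ dvd_pow_self p (by rintro rfl; simp at h3)
      exact (Nat.prime_dvd_prime_iff_eq hp Nat.prime_three).mp this
    subst hp3
    have h9 : 3 ^ j ≤ 9 := hprod.trans (Nat.mul_le_mul hy3 hz3)
    have : j ≤ 2 := (Nat.pow_le_pow_iff_right (by norm_num)).mp (h9.trans_eq (by norm_num : 9 = 3 ^ 2))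
    interval_cases j <;> omega
  · push Not at hfix
    have hxmem : x ∈ M := (hmem x).mpr ⟨xa, xb, Or.inr hfix⟩
    have hp2 : p = 2 := by
      have h1 : orderOf x = 2 := orderOf_eq_prime (by rw [pow_two, hxx]) hx1
      have h2 := orderOf_dvd_of_pow_eq_one (hexp x hxmem)
      rw [h1] at h2
      exact ((Nat.prime_dvd_prime_iff_eq Nat.prime_two hp).mp h2).symm
    subst hp2
    obtain ⟨-, hy3, -⟩ := cent y c hyy hac.symm hbc.symm yc hy1 hyM
    set C : Subgroup G := M ⊓ Subgroup.centralizer {y}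
    have hsq : ∀ t ∈ M, t⁻¹ = t := fun t ht =>
      inv_eq_of_mul_eq_one_right (by rw [← pow_two]; exact hexp t ht)
    let f : M →* C :=
      { toFun := fun t => ⟨(t : G) * (y * t * y), M.mul_mem t.2 (hyM t t.2),
          mem_centralizer_of_sq hyy (by
            rw [conj_mul_of_sq hyy, conj_conj_of_sq hyy, hcomm _ t.2 _ (hyM t t.2)])⟩
        map_one' := Subtype.ext (by simp [hyy])
        map_mul' := fun s t => Subtype.ext (by
          show (s : G) * t * (y * (s * t) * y) = s * (y * s * y) * (t * (y * t * y))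
          rw [conj_mul_of_sq hyy, mul_assoc (s : G), ← mul_assoc (t : G),
            hcomm _ t.2 _ (hyM s s.2)]
          simp only [mul_assoc]) }
    have hker : Nat.card f.ker ≤ Nat.card C := by
      refine Nat.card_le_card_of_injective (fun t => (⟨(t.1 : G), t.1.2,
        Subgroup.mem_centralizer_singleton_iff.mpr ?_⟩ : C)) fun s t e => ?_
      · have h1 : (t.1 : G) * (y * t.1 * y) = 1 := congrArg Subtype.val (MonoidHom.mem_ker.mp t.2)
        rw [← inv_eq_iff_mul_eq_one, hsq _ t.1.2] at h1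
        conv_lhs => rw [h1]
        simp only [mul_assoc, hyy, mul_one]
      · exact Subtype.ext (Subtype.ext (congrArg (fun z : C => (z : G)) e :))
    have hrange : Nat.card f.range ≤ Nat.card C := Subgroup.card_le_card_group _
    have hmul : Nat.card M = Nat.card f.ker * Nat.card f.range := by
      rw [← Subgroup.index_ker, Subgroup.card_mul_index]
    obtain ⟨i, hij, hi⟩ := hcard_dvd C inf_le_left
    have hi1 : i ≤ 1 := by
      by_contra hlt
      have : 2 ^ 2 ≤ 2 ^ i := Nat.pow_le_pow_right (by norm_num) (by omega)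
      omega
    have : 2 ^ i ≤ 2 ^ 1 := Nat.pow_le_pow_right (by norm_num) hi1
    rw [hM] at hmul
    have := hmul ▸ Nat.mul_le_mul (hker.trans_eq hi) (hrange.trans_eq hi)
    have := this.trans (Nat.mul_le_mul ‹2 ^ i ≤ 2 ^ 1› ‹2 ^ i ≤ 2 ^ 1›)
    omega

/-- The degree of a sharply 5-transitive group. -/
theorem degree_five [Finite G] (h : Sharp G α 5) (h5 : 5 ≤ Fintype.card α) :
    Fintype.card α = 5 ∨ Fintype.card α = 6 ∨ Fintype.card α = 7 ∨ Fintype.card α = 12 := by
  classical
  have h5' : 5 ≤ Nat.card α := by rwa [Nat.card_eq_fintype_card]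
  obtain ⟨a⟩ : Nonempty α := Fintype.card_pos_iff.mp (by omega)
  haveI : Fintype (SubMulAction.ofStabilizer G a) := Fintype.ofFinite _
  have hc : Fintype.card (SubMulAction.ofStabilizer G a) + 1 = Fintype.card α := by
    rw [← Nat.card_eq_fintype_card, SubMulAction.nat_card_ofStabilizer_eq,
      Nat.card_eq_fintype_card]
    omega
  have := degree_four (stabilizer_sharp h h5' a) (by omega)
  omega

theorem not_six_thirteen [Finite G] (h : Sharp G α 6) (hn : Fintype.card α = 13) : False := by
  classical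
  haveI : Fact (Nat.Prime 13) := ⟨by norm_num⟩
  have hn' : Nat.card α = 13 := by rw [Nat.card_eq_fintype_card, hn]
  have hG : Nat.card G = 13 * 95040 := by
    rw [card_eq h (by omega), hn']; decide
  haveI := faithful h (by omega)
  obtain ⟨P⟩ : Nonempty (Sylow 13 G) := inferInstance
  have hP : Nat.card P = 13 := by
    obtain ⟨k, hk⟩ := IsPGroup.iff_card.mp P.isPGroup'
    have hmul := (P : Subgroup G).card_mul_index
    have hnd := P.not_dvd_index
    rw [hG, hk] at hmul
    rcases Nat.lt_trichotomy k 1 with h0 | h0 | h0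
    · rw [Nat.lt_one_iff.mp h0, pow_zero, one_mul] at hmul
      rw [hmul] at hnd; norm_num at hnd
    · rw [hk, h0, pow_one]
    · have : 13 ^ 2 ∣ 13 * 95040 := (pow_dvd_pow 13 h0).trans ⟨_, hmul.symm⟩
      norm_num at this
  haveI : IsCyclic P := isCyclic_of_prime_card hP
  obtain ⟨⟨g, hgP⟩, hgen⟩ := IsCyclic.exists_generator (α := P)
  have hord : orderOf g = 13 := by
    have := orderOf_eq_card_of_forall_mem_zpowers hgen
    rwa [← Subgroup.orderOf_coe, hP] at this
  -- `g` has no fixed point and a single cycle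
  have hfix : ∀ q : α, g • q ≠ q := by
    intro q hq
    have h1 : ∀ r : α, g • r = r := by
      intro r
      by_contra hr
      set T := orbit (Subgroup.zpowers g) r
      have hTc : T.ncard = 13 := by
        have hd : T.ncard ∣ Nat.card (Subgroup.zpowers g) := by
          rw [← index_stabilizer]; exact Subgroup.index_dvd_card _
        rw [Nat.card_zpowers, hord] at hd
        rcases (Nat.dvd_prime (by norm_num : Nat.Prime 13)).mp hd with e | e
        · exfalso
          obtain ⟨w, hw⟩ := Set.ncard_eq_one.mp e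
          have m1 : r ∈ T := mem_orbit_self r
          have m2 : g • r ∈ T := ⟨⟨g, Subgroup.mem_zpowers g⟩, rfl⟩
          rw [hw, Set.mem_singleton_iff] at m1 m2
          exact hr (m2.trans m1.symm)
        · exact e
      have hT : T = Set.univ := Set.eq_of_subset_of_ncard_le (Set.subset_univ _)
        (by rw [hTc, Set.ncard_univ, hn'])
      have hqT : q ∈ T := hT ▸ Set.mem_univ q
      obtain ⟨⟨k, hk⟩, hkq⟩ := hqT
      have hk' : g * k = k * g := by
        obtain ⟨i, rfl⟩ := Subgroup.mem_zpowers_iff.mp hk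
        exact (Commute.self_zpow g i)
      have hkq' : k • r = q := hkq
      apply hr
      apply smul_left_cancel k
      rw [smul_smul, ← hk', mul_smul, hkq', hq]
    have : g = 1 := FaithfulSMul.eq_of_smul_eq_smul fun r => by rw [h1 r, one_smul]
    rw [this, orderOf_one] at hord
    omega
  obtain ⟨q₀⟩ : Nonempty α := Fintype.card_pos_iff.mp (by omega)
  -- the centraliser acts semiregularly
  have horbit : ∀ r : α, ∃ k ∈ Subgroup.zpowers g, k • q₀ = r := by
    intro r
    have hd : (orbit (Subgroup.zpowers g) q₀).ncard = 13 := by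
      have hd : (orbit (Subgroup.zpowers g) q₀).ncard ∣ Nat.card (Subgroup.zpowers g) := by
        rw [← index_stabilizer]; exact Subgroup.index_dvd_card _
      rw [Nat.card_zpowers, hord] at hd
      rcases (Nat.dvd_prime (by norm_num : Nat.Prime 13)).mp hd with e | e
      · exfalso
        obtain ⟨w, hw⟩ := Set.ncard_eq_one.mp e
        have m1 : q₀ ∈ orbit (Subgroup.zpowers g) q₀ := mem_orbit_self q₀
        have m2 : g • q₀ ∈ orbit (Subgroup.zpowers g) q₀ := ⟨⟨g, Subgroup.mem_zpowers g⟩, rfl⟩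
        rw [hw, Set.mem_singleton_iff] at m1 m2
        exact hfix q₀ (m2.trans m1.symm)
      · exact e
    have hu : r ∈ orbit (Subgroup.zpowers g) q₀ := by
      have e : orbit (Subgroup.zpowers g) q₀ = Set.univ :=
        Set.eq_of_subset_of_ncard_le (Set.subset_univ _) (by rw [hd, Set.ncard_univ, hn'])
      rw [e]; trivial
    obtain ⟨⟨k, hk⟩, hkr⟩ := hu
    exact ⟨k, hk, hkr⟩
  have hgz : Subgroup.zpowers g = (P : Subgroup G) :=
    Subgroup.eq_of_le_of_card_ge (Subgroup.zpowers_le.mpr hgP)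
      (by rw [Nat.card_zpowers, hord]; exact hP.le)
  have hcent : ∀ z ∈ Subgroup.centralizer ((P : Subgroup G) : Set G), z ∈ (P : Subgroup G) := by
    intro z hz
    obtain ⟨k, hk, hkq⟩ := horbit (z • q₀)
    rw [← hgz]
    have : z = k := FaithfulSMul.eq_of_smul_eq_smul fun r => by
      obtain ⟨i, hi, rfl⟩ := horbit r
      rw [smul_smul, ← Subgroup.mem_centralizer_iff.mp hz i (hgz ▸ hi), mul_smul, ← hkq,
        smul_smul]
      obtain ⟨m, rfl⟩ := Subgroup.mem_zpowers_iff.mp hi
      obtain ⟨l, rfl⟩ := Subgroup.mem_zpowers_iff.mp hk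
      rw [smul_smul, ← zpow_add, ← zpow_add, add_comm]
    rw [this]; exact hk
  -- the normaliser has order dividing `13 * 12`
  have hN : Nat.card (Subgroup.normalizer ((P : Subgroup G) : Set G)) ∣ 13 * 12 := by
    let χ := (Subgroup.normalizerMonoidHom (P : Subgroup G))
    rw [← χ.ker.card_mul_index, Subgroup.index_ker]
    refine mul_dvd_mul ?_ ?_
    · rw [Subgroup.normalizerMonoidHom_ker,
        Nat.card_congr (Subgroup.subgroupOfEquivOfLe (Subgroup.centralizer_le_normalizer _)).toEquiv]
      have hle : Subgroup.centralizer ((P : Subgroup G) : Set G) ≤ P := hcent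
      exact (Subgroup.card_dvd_of_le hle).trans (dvd_of_eq hP)
    · refine (Subgroup.card_subgroup_dvd_card _).trans ?_
      rw [IsCyclic.card_mulAut, hP]
      decide
  have hmod := card_sylow_modEq_one 13 G
  rw [Sylow.card_eq_index_normalizer P] at hmod
  have hmul := (Subgroup.normalizer ((P : Subgroup G) : Set G)).card_mul_index
  rw [hG] at hmul
  have hPd : 13 ∣ Nat.card (Subgroup.normalizer ((P : Subgroup G) : Set G)) :=
    (dvd_of_eq hP.symm).trans (Subgroup.card_dvd_of_le Subgroup.le_normalizer)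
  obtain ⟨r, hr⟩ := hPd
  rw [hr] at hN hmul
  have hr12 : r ∣ 12 := Nat.dvd_of_mul_dvd_mul_left (by norm_num) hN
  rw [mul_assoc, mul_right_inj' (by norm_num)] at hmul
  have : r ≤ 12 := Nat.le_of_dvd (by norm_num) hr12
  unfold Nat.ModEq at hmod
  generalize (Subgroup.normalizer ((P : Subgroup G) : Set G)).index = s at hmul hmod
  interval_cases r <;> omega

theorem degree_ge_six : ∀ (k : ℕ), 6 ≤ k → ∀ (G : Type u) [Group G] [Finite G] (α : Type v)
    [Fintype α] [MulAction G α], Sharp G α k → k ≤ Fintype.card α →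
    Fintype.card α = k ∨ Fintype.card α = k + 1 ∨ Fintype.card α = k + 2 := by
  intro k
  induction k with
  | zero => intro h; omega
  | succ k ih =>
    intro hk G _ _ α _ _ h hn
    classical
    have hn' : k + 1 ≤ Nat.card α := by rwa [Nat.card_eq_fintype_card]
    obtain ⟨a⟩ : Nonempty α := Fintype.card_pos_iff.mp (by omega)
    haveI : Fintype (SubMulAction.ofStabilizer G a) := Fintype.ofFinite _
    have hc : Fintype.card (SubMulAction.ofStabilizer G a) + 1 = Fintype.card α := by
      rw [← Nat.card_eq_fintype_card, SubMulAction.nat_card_ofStabilizer_eq,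
        Nat.card_eq_fintype_card]
      omega
    rcases Nat.lt_or_ge k 6 with hk6 | hk6
    · obtain rfl : k = 5 := by omega
      have := degree_five (stabilizer_sharp h hn' a) (by omega)
      have h13 : Fintype.card α ≠ 13 := fun e => not_six_thirteen h e
      omega
    · have := ih hk6 _ _ (stabilizer_sharp h hn' a) (by omega)
      omega

end Cfsg.Agent.Lib.SharpFour
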