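import Mathlib

/-!
Cocycles of a permutation action with values in a commutative group: blocks of size two and four,
and triviality of products over orbits.
-/

set_option autoImplicit false
set_option linter.style.haveILetI false

namespace Cfsg.Agent.Lib.TransferCocycle76

open Finset

variable {G : Type*} [Group G] {Ω : Type*} [MulAction G Ω] {A : Type*} [CommGroup A]

/-- the subgroup `N ∪ aN` for `a` normalising `N` with `a² ∈ N`. -/
def ext2 (N : Subgroup G) (a : G) (hn : ∀ n ∈ N, a * n * a⁻¹ ∈ N) (hn' : ∀ n ∈ N, a⁻¹ * n * a ∈ N)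
    (ha : a * a ∈ N) : Subgroup G where
  carrier := {x | x ∈ N ∨ a⁻¹ * x ∈ N}
  one_mem' := Or.inl N.one_mem
  mul_mem' := by
    rintro x y (hx | hx) (hy | hy)
    · exact Or.inl (N.mul_mem hx hy)
    · right
      have e : a⁻¹ * (x * y) = a⁻¹ * x * a * (a⁻¹ * y) := by group
      rw [e]; exact N.mul_mem (hn' x hx) hy
    · right
      rw [← mul_assoc]; exact N.mul_mem hx hy
    · left
      have e : x * y = a * (a⁻¹ * x) * a⁻¹ * (a * a) * (a⁻¹ * y) := by group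
      rw [e]; exact N.mul_mem (N.mul_mem (hn _ hx) ha) hy
  inv_mem' := by
    rintro x (hx | hx)
    · exact Or.inl (N.inv_mem hx)
    · right
      have h1 := hn' _ (N.inv_mem (N.mul_mem hx (N.one_mem)))
      have e : a⁻¹ * x⁻¹ = (a * a)⁻¹ * (a * (a⁻¹ * x)⁻¹ * a⁻¹) := by group
      show a⁻¹ * x⁻¹ ∈ N
      rw [e]
      exact N.mul_mem (N.inv_mem ha) (hn _ (N.inv_mem hx))

theorem mem_ext2 {N : Subgroup G} {a : G} {hn hn' ha} {x : G} :
    x ∈ ext2 N a hn hn' ha ↔ x ∈ N ∨ a⁻¹ * x ∈ N := Iff.rfl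

theorem le_ext2 {N : Subgroup G} {a : G} {hn hn' ha} : N ≤ ext2 N a hn hn' ha :=
  fun _ hx => Or.inl hx

theorem self_mem_ext2 {N : Subgroup G} {a : G} {hn hn' ha} : a ∈ ext2 N a hn hn' ha :=
  Or.inr (by rw [inv_mul_cancel]; exact N.one_mem)

theorem ext2_le {N M : Subgroup G} {a : G} {hn hn' ha} (h : N ≤ M) (ha' : a ∈ M) :
    ext2 N a hn hn' ha ≤ M := by
  rintro x (hx | hx)
  · exact h hx
  · have e : x = a * (a⁻¹ * x) := by group
    rw [e]; exact M.mul_mem ha' (h hx)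

theorem ext2_normalized {N : Subgroup G} {a : G} {hn hn' ha} {u : G}
    (hu : ∀ x ∈ N, u * x * u⁻¹ ∈ N) (hua : a⁻¹ * (u * a * u⁻¹) ∈ N) :
    ∀ x ∈ ext2 N a hn hn' ha, u * x * u⁻¹ ∈ ext2 N a hn hn' ha := by
  rintro x (hx | hx)
  · exact Or.inl (hu x hx)
  · right
    have e : a⁻¹ * (u * x * u⁻¹) = a⁻¹ * (u * a * u⁻¹) * (u * (a⁻¹ * x) * u⁻¹) := by group
    rw [e]; exact N.mul_mem hua (hu _ hx)

/-- cocycle identity. -/
def IsCoc (c : G → Ω → A) : Prop := ∀ s t ω, c (s * t) ω = c s (t • ω) * c t ω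

variable {c : G → Ω → A}

theorem IsCoc.one (hc : IsCoc c) (ω : Ω) : c 1 ω = 1 := by
  have h := hc 1 1 ω
  rw [mul_one, one_smul] at h
  exact mul_eq_left.mp h.symm

theorem IsCoc.inv_left (hc : IsCoc c) (a : G) (ω : Ω) : c a⁻¹ (a • ω) * c a ω = 1 := by
  rw [← hc, inv_mul_cancel, hc.one]

theorem IsCoc.shift (hc : IsCoc c) (a t : G) (ω : Ω) :
    c (a⁻¹ * t * a) ω = c a⁻¹ (t • a • ω) * c t (a • ω) * c a ω := by
  rw [hc, hc]

theorem IsCoc.pow (hc : IsCoc c) (K : ℕ) : IsCoc (fun g ω => (c g ω) ^ K) := fun s t ω => by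
  show c (s * t) ω ^ K = c s (t • ω) ^ K * c t ω ^ K
  rw [hc, mul_pow]

/-- `y` stabilises the pair `{ω, a • ω}`. -/
def SP (a : G) (ω : Ω) (y : G) : Prop :=
  (y • ω = ω ∧ y • a • ω = a • ω) ∨ (y • ω = a • ω ∧ y • a • ω = ω)

/-- product over the pair. -/
def hh (c : G → Ω → A) (a : G) (ω : Ω) (y : G) : A := c y ω * c y (a • ω)

theorem hh_mul (hc : IsCoc c) (a : G) (ω : Ω) {y t : G} (ht : SP a ω t) :
    hh c a ω (y * t) = hh c a ω y * hh c a ω t := by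
  unfold hh
  rw [hc, hc]
  rcases ht with ⟨h1, h2⟩ | ⟨h1, h2⟩
  · rw [h1, h2]; ac_rfl
  · rw [h1, h2]; ac_rfl

theorem hh_fix (hc : IsCoc c) {a t : G} {ω : Ω} (h1 : t • ω = ω) (h2 : t • a • ω = a • ω) :
    hh c a ω t = c t ω * c t ω * c (t⁻¹ * (a⁻¹ * t * a)) ω ∧ (t⁻¹ * (a⁻¹ * t * a)) • ω = ω := by
  have hk : (t⁻¹ * (a⁻¹ * t * a)) • ω = ω := by
    rw [mul_smul, mul_smul, mul_smul, h2, inv_smul_smul, inv_smul_eq_iff, h1]
  refine ⟨?_, hk⟩
  have e1 : c (a⁻¹ * t * a) ω = c t (a • ω) := by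
    rw [hc.shift, h2, mul_comm (c a⁻¹ _) (c t _), mul_assoc, hc.inv_left, mul_one]
  have e2 : c (a⁻¹ * t * a) ω = c t ω * c (t⁻¹ * (a⁻¹ * t * a)) ω := by
    conv_lhs => rw [show a⁻¹ * t * a = t * (t⁻¹ * (a⁻¹ * t * a)) by group]
    rw [hc, hk]
  unfold hh
  rw [← e1, e2]; ac_rfl

theorem hh_swap (hc : IsCoc c) {a y : G} {ω : Ω} (h1 : y • ω = a • ω) :
    hh c a ω y = c (y * y) ω := by
  unfold hh
  rw [hc, h1, mul_comm]

/-- the pair step: the product over the pair is killed by `K`. -/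
theorem hh_pow (hc : IsCoc c) {K : ℕ} (h2K : ∀ x : A, x ^ (2 * K) = 1) {a y : G} {ω : Ω}
    (hy : SP a ω y)
    (ha : a • a • ω = ω → (c (a * a) ω) ^ K = 1)
    (hk : ∀ t : G, (t = y ∨ t = a⁻¹ * y) → t • ω = ω → t • a • ω = a • ω →
      (c (t⁻¹ * (a⁻¹ * t * a)) ω) ^ K = 1)
    (haa : a • a • ω = ω) :
    (hh c a ω y) ^ K = 1 := by
  have hfix : ∀ t : G, (t = y ∨ t = a⁻¹ * y) → t • ω = ω → t • a • ω = a • ω →
      (hh c a ω t) ^ K = 1 := by
    intro t ht h1 h2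
    rw [(hh_fix hc h1 h2).1, mul_pow, mul_pow, hk t ht h1 h2, mul_one, ← pow_add, ← two_mul]
    exact h2K _
  rcases hy with ⟨h1, h2⟩ | ⟨h1, h2⟩
  · exact hfix y (Or.inl rfl) h1 h2
  · have t1 : (a⁻¹ * y) • ω = ω := by rw [mul_smul, h1, inv_smul_smul]
    have t2 : (a⁻¹ * y) • a • ω = a • ω := by
      rw [mul_smul, h2, inv_smul_eq_iff, haa]
    have e : y = a * (a⁻¹ * y) := by group
    rw [e, hh_mul hc a ω (Or.inl ⟨t1, t2⟩), mul_pow, hfix _ (Or.inr rfl) t1 t2, mul_one,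
      hh_swap hc rfl]
    exact ha haa

/-- product over the quad `{ω, aω, bω, baω}`. -/
def gg (c : G → Ω → A) (a b : G) (ω : Ω) (y : G) : A :=
  hh c a ω y * (c y (b • ω) * c y (b • a • ω))

theorem gg_mul (hc : IsCoc c) (a b : G) (ω : Ω) {y t : G} (ht : SP a ω t)
    (ht' : SP a ω (b⁻¹ * t * b)) : gg c a b ω (y * t) = gg c a b ω y * gg c a b ω t := by
  unfold gg
  rw [hh_mul hc a ω ht, hc, hc]
  have e : ∀ η : Ω, t • b • η = b • (b⁻¹ * t * b) • η := fun η => by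
    simp [← mul_smul, mul_assoc]
  rw [e ω, e (a • ω)]
  rcases ht' with ⟨h1, h2⟩ | ⟨h1, h2⟩
  · rw [h1, h2]; ac_rfl
  · rw [h1, h2]; ac_rfl

theorem gg_stab (hc : IsCoc c) (a b : G) (ω : Ω) {t : G} (ht' : SP a ω (b⁻¹ * t * b)) :
    gg c a b ω t = hh c a ω t * hh c a ω (b⁻¹ * t * b) := by
  unfold gg
  congr 1
  unfold hh
  rw [hc.shift, hc.shift]
  have e : ∀ η : Ω, t • b • η = b • (b⁻¹ * t * b) • η := fun η => by
    simp [← mul_smul, mul_assoc]
  rw [e ω, e (a • ω)]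
  have h1 := hc.inv_left b ω
  have h2 := hc.inv_left b (a • ω)
  rcases ht' with ⟨p1, p2⟩ | ⟨p1, p2⟩
  · rw [p1, p2]
    calc c t (b • ω) * c t (b • a • ω)
        = c t (b • ω) * c t (b • a • ω) * (c b⁻¹ (b • ω) * c b ω) *
            (c b⁻¹ (b • a • ω) * c b (a • ω)) := by rw [h1, h2, mul_one, mul_one]
      _ = _ := by ac_rfl
  · rw [p1, p2]
    calc c t (b • ω) * c t (b • a • ω)
        = c t (b • ω) * c t (b • a • ω) * (c b⁻¹ (b • ω) * c b ω) *
            (c b⁻¹ (b • a • ω) * c b (a • ω)) := by rw [h1, h2, mul_one, mul_one]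
      _ = _ := by ac_rfl

theorem gg_self (hc : IsCoc c) (a b : G) (ω : Ω) : gg c a b ω b = hh c a ω (b * b) := by
  unfold gg hh
  rw [hc, hc]
  ac_rfl

/-- the quad step. -/
theorem gg_pow (hc : IsCoc c) {K : ℕ} (h2K : ∀ x : A, x ^ (2 * K) = 1) {a b : G} {ω : Ω}
    {M : Subgroup G} (hM : ∀ m ∈ M, SP a ω m) (hMh : ∀ m ∈ M, (hh c a ω m) ^ K = 1)
    (hb : b * b ∈ M) {t : G} (ht : SP a ω t) (hk : t⁻¹ * (b⁻¹ * t * b) ∈ M) {y : G}
    (hy : y = t ∨ y = b * t) : (gg c a b ω y) ^ K = 1 := by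
  have hSP : SP a ω (b⁻¹ * t * b) := by
    have h1 := hM _ hk
    have e : ∀ η : Ω, (b⁻¹ * t * b) • η = t • (t⁻¹ * (b⁻¹ * t * b)) • η := fun η => by
      rw [← mul_smul]; group
    unfold SP
    rw [e ω, e (a • ω)]
    rcases h1 with ⟨p1, p2⟩ | ⟨p1, p2⟩ <;> rw [p1, p2]
    · exact ht
    · rcases ht with ⟨q1, q2⟩ | ⟨q1, q2⟩ <;> rw [q1, q2]
      · exact Or.inr ⟨rfl, rfl⟩
      · exact Or.inl ⟨rfl, rfl⟩
  have htp : (gg c a b ω t) ^ K = 1 := by
    rw [gg_stab hc a b ω hSP,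
      show b⁻¹ * t * b = t * (t⁻¹ * (b⁻¹ * t * b)) by group, hh_mul hc a ω (hM _ hk),
      mul_pow, mul_pow, hMh _ hk, mul_one, ← pow_add, ← two_mul]
    exact h2K _
  rcases hy with rfl | rfl
  · exact htp
  · rw [gg_mul hc a b ω ht hSP, mul_pow, htp, mul_one, gg_self hc]
    exact hMh _ hb

variable [Fintype Ω]

open Classical in
/-- the orbit of a subgroup, as a finset. -/
noncomputable def orb (L : Subgroup G) (η : Ω) : Finset Ω :=
  Finset.univ.filter fun ξ => ∃ l ∈ L, l • η = ξ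

theorem mem_orb {L : Subgroup G} {η ξ : Ω} : ξ ∈ orb L η ↔ ∃ l ∈ L, l • η = ξ := by
  simp [orb]

theorem self_mem_orb (L : Subgroup G) (η : Ω) : η ∈ orb L η :=
  mem_orb.mpr ⟨1, L.one_mem, one_smul _ _⟩

theorem orb_eq {L : Subgroup G} {η ξ : Ω} (h : ξ ∈ orb L η) : orb L ξ = orb L η := by
  obtain ⟨l, hl, rfl⟩ := mem_orb.mp h
  ext ζ
  rw [mem_orb, mem_orb]
  constructor
  · rintro ⟨m, hm, rfl⟩
    exact ⟨m * l, L.mul_mem hm hl, mul_smul _ _ _⟩
  · rintro ⟨m, hm, rfl⟩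
    exact ⟨m * l⁻¹, L.mul_mem hm (L.inv_mem hl), by rw [mul_smul, inv_smul_smul]⟩

open Classical in
theorem orb_smul {L : Subgroup G} {s : G} (h : ∀ l ∈ L, s * l * s⁻¹ ∈ L)
    (h' : ∀ l ∈ L, s⁻¹ * l * s ∈ L) (η : Ω) :
    orb L (s • η) = (orb L η).image (fun ξ => s • ξ) := by
  ext ζ
  rw [mem_orb, Finset.mem_image]
  constructor
  · rintro ⟨l, hl, rfl⟩
    refine ⟨(s⁻¹ * l * s) • η, mem_orb.mpr ⟨_, h' l hl, rfl⟩, ?_⟩
    simp [← mul_smul, mul_assoc]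
  · rintro ⟨ξ, hξ, rfl⟩
    obtain ⟨l, hl, rfl⟩ := mem_orb.mp hξ
    exact ⟨s * l * s⁻¹, h l hl, by simp [← mul_smul, mul_assoc]⟩

open Classical in
/-- If every stabiliser of a block `orb L ω` has trivial product over that block, the product over
the orbit of `ω` is trivial. -/
theorem orbit_prod {S L : Subgroup G} (hLS : L ≤ S)
    (hLn : ∀ u ∈ S, ∀ l ∈ L, u * l * u⁻¹ ∈ L) {d : G → Ω → A} (hd : IsCoc d) (ω : Ω)
    (hB : ∀ y ∈ S, y • ω ∈ orb L ω → ∏ η ∈ orb L ω, d y η = 1) {s : G} (hs : s ∈ S) :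
    ∏ η ∈ orb S ω, d s η = 1 := by
  have hLn' : ∀ u ∈ S, ∀ l ∈ L, u⁻¹ * l * u ∈ L := fun u hu l hl => by
    simpa using hLn u⁻¹ (S.inv_mem hu) l hl
  have hsm : ∀ u ∈ S, ∀ η : Ω, orb L (u • η) = (orb L η).image (fun ξ => u • ξ) := fun u hu η =>
    orb_smul (hLn u hu) (hLn' u hu) η
  set BB : Finset (Finset Ω) := (orb S ω).image (orb L) with hBB
  have hmaps : ∀ η ∈ orb S ω, orb L η ∈ BB := fun η hη => Finset.mem_image_of_mem _ hη
  rw [← Finset.prod_fiberwise_of_maps_to hmaps]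
  have hfib : ∀ B ∈ BB, (orb S ω).filter (fun η => orb L η = B) = B := by
    intro B hB'
    obtain ⟨η0, hη0, rfl⟩ := Finset.mem_image.mp hB'
    ext η
    rw [Finset.mem_filter]
    constructor
    · rintro ⟨-, h⟩; rw [← h]; exact self_mem_orb L η
    · intro h
      refine ⟨?_, orb_eq h⟩
      obtain ⟨l, hl, rfl⟩ := mem_orb.mp h
      obtain ⟨u, hu, rfl⟩ := mem_orb.mp hη0
      exact mem_orb.mpr ⟨l * u, S.mul_mem (hLS hl) hu, mul_smul _ _ _⟩
  have hex : ∀ B : Finset Ω, ∃ v : G, v ∈ S ∧ (B ∈ BB → B = orb L (v • ω)) := by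
    intro B
    by_cases hB' : B ∈ BB
    · obtain ⟨η0, hη0, rfl⟩ := Finset.mem_image.mp hB'
      obtain ⟨u, hu, rfl⟩ := mem_orb.mp hη0
      exact ⟨u, hu, fun _ => rfl⟩
    · exact ⟨1, S.one_mem, fun h => absurd h hB'⟩
  choose v hvS hvB using hex
  let e : Finset Ω → A := fun B => ∏ η ∈ orb L ω, d (v B) η
  let σ : Finset Ω → Finset Ω := fun B => B.image (fun ξ => s • ξ)
  have hσmem : ∀ B ∈ BB, σ B ∈ BB := by
    intro B hB'
    obtain ⟨η0, hη0, rfl⟩ := Finset.mem_image.mp hB'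
    refine Finset.mem_image.mpr ⟨s • η0, ?_, hsm s hs η0⟩
    obtain ⟨u, hu, rfl⟩ := mem_orb.mp hη0
    exact mem_orb.mpr ⟨s * u, S.mul_mem hs hu, mul_smul _ _ _⟩
  have hkey : ∀ B ∈ BB, (∏ η ∈ B, d s η) * e B = e (σ B) := by
    intro B hB'
    have hBv := hvB B hB'
    have hσv := hvB _ (hσmem B hB')
    have hBim : B = (orb L ω).image (fun ξ => v B • ξ) := by
      rw [← hsm _ (hvS B)]; exact hBv
    conv_lhs => arg 1; arg 1; rw [hBim]
    rw [Finset.prod_image fun x _ y _ h => MulAction.injective _ h, ← Finset.prod_mul_distrib]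
    set y := (v (σ B))⁻¹ * s * v B with hy
    have hyS : y ∈ S := S.mul_mem (S.mul_mem (S.inv_mem (hvS _)) hs) (hvS B)
    have hyorb : orb L (y • ω) = orb L ω := by
      have e1 : orb L (s • v B • ω) = orb L (v (σ B) • ω) := by
        rw [hsm s hs, ← hBv, ← hσv]
      have e2 := congrArg (fun F => F.image (fun ξ => (v (σ B))⁻¹ • ξ)) e1
      rw [← hsm _ (S.inv_mem (hvS _)), ← hsm _ (S.inv_mem (hvS _)), inv_smul_smul] at e2
      rw [hy, mul_smul, mul_smul]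
      exact e2
    have h1 : ∏ η ∈ orb L ω, d (v (σ B) * y) η = e (σ B) := by
      simp only [hd (v (σ B)) y]
      rw [Finset.prod_mul_distrib, hB y hyS (by rw [← hyorb]; exact self_mem_orb L _), mul_one]
      show _ = ∏ η ∈ orb L ω, d (v (σ B)) η
      rw [← Finset.prod_image (f := fun ξ => d (v (σ B)) ξ) (g := fun η : Ω => y • η)
        (fun x _ z _ (h : y • x = y • z) => MulAction.injective _ h), ← hsm y hyS, hyorb]
    rw [← h1]
    refine Finset.prod_congr rfl fun η _ => ?_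
    rw [← hd, hy]
    congr 1
    group
  have hperm : ∏ B ∈ BB, e (σ B) = ∏ B ∈ BB, e B := by
    have hinj : Set.InjOn σ (BB : Set (Finset Ω)) := fun x _ y _ h =>
      Finset.image_injective (MulAction.injective s) h
    have him : BB.image σ = BB := Finset.eq_of_subset_of_card_le
      (Finset.image_subset_iff.mpr hσmem) (by rw [Finset.card_image_of_injOn hinj])
    rw [← Finset.prod_image hinj, him]
  rw [Finset.prod_congr rfl fun B hB' => by rw [hfib B hB']]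
  have h := Finset.prod_congr (s₁ := BB) rfl hkey
  rw [Finset.prod_mul_distrib, hperm] at h
  exact mul_eq_right.mp h

open Classical in
theorem sum_orbits {S : Subgroup G} {d : G → Ω → A} (base : Ω) (s : G)
    (hbase : ∀ u ∈ S, u • base = base) (h : ∀ ω, ω ≠ base → ∏ η ∈ orb S ω, d s η = 1) :
    ∏ η, d s η = d s base := by
  rw [← Finset.prod_fiberwise_of_maps_to (t := Finset.univ.image (orb S))
    (fun η _ => Finset.mem_image_of_mem _ (Finset.mem_univ η))]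
  have hb : orb S base = {base} := by
    ext η
    rw [mem_orb, Finset.mem_singleton]
    exact ⟨fun ⟨l, hl, e⟩ => by rw [← e, hbase l hl], fun e => ⟨1, S.one_mem, by rw [e, one_smul]⟩⟩
  have hfib : ∀ ω : Ω, (Finset.univ.filter fun η => orb S η = orb S ω) = orb S ω := by
    intro ω
    ext η
    rw [Finset.mem_filter]
    exact ⟨fun h => h.2 ▸ self_mem_orb S η, fun h => ⟨Finset.mem_univ _, orb_eq h⟩⟩
  rw [Finset.prod_eq_single (orb S base)]
  · rw [hfib base, hb, Finset.prod_singleton]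
  · intro B hB hne
    obtain ⟨ω, -, rfl⟩ := Finset.mem_image.mp hB
    rw [hfib ω]
    exact h ω fun e => hne (by rw [e])
  · intro hn
    exact absurd (Finset.mem_image_of_mem _ (Finset.mem_univ base)) hn

end Cfsg.Agent.Lib.TransferCocycle76
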