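import Cfsg.Agent.Lib.Cores.Basic

/-!
A transvection in a solvable linear group without normal 2-subgroups is not a square.
-/

set_option autoImplicit false
set_option linter.style.haveILetI false

namespace Cfsg.Agent.Lib.TransvectionSquare76

variable {V : Type*} [AddCommGroup V] [Module (ZMod 2) V]

theorem two_add (v : V) : v + v = 0 := by
  rw [← two_smul (ZMod 2) v, show (2 : ZMod 2) = 0 from rfl, zero_smul]

/-- `T` moves every vector by `0` or by `a`, and moves some vector. -/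
def IsTv (T : V ≃ₗ[ZMod 2] V) (a : V) : Prop :=
  (∀ v, T v = v ∨ T v = v + a) ∧ T a = a ∧ a ≠ 0

theorem IsTv.conj {T : V ≃ₗ[ZMod 2] V} {a : V} (h : IsTv T a) (g : V ≃ₗ[ZMod 2] V) :
    IsTv (g * T * g⁻¹) (g a) := by
  have hg : ∀ w, g (g⁻¹ w) = w := fun w => by
    rw [← LinearEquiv.mul_apply, mul_inv_cancel]; rfl
  have hg' : g⁻¹ (g a) = a := by rw [← LinearEquiv.mul_apply, inv_mul_cancel]; rfl
  refine ⟨fun v => ?_, ?_, fun h0 => h.2.2 (g.map_eq_zero_iff.1 h0)⟩
  · rw [LinearEquiv.mul_apply, LinearEquiv.mul_apply]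
    rcases h.1 (g⁻¹ v) with e | e
    · exact Or.inl (by rw [e, hg])
    · exact Or.inr (by rw [e, map_add, hg])
  · rw [LinearEquiv.mul_apply, LinearEquiv.mul_apply, hg', h.2.1]

/-- A product of two transvections, one fixing the other's vector, has order dividing 4. -/
theorem pow_four_eq_one {T U : V ≃ₗ[ZMod 2] V} {a b : V} (hT : IsTv T a) (hU : IsTv U b)
    (hTb : T b = b) : (T * U) ^ 4 = 1 := by
  -- `q v - v` lies in `⟨a, b⟩`, and `q` moves that space into `⟨b⟩`, which it fixes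
  have hq : ∀ v, (T * U) v = v ∨ (T * U) v = v + a ∨ (T * U) v = v + b ∨ (T * U) v = v + a + b := by
    intro v
    rw [LinearEquiv.mul_apply]
    rcases hU.1 v with e | e <;> rw [e]
    · rcases hT.1 v with e' | e'
      · exact Or.inl e'
      · exact Or.inr (Or.inl e')
    · rw [map_add, hTb]
      rcases hT.1 v with e' | e' <;> rw [e']
      · exact Or.inr (Or.inr (Or.inl rfl))
      · exact Or.inr (Or.inr (Or.inr rfl))
  have hb : (T * U) b = b := by rw [LinearEquiv.mul_apply, hU.2.1, hTb]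
  have ha : (T * U) a = a ∨ (T * U) a = a + b := by
    rw [LinearEquiv.mul_apply]
    rcases hU.1 a with e | e <;> rw [e]
    · exact Or.inl hT.2.1
    · rw [map_add, hT.2.1, hTb]; exact Or.inr rfl
  have h2 : ∀ v, (T * U) ((T * U) v) = v ∨ (T * U) ((T * U) v) = v + b := by
    intro v
    rcases hq v with e | e | e | e
    · left; rw [e, e]
    · rw [e, map_add, e]
      rcases ha with h | h <;> rw [h]
      · left; rw [add_assoc, two_add, add_zero]
      · right; rw [← add_assoc, add_assoc v, two_add, add_zero]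
    · left; rw [e, map_add, e, hb, add_assoc, two_add, add_zero]
    · rw [e, map_add, map_add, e, hb]
      rcases ha with h | h <;> rw [h]
      · left
        calc v + a + b + a + b = v + (a + a) + (b + b) := by abel
          _ = v := by rw [two_add, two_add, add_zero, add_zero]
      · right
        calc v + a + b + (a + b) + b = v + (a + a) + (b + b) + b := by abel
          _ = v + b := by rw [two_add, two_add, add_zero, add_zero]
  apply LinearEquiv.ext
  intro v
  simp only [pow_succ, pow_zero, one_mul, LinearEquiv.mul_apply]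
  show (T * U) ((T * U) ((T * U) ((T * U) v))) = v
  rcases h2 v with e | e <;> rw [e]
  · exact e
  · rw [map_add, map_add, hb, hb, e, add_assoc, two_add, add_zero]

variable (F : Subgroup (V ≃ₗ[ZMod 2] V))

/-- An odd product of two transvections: each moves the other's vector, unless trivial. -/
theorem moves {T U : V ≃ₗ[ZMod 2] V} {a b : V} (hT : IsTv T a) (hU : IsTv U b)
    (hodd : ∀ x ∈ F, x ^ 4 = 1 → x = 1) (hmem : T * U ∈ F) (hne : T * U ≠ 1) :
    T b = b + a :=
  (hT.1 b).resolve_left fun h => hne (hodd _ hmem (pow_four_eq_one hT hU h))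

/-- At most one inverse pair of elements of `F` of the form `T * t`. -/
theorem eq_or_eq_inv {t T U : V ≃ₗ[ZMod 2] V} {a b c : V} (ht : IsTv t a) (ht2 : t * t = 1)
    (hT : IsTv T b) (hT2 : T * T = 1) (hU : IsTv U c) (hU2 : U * U = 1)
    (hodd : ∀ x ∈ F, x ^ 4 = 1 → x = 1) (hx : T * t ∈ F) (hz : U * t ∈ F)
    (hx1 : T * t ≠ 1) (hz1 : U * t ≠ 1) : U * t = T * t ∨ U * t = (T * t)⁻¹ := by
  have htinv : t⁻¹ = t := inv_eq_of_mul_eq_one_right ht2
  have hTinv : T⁻¹ = T := inv_eq_of_mul_eq_one_right hT2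
  have hUinv : U⁻¹ = U := inv_eq_of_mul_eq_one_right hU2
  by_cases hTU : T * U = 1
  · left
    rw [show U = T by rw [← hTinv]; exact (inv_eq_of_mul_eq_one_right hTU).symm]
  right
  have hTUF : T * U ∈ F := by
    have := mul_mem hx (inv_mem hz)
    rwa [mul_inv_rev, htinv, hUinv, mul_assoc, ← mul_assoc t t, ht2, one_mul] at this
  have e1 : T a = a + b := moves F hT ht hodd hx hx1
  have e2 : T c = c + b := moves F hT hU hodd hTUF hTU
  -- `t * U * t` has vector `t c = c + a`, fixed by `T`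
  have htU : t * U ∈ F := by
    have := inv_mem hz
    rwa [mul_inv_rev, htinv, hUinv] at this
  have htU1 : t * U ≠ 1 := fun h => hz1 (by
    rw [show U = t by rw [← htinv]; exact (inv_eq_of_mul_eq_one_right h).symm, ht2])
  have e3 : t c = c + a := moves F ht hU hodd htU htU1
  have hW : IsTv (t * U * t⁻¹) (t c) := hU.conj t
  have hTW : T (t c) = t c := by
    rw [e3, map_add, e1, e2]
    calc c + b + (a + b) = c + a + (b + b) := by abel
      _ = c + a := by rw [two_add, add_zero]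
  have hmem : T * (t * U * t⁻¹) ∈ F := by
    have := mul_mem hx hz
    rwa [htinv, ← mul_assoc, ← mul_assoc] at *
  have h1 := hodd _ hmem (pow_four_eq_one hT hW hTW)
  rw [htinv] at h1
  have h2 : (T * t) * (U * t) = 1 := by simpa [mul_assoc] using h1
  exact (inv_eq_of_mul_eq_one_right h2).symm

/-- The main statement. -/
theorem not_square {S : Subgroup (V ≃ₗ[ZMod 2] V)} [Finite V] (hS : Group.IsSolvable S)
    (hO2 : Cfsg.pCore 2 S = ⊥) {P : V ≃ₗ[ZMod 2] V} (hPS : P ∈ S) {a : V}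
    (ht : IsTv (P * P) a) (hmov : ∃ v, (P * P) v ≠ v) (hP4 : P * P * (P * P) = 1) : False := by
  haveI := hS
  haveI : Fact (Nat.Prime 2) := ⟨Nat.prime_two⟩
  haveI : Finite (V ≃ₗ[ZMod 2] V) := Finite.of_injective _ DFunLike.coe_injective
  set t := P * P with ht_def
  clear_value t
  set F₀ := Cfsg.fittingSubgroup S with hF₀
  haveI := Cores.fittingSubgroup_normal (G := S)
  have hFodd : Odd (Nat.card F₀) := by
    have hle : F₀ ≤ Cfsg.pPrimeCore 2 S := by
      rw [hF₀, Cores.fittingSubgroup_eq_iSup_pCore]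
      refine iSup_le fun q => ?_
      by_cases hq : (q : ℕ) = 2
      · rw [hq, hO2]; exact bot_le
      · refine Cores.le_pPrimeCore ?_
        have : Fact (q : ℕ).Prime := ⟨q.2⟩
        obtain ⟨k, hk⟩ := IsPGroup.iff_card.mp (Cores.pCore_isPGroup (G := S) (q : ℕ))
        rw [hk]
        exact ((Nat.coprime_primes q.2 Nat.prime_two).mpr hq).pow_left k
    refine Odd.of_dvd_nat ?_ (Subgroup.card_dvd_of_le hle)
    exact Nat.coprime_two_right.1 (Cores.pPrimeCore_coprime 2)
  set F := F₀.map S.subtype with hF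
  have hodd : ∀ x ∈ F, x ^ 4 = 1 → x = 1 := by
    intro x hx h4
    have h1 : orderOf x ∣ 2 ^ 2 := orderOf_dvd_of_pow_eq_one (by simpa using h4)
    have h2 : orderOf x ∣ Nat.card F₀ := by
      rw [show Nat.card F₀ = Nat.card F from
        Nat.card_congr (F₀.equivMapOfInjective _ S.subtype_injective).toEquiv]
      have := orderOf_dvd_natCard (⟨x, hx⟩ : F)
      rwa [← orderOf_submonoid] at this
    rw [← orderOf_eq_one_iff]
    exact Nat.eq_one_of_dvd_coprimes ((Nat.coprime_two_left.2 hFodd).pow_left 2) h1 h2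
  have htS : t ∈ S := ht_def ▸ mul_mem hPS hPS
  have hnorm : ∀ g ∈ S, ∀ x ∈ F, g * x * g⁻¹ ∈ F := by
    rintro g hg _ ⟨x, hx, rfl⟩
    exact ⟨⟨g, hg⟩ * x * ⟨g, hg⟩⁻¹, Subgroup.Normal.conj_mem inferInstance x hx _, rfl⟩
  have ht1 : t ≠ 1 := fun h => by
    obtain ⟨v, hv⟩ := hmov
    exact hv (by rw [h]; rfl)
  obtain ⟨y, hyF, hy⟩ : ∃ y ∈ F, t * y ≠ y * t := by
    by_contra hcon
    simp only [not_exists, not_and, not_not] at hcon
    have hc : (⟨t, htS⟩ : S) ∈ Subgroup.centralizer (F₀ : Set S) :=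
      Subgroup.mem_centralizer_iff.2 fun w hw => Subtype.ext (hcon _ ⟨w, hw, rfl⟩).symm
    exact ht1 (hodd t ⟨_, Cores.centralizer_fittingSubgroup_le hc, rfl⟩
      (by rw [show 4 = 2 + 2 from rfl, pow_add, pow_two, hP4, one_mul]))
  have htinv : t⁻¹ = t := inv_eq_of_mul_eq_one_right hP4
  have hyS : y ∈ S := Subgroup.map_subtype_le F₀ hyF
  -- conjugates
  have key : ∀ g ∈ F, IsTv (g⁻¹ * t * g) (g⁻¹ a) ∧ (g⁻¹ * t * g) * (g⁻¹ * t * g) = 1 ∧
      g⁻¹ * t * g * t ∈ F := by
    intro g hg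
    refine ⟨by simpa using ht.conj g⁻¹, ?_, ?_⟩
    · calc g⁻¹ * t * g * (g⁻¹ * t * g) = g⁻¹ * (t * t) * g := by group
        _ = 1 := by rw [hP4]; group
    · have := mul_mem (inv_mem hg) (hnorm t htS g hg)
      rwa [htinv, ← mul_assoc, ← mul_assoc] at this
  obtain ⟨hT, hT2, hx⟩ := key y hyF
  set x := y⁻¹ * t * y * t with hxdef
  clear_value x
  have hx1 : x ≠ 1 := fun h => hy (by
    have h' : y⁻¹ * t * y = t := by
      rw [hxdef] at h; exact (eq_inv_of_mul_eq_one_left h).trans htinv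
    rw [mul_assoc, inv_mul_eq_iff_eq_mul] at h'; exact h')
  set g := P * y * P⁻¹
  obtain ⟨hU, hU2, hz⟩ := key g (hnorm P hPS y hyF)
  have hPt : P * t = t * P := by rw [ht_def, mul_assoc]
  have hPti : P⁻¹ * t = t * P⁻¹ := by
    rw [inv_mul_eq_iff_eq_mul, ← mul_assoc, hPt, mul_assoc, mul_inv_cancel, mul_one]
  have hzx : g⁻¹ * t * g * t = P * x * P⁻¹ := by
    rw [hxdef]
    calc (P * y * P⁻¹)⁻¹ * t * (P * y * P⁻¹) * t
        = P * y⁻¹ * (P⁻¹ * t) * P * y * (P⁻¹ * t) := by group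
      _ = P * y⁻¹ * (t * P⁻¹) * P * y * (t * P⁻¹) := by rw [hPti]
      _ = P * (y⁻¹ * t * y * t) * P⁻¹ := by group
  have htx : t * x * t = x⁻¹ := by
    rw [hxdef, mul_inv_rev, mul_inv_rev, mul_inv_rev, htinv, inv_inv]
    calc t * (y⁻¹ * t * y * t) * t = t * (y⁻¹ * t * y) * (t * t) := by group
      _ = t * (y⁻¹ * (t * y)) := by rw [hP4, mul_one, mul_assoc y⁻¹]
  have hxx : x⁻¹ ≠ x := fun h => hx1 (hodd x hx (by
    rw [show 4 = 2 + 2 from rfl, pow_add, pow_two, inv_eq_iff_mul_eq_one.1 h, one_mul]))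
  have hcase := eq_or_eq_inv F ht hP4 hT hT2 hU hU2 hodd (hxdef ▸ hx) hz (hxdef ▸ hx1) (by
    rw [hzx]; exact fun h => hx1 (conj_eq_one_iff.1 h))
  rw [hzx, ← hxdef] at hcase
  refine hxx (htx.symm.trans ?_)
  rcases hcase with h | h
  · have h2 : t * x * t⁻¹ = x := by
      calc t * x * t⁻¹ = P * (P * x * P⁻¹) * P⁻¹ := by rw [ht_def]; group
        _ = x := by rw [h, h]
    rwa [htinv] at h2
  · have h2 : t * x * t⁻¹ = x := by
      calc t * x * t⁻¹ = P * (P * x * P⁻¹) * P⁻¹ := by rw [ht_def]; group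
        _ = P * x⁻¹ * P⁻¹ := by rw [h]
        _ = (P * x * P⁻¹)⁻¹ := by group
        _ = x := by rw [h, inv_inv]
    rwa [htinv] at h2

end Cfsg.Agent.Lib.TransvectionSquare76
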