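import Mathlib
import Cfsg.Prelude.Def_Classical
import Cfsg.Prelude.Def_LieClassical
import Cfsg.Agent.Lib.FieldRed.Quad
import Cfsg.Agent.Lib.Unitary.Basic
import Cfsg.Agent.Lib.Symplectic.Std

/-!
Restriction of scalars from `GU m K q` to symplectic and orthogonal groups over the fixed field.
-/

set_option autoImplicit false
set_option linter.unusedSectionVars false

namespace Cfsg.Agent.Lib.UnitaryRed52

open Matrix Module Cfsg.Agent.Lib.Unitary

variable {K F : Type*} [Field K] [Fintype K] [Field F] [Fintype F] [Algebra F K] {q : ℕ}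

theorem algebraMap_pow (hF : Fintype.card F = q) (a : F) :
    (algebraMap F K a) ^ q = algebraMap F K a := by
  rw [← map_pow, ← hF, FiniteField.pow_card]

theorem exists_of_fixed (hK : Fintype.card K = q ^ 2) (hF : Fintype.card F = q) {x : K}
    (hx : x ^ q = x) : ∃ a : F, algebraMap F K a = x := by
  let g : F → {x : K // x ^ q = x} := fun a => ⟨algebraMap F K a, algebraMap_pow hF a⟩
  have hb : Function.Bijective g :=
    (Nat.bijective_iff_injective_and_card g).2
      ⟨fun a b h => (algebraMap F K).injective (congrArg Subtype.val h),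
        by rw [card_fixed hK, Nat.card_eq_fintype_card, hF]⟩
  obtain ⟨a, ha⟩ := hb.2 ⟨x, hx⟩
  exact ⟨a, congrArg Subtype.val ha⟩

/-- The trace `x + x ^ q`, with values in the fixed field. -/
noncomputable def trF (hK : Fintype.card K = q ^ 2) (hF : Fintype.card F = q) : K →ₗ[F] F where
  toFun x := (exists_of_fixed hK hF (x := x + x ^ q)
    (by rw [add_pow_q hK, pow_q_q hK, add_comm])).choose
  map_add' x y := (algebraMap F K).injective <| by
    have h : ∀ z : K, algebraMap F K (exists_of_fixed hK hF (x := z + z ^ q)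
        (by rw [add_pow_q hK, pow_q_q hK, add_comm])).choose = z + z ^ q :=
      fun z => (exists_of_fixed hK hF (x := z + z ^ q)
        (by rw [add_pow_q hK, pow_q_q hK, add_comm])).choose_spec
    rw [map_add, h, h, h, add_pow_q hK]; ring
  map_smul' a x := (algebraMap F K).injective <| by
    have h : ∀ z : K, algebraMap F K (exists_of_fixed hK hF (x := z + z ^ q)
        (by rw [add_pow_q hK, pow_q_q hK, add_comm])).choose = z + z ^ q :=
      fun z => (exists_of_fixed hK hF (x := z + z ^ q)
        (by rw [add_pow_q hK, pow_q_q hK, add_comm])).choose_spec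
    rw [RingHom.id_apply, smul_eq_mul, map_mul, h, h, Algebra.smul_def, mul_pow, algebraMap_pow hF]
    ring

theorem trF_spec (hK : Fintype.card K = q ^ 2) (hF : Fintype.card F = q) (x : K) :
    algebraMap F K (trF hK hF x) = x + x ^ q :=
  (exists_of_fixed hK hF (x := x + x ^ q) (by rw [add_pow_q hK, pow_q_q hK, add_comm])).choose_spec

/-- A unitary matrix as a linear automorphism over the fixed field. -/
noncomputable def guLin (m : ℕ) : ↥(Cfsg.GU m K q) →* ((Fin m → K) ≃ₗ[F] (Fin m → K)) where
  toFun A :=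
    LinearEquiv.ofLinearMap ((Matrix.mulVecLin A.1.1).restrictScalars F)
      ((Matrix.mulVecLin A⁻¹.1.1).restrictScalars F)
      (LinearMap.ext fun v => by simp [Matrix.mulVec_mulVec])
      (LinearMap.ext fun v => by simp [Matrix.mulVec_mulVec])
  map_one' := LinearEquiv.ext fun v => by simp
  map_mul' A B := LinearEquiv.ext fun v => by simp [Matrix.mulVec_mulVec]

@[simp] theorem guLin_apply {m : ℕ} (A : ↥(Cfsg.GU m K q)) (v : Fin m → K) :
    guLin (F := F) m A v = A.1.1 *ᵥ v := rfl

theorem guLin_injective (m : ℕ) :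
    Function.Injective (guLin (F := F) m : ↥(Cfsg.GU m K q) → _) := fun A B h =>
  GU_ext fun v => by simpa using LinearEquiv.congr_fun h v

/-- Transport of the unitary group along a linear equivalence carrying the hermitian square to a
quadratic function. -/
theorem exists_isometry_hom {m : ℕ} {ι : Type} [Fintype ι] [DecidableEq ι] (Q : (ι → F) → F)
    (L : (Fin m → K) ≃ₗ[F] (ι → F))
    (hL : ∀ v, algebraMap F K (Q (L v)) = Cfsg.hermForm m K q v v) :
    ∃ φ : ↥(Cfsg.GU m K q) →* ↥(Cfsg.isometryGroup F Q), Function.Injective φ := by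
  let e : ((Fin m → K) ≃ₗ[F] (Fin m → K)) →* Matrix.GeneralLinearGroup ι F :=
    (Units.map ((LinearMap.toMatrixAlgEquiv' (R := F) (n := ι)).toRingEquiv.toMonoidHom)).comp
      (((LinearMap.GeneralLinearGroup.generalLinearEquiv F (ι → F)).symm.toMonoidHom).comp
        { toFun := fun g => L.symm.trans (g.trans L)
          map_one' := LinearEquiv.ext fun v => by simp
          map_mul' := fun g h => LinearEquiv.ext fun v => by simp })
  have he : ∀ g v, (e g : Matrix ι ι F) *ᵥ v = L (g (L.symm v)) := by
    intro g v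
    simp [e, LinearMap.toMatrixAlgEquiv']
    rfl
  have hmem : ∀ A : ↥(Cfsg.GU m K q), e (guLin m A) ∈ Cfsg.isometryGroup F Q := by
    intro A
    rw [FieldRed.isometry_mem_iff]
    intro v
    apply (algebraMap F K).injective
    rw [he, hL, guLin_apply, GU_herm, ← hL, LinearEquiv.apply_symm_apply]
  refine ⟨(e.comp (guLin m)).codRestrict _ hmem, fun A B h => guLin_injective (F := F) m ?_⟩
  refine LinearEquiv.ext fun v => L.injective ?_
  have h2 := congrArg (fun x : ↥(Cfsg.isometryGroup F Q) => (x.1 : Matrix ι ι F) *ᵥ L v) h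
  change (e (guLin m A) : Matrix ι ι F) *ᵥ L v = (e (guLin m B) : Matrix ι ι F) *ᵥ L v at h2
  rwa [he, he, LinearEquiv.symm_apply_apply] at h2

/-- `GU_m(q)` embeds in `Sp_2m(q)`. -/
theorem exists_symplectic_hom (hK : Fintype.card K = q ^ 2) (hF : Fintype.card F = q) (m : ℕ) :
    ∃ φ : ↥(Cfsg.GU m K q) →* ↥(Matrix.symplecticGroup (Fin m) F), Function.Injective φ := by
  obtain ⟨c, hc0, hc⟩ := exists_trace_zero_ne_zero hK
  let B : (Fin m → K) →ₗ[F] (Fin m → K) →ₗ[F] F :=
    LinearMap.mk₂ F (fun u v => trF hK hF (c * Cfsg.hermForm m K q u v))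
      (fun u u' v => by rw [herm_add_left, mul_add, map_add])
      (fun a u v => by
        rw [← map_smul]
        congr 1
        rw [← algebraMap_smul K a u, herm_smul_left, Algebra.smul_def]
        ring)
      (fun u v v' => by rw [herm_add_right _ _ _ hK, mul_add, map_add])
      (fun a u v => by
        rw [← map_smul]
        congr 1
        rw [← algebraMap_smul K a v, herm_smul_right, algebraMap_pow hF, Algebra.smul_def]
        ring)
  have hB : Symplectic.IsSympForm B := by
    refine ⟨fun u => ?_, fun u hu => ?_⟩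
    · refine (algebraMap F K).injective ?_
      rw [map_zero, LinearMap.mk₂_apply, trF_spec, mul_pow, herm_self_fixed _ hK, ← add_mul, hc,
        zero_mul]
    · refine herm_nondeg_left hK fun v => ?_
      have key : c * Cfsg.hermForm m K q u v = 0 := by
        refine eq_zero_of_trace_mul_eq_zero hK fun d => ?_
        have h := congrArg (algebraMap F K) (hu ((d ^ q) • v))
        rw [map_zero, LinearMap.mk₂_apply, trF_spec, herm_smul_right, pow_q_q hK] at h
        rw [mul_left_comm d c]
        exact h
      exact (mul_eq_zero.1 key).resolve_left hc0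
  have hr : finrank F (Fin m → K) = 2 * m := by
    rw [Module.finrank_pi_fintype]
    simp only [FieldRed.finrank_eq (F := F) (K := K) (d := 2) (by rw [hK, hF]), Finset.sum_const,
      Finset.card_univ, Fintype.card_fin, smul_eq_mul, mul_comm]
  obtain ⟨e⟩ := Symplectic.nonempty_isom_mulEquiv_sp hB hr
  have hmem : ∀ A : ↥(Cfsg.GU m K q), guLin (F := F) m A ∈ Symplectic.Isom B := fun A u v => by
    simp only [B, LinearMap.mk₂_apply, guLin_apply, GU_herm]
  refine ⟨e.toMonoidHom.comp ((guLin m).codRestrict (Symplectic.Isom B) hmem), fun A A' h => ?_⟩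
  exact guLin_injective (F := F) m (congrArg Subtype.val (e.injective h))

/-- A linear map putting a sum of hyperbolic planes into standard coordinates. -/
theorem exists_plus_coords (hK : Fintype.card K = q ^ 2) (hF : Fintype.card F = q) (k : ℕ) :
    ∃ L : (Fin (k + k) → K) ≃ₗ[F] (Fin (k + k) ⊕ Fin (k + k) → F),
      ∀ v, algebraMap F K (Cfsg.quadFormPlus (k + k) F (L v)) = Cfsg.hermForm (k + k) K q v v := by
  obtain ⟨c, hc⟩ := trace_surj hK (one_pow q : (1 : K) ^ q = 1)
  have hd : finrank F K = 2 := FieldRed.finrank_eq (by rw [hK, hF])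
  let b : Module.Basis (Fin 2) F K := Module.finBasisOfFinrankEq F K hd
  let ι : Fin k × Fin 2 ≃ Fin (k + k) := finProdFinEquiv.trans (finCongr (by omega))
  let P : Fin k → (Fin (k + k) → K) →ₗ[F] K := fun i => LinearMap.proj (Fin.castAdd k i)
  let S : Fin k → (Fin (k + k) → K) →ₗ[F] K := fun i => LinearMap.proj (Fin.natAdd k i)
  let W : Fin k → (Fin (k + k) → K) →ₗ[F] K := fun i => P i - S i
  let U : Fin k → (Fin (k + k) → K) →ₗ[F] K := fun i => P i - (LinearMap.mulLeft F c).comp (W i)
  obtain ⟨e, he⟩ : ∃ e : K, e * e ^ q = -1 :=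
    norm_surj hK (by rw [neg_pow_q hK, one_pow])
  have he0 : e ≠ 0 := by rintro rfl; simp at he
  -- the substitution which turns the second half into minus norms
  let D : (Fin (k + k) → K) →ₗ[F] (Fin (k + k) → K) :=
    LinearMap.pi (Fin.addCases (fun i => P i) (fun i => (LinearMap.mulLeft F e).comp (S i)))
  let L0 : (Fin (k + k) → K) →ₗ[F] (Fin (k + k) ⊕ Fin (k + k) → F) :=
    LinearMap.pi (Sum.elim (fun x => (b.coord (ι.symm x).2).comp ((U (ι.symm x).1).comp D))
      (fun x => ((trF hK hF).comp (LinearMap.mulLeft F (b (ι.symm x).2))).comp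
        (({ toFun := fun z => z ^ q
            map_add' := add_pow_q hK
            map_smul' := fun a z => by
              simp [Algebra.smul_def, mul_pow, algebraMap_pow hF] } : K →ₗ[F] K).comp
          ((W (ι.symm x).1).comp D))))
  have hl : ∀ v i j, L0 v (.inl (ι (i, j))) = b.coord j (U i (D v)) := fun v i j => by simp [L0]
  have hr : ∀ v i j, L0 v (.inr (ι (i, j))) = trF hK hF (b j * (W i (D v)) ^ q) := fun v i j => by
    simp [L0]
  have hpair : ∀ v i, ∑ j, algebraMap F K (L0 v (.inl (ι (i, j))) * L0 v (.inr (ι (i, j)))) =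
      U i (D v) * (W i (D v)) ^ q + (U i (D v) * (W i (D v)) ^ q) ^ q := by
    intro v i
    rw [← trF_spec hK hF, ← map_sum]
    congr 1
    simp only [hl, hr, Module.Basis.coord_apply, ← smul_eq_mul, ← map_smul, ← map_sum]
    congr 1
    simp only [smul_eq_mul]
    conv_rhs => rw [← b.sum_repr (U i (D v)), Finset.sum_mul]
    simp only [smul_mul_assoc]
  have hinj : Function.Injective L0 := by
    rw [← LinearMap.ker_eq_bot, LinearMap.ker_eq_bot']
    intro v hv
    have hW : ∀ i, W i (D v) = 0 := by
      intro i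
      have h : ∀ z : K, trF hK hF (z * (W i (D v)) ^ q) = 0 := by
        intro z
        rw [← b.sum_repr z, Finset.sum_mul, map_sum]
        refine Finset.sum_eq_zero fun j _ => ?_
        rw [smul_mul_assoc, map_smul, ← hr, hv]
        simp
      have h2 : (W i (D v)) ^ q = 0 := eq_zero_of_trace_mul_eq_zero hK fun z => by
        rw [← trF_spec hK hF, h, map_zero]
      exact (pow_eq_zero_iff (q_ne_zero hK)).1 h2
    have hU : ∀ i, U i (D v) = 0 := fun i => b.ext_elem fun j => by
      have := congrFun hv (.inl (ι (i, j)))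
      rw [hl] at this
      simpa using this
    have hP : ∀ i, v (Fin.castAdd k i) = 0 := fun i => by
      simpa [U, P, W, D, hW i] using hU i
    refine funext (Fin.addCases (fun i => hP i) fun i => ?_)
    have := hW i
    simp only [W, P, S, D, LinearMap.sub_apply, LinearMap.pi_apply, LinearMap.proj_apply,
      Fin.addCases_left, Fin.addCases_right, LinearMap.comp_apply, LinearMap.mulLeft_apply, hP i,
      zero_sub, neg_eq_zero, mul_eq_zero] at this
    exact this.resolve_left he0
  have hfr : finrank F (Fin (k + k) → K) = finrank F (Fin (k + k) ⊕ Fin (k + k) → F) := by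
    simp [Module.finrank_pi_fintype, hd]
    ring
  refine ⟨LinearEquiv.ofInjectiveOfFinrankEq L0 hinj hfr, fun v => ?_⟩
  have happ : ∀ w, LinearEquiv.ofInjectiveOfFinrankEq L0 hinj hfr w = L0 w := fun w => rfl
  · simp only [happ, Cfsg.quadFormPlus]
    rw [map_sum, ← ι.sum_comp, Fintype.sum_prod_type, Cfsg.hermForm, Fin.sum_univ_add,
      ← Finset.sum_add_distrib]
    refine Finset.sum_congr rfl fun i _ => ?_
    rw [hpair]
    simp only [U, W, P, S, D, LinearMap.sub_apply, LinearMap.pi_apply, LinearMap.proj_apply,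
      Fin.addCases_left, Fin.addCases_right, LinearMap.comp_apply, LinearMap.mulLeft_apply]
    set p := v (Fin.castAdd k i)
    set r := v (Fin.natAdd k i)
    simp only [mul_pow, sub_pow_q hK, pow_q_q hK]
    linear_combination (-1 : K) * (p - e * r) * (p ^ q - e ^ q * r ^ q) * hc - r * r ^ q * he

/-- `GU_m(q)` embeds in `O⁺_2m(q)` for `m` even. -/
theorem exists_plus_hom (hK : Fintype.card K = q ^ 2) (hF : Fintype.card F = q) (k : ℕ) :
    ∃ φ : ↥(Cfsg.GU (k + k) K q) →* ↥(Cfsg.isometryGroup F (Cfsg.quadFormPlus (k + k) F)),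
      Function.Injective φ := by
  obtain ⟨L, hL⟩ := exists_plus_coords (K := K) hK hF k
  exact exists_isometry_hom _ L hL

/-- `GU_m(q)` embeds in `O⁻_2m(q)` for `m` odd. -/
theorem exists_minus_hom (hK : Fintype.card K = q ^ 2) (hF : Fintype.card F = q) (k : ℕ) (a b : F)
    (hab : ∀ z₁ z₂ : F, z₁ ^ 2 + a * z₁ * z₂ + b * z₂ ^ 2 = 0 → z₁ = 0 ∧ z₂ = 0) :
    ∃ φ : ↥(Cfsg.GU (k + k + 1) K q) →* ↥(Cfsg.isometryGroup F (Cfsg.quadFormMinus (k + k) F a b)),
      Function.Injective φ := by
  obtain ⟨L, hL⟩ := exists_plus_coords (K := K) hK hF k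
  have hd : finrank F K = 2 := FieldRed.finrank_eq (by rw [hK, hF])
  obtain ⟨r, hr⟩ := FieldRed.exists_root_quadratic (K := K) hd a b fun z hz =>
    one_ne_zero (hab z 1 (by linear_combination hz)).2
  set A := algebraMap F K a
  set B := algebraMap F K b
  have hrF : ∀ x : F, algebraMap F K x ≠ r := by
    rintro x rfl
    refine one_ne_zero (hab x 1 ((algebraMap F K).injective ?_)).2
    simp only [map_add, map_mul, map_pow, map_one, map_zero, mul_one, one_pow]
    linear_combination hr
  have hrq : r ^ q ≠ r := fun h => by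
    obtain ⟨x, hx⟩ := exists_of_fixed hK hF h
    exact hrF x hx
  have hr2 : (r ^ q) ^ 2 + A * r ^ q + B = 0 := by
    have h := congrArg (conj hK) hr
    simp only [map_add, map_mul, map_pow, map_zero, conj_apply, A, B, algebraMap_pow hF] at h
    linear_combination h
  have hsum : r + r ^ q = -A := by
    have h : (r - r ^ q) * (r + r ^ q + A) = 0 := by linear_combination hr - hr2
    exact eq_neg_of_add_eq_zero_left
      ((mul_eq_zero.1 h).resolve_left (sub_ne_zero.2 (Ne.symm hrq)))
  have hmul : r * r ^ q = B := by linear_combination r * hsum - hr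
  let T : (Fin (k + k + 1) → K) →ₗ[F] (Fin (k + k) → K) :=
    LinearMap.pi fun i => LinearMap.proj (Fin.castSucc i)
  let Z : (Fin 2 → F) →ₗ[F] K :=
    (LinearMap.proj (R := F) (φ := fun _ : Fin 2 => F) 0).smulRight (1 : K) +
      (LinearMap.proj (R := F) (φ := fun _ : Fin 2 => F) 1).smulRight (-r)
  have hZ : ∀ z, Z z = algebraMap F K (z 0) - algebraMap F K (z 1) * r := fun z => by
    simp [Z, Algebra.smul_def, sub_eq_add_neg]
  have hZi : Function.Injective Z := by
    rw [← LinearMap.ker_eq_bot, LinearMap.ker_eq_bot']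
    intro z hz
    rw [hZ, sub_eq_zero] at hz
    have h1 : z 1 = 0 := by
      by_contra h1
      apply hrF (z 0 / z 1)
      rw [map_div₀, hz, mul_div_cancel_left₀ _ (by simpa using h1)]
    have h0 : z 0 = 0 := by simpa [h1] using hz
    funext i
    fin_cases i <;> simpa
  let Ze : (Fin 2 → F) ≃ₗ[F] K := LinearEquiv.ofInjectiveOfFinrankEq Z hZi (by simp [hd])
  let L0 : (Fin (k + k + 1) → K) →ₗ[F] ((Fin (k + k) ⊕ Fin (k + k)) ⊕ Fin 2 → F) :=
    LinearMap.pi (Sum.elim (fun x => (LinearMap.proj x).comp (L.toLinearMap.comp T))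
      (fun j => (LinearMap.proj j).comp (Ze.symm.toLinearMap.comp
        (LinearMap.proj (Fin.last (k + k))))))
  have hinj : Function.Injective L0 := by
    rw [← LinearMap.ker_eq_bot, LinearMap.ker_eq_bot']
    intro v hv
    have h1 : T v = 0 := L.map_eq_zero_iff.1 (funext fun x => by
      simpa [L0] using congrFun hv (.inl x))
    have h2 : v (Fin.last (k + k)) = 0 := Ze.symm.map_eq_zero_iff.1 (funext fun j => by
      simpa [L0] using congrFun hv (.inr j))
    exact funext (Fin.lastCases h2 fun i => by simpa [T] using congrFun h1 i)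
  have hfr : finrank F (Fin (k + k + 1) → K) =
      finrank F ((Fin (k + k) ⊕ Fin (k + k)) ⊕ Fin 2 → F) := by
    simp [Module.finrank_pi_fintype, hd]
    ring
  refine exists_isometry_hom _ (LinearEquiv.ofInjectiveOfFinrankEq L0 hinj hfr) fun v => ?_
  have happ : ∀ w, LinearEquiv.ofInjectiveOfFinrankEq L0 hinj hfr w = L0 w := fun w => rfl
  have hzapp : ∀ z, Ze z = Z z := fun z => rfl
  · have hlast : algebraMap F K (Ze.symm (v (Fin.last (k + k))) 0) -
        algebraMap F K (Ze.symm (v (Fin.last (k + k))) 1) * r = v (Fin.last (k + k)) := by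
      rw [← hZ, ← hzapp]
      exact Ze.apply_symm_apply _
    simp only [happ, Cfsg.quadFormMinus, map_add]
    have hplus := hL (T v)
    simp only [Cfsg.quadFormPlus] at hplus
    simp only [L0, LinearMap.pi_apply, Sum.elim_inl, Sum.elim_inr, LinearMap.comp_apply,
      LinearMap.proj_apply, LinearEquiv.coe_coe]
    rw [hplus]
    simp only [Cfsg.hermForm, Fin.sum_univ_castSucc, map_mul, map_pow]
    simp only [T, LinearMap.pi_apply, LinearMap.proj_apply]
    set x := algebraMap F K (Ze.symm (v (Fin.last (k + k))) 0) with hx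
    set y := algebraMap F K (Ze.symm (v (Fin.last (k + k))) 1) with hy
    rw [← hlast, sub_pow_q hK, mul_pow, algebraMap_pow hF, algebraMap_pow hF]
    linear_combination x * y * hsum - y ^ 2 * hmul

end Cfsg.Agent.Lib.UnitaryRed52
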