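/-
Every unipotent Jordan type meets the general unitary group.
-/
import Cfsg.Agent.Lib.JordanType.Conj
import Cfsg.Agent.Lib.Unitary.Basic
import Cfsg.Agent.S2588

set_option autoImplicit false
set_option linter.unusedSectionVars false

namespace Cfsg.Agent.Lib.UnitaryUnipotent52

open Module Matrix Cfsg.Agent.Lib.JordanType

variable {K : Type*} [Field K] {n : ℕ}

theorem isConj_of_rank {A B : Matrix (Fin n) (Fin n) K} (hA : IsNilpotent (A - 1)) (hB : IsNilpotent (B - 1))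
    (h : ∀ j, ((A - 1) ^ j).rank = ((B - 1) ^ j).rank) : IsConj A B := by
  obtain ⟨t, d, -, hd, ⟨C⟩, -⟩ := exists_jordanType A hA
  obtain ⟨t', d', -, hd', ⟨C'⟩, -⟩ := exists_jordanType B hB
  have hk : ∀ j, ∑ k, min (d k) j = ∑ k, min (d' k) j := fun j => by
    rw [← C.finrank_ker_pow j, ← C'.finrank_ker_pow j, ← Matrix.toLin'_pow, ← Matrix.toLin'_pow]
    have h1 := (Matrix.toLin' ((A - 1) ^ j)).finrank_range_add_finrank_ker
    have h2 := (Matrix.toLin' ((B - 1) ^ j)).finrank_range_add_finrank_ker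
    have h3 := h j
    rw [Matrix.rank, Matrix.rank, ← Matrix.toLin'_apply', ← Matrix.toLin'_apply'] at h3
    omega
  obtain ⟨e, he⟩ := exists_conj_of_count C C' hd hd' fun j hj => count_eq hk hj
  exact isConj_of_intertwine e he

theorem inv_sub_one_pow (T : GL (Fin n) K) (j : ℕ) :
    (((T⁻¹ : GL (Fin n) K) : Matrix (Fin n) (Fin n) K) - 1) ^ j =
      (-((T⁻¹ : GL (Fin n) K) : Matrix (Fin n) (Fin n) K)) ^ j * ((T : Matrix (Fin n) (Fin n) K) - 1) ^ j := by
  set M := (T : Matrix (Fin n) (Fin n) K)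
  set Mi := ((T⁻¹ : GL (Fin n) K) : Matrix (Fin n) (Fin n) K)
  have e : Mi - 1 = (-Mi) * (M - 1) := by
    rw [neg_mul, mul_sub, show Mi * M = 1 from T.inv_mul, mul_one]
    abel
  have hc : Commute (-Mi) (M - 1) := (((show Commute Mi M from T.inv_mul.trans T.mul_inv.symm)).sub_right
    (Commute.one_right _)).neg_left
  rw [e, hc.mul_pow]

theorem inv_sub_one_rank (T : GL (Fin n) K) (j : ℕ) :
    ((((T⁻¹ : GL (Fin n) K) : Matrix (Fin n) (Fin n) K) - 1) ^ j).rank =
      (((T : Matrix (Fin n) (Fin n) K) - 1) ^ j).rank := by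
  rw [inv_sub_one_pow, Matrix.rank_mul_eq_right_of_isUnit_det]
  exact (Matrix.isUnit_iff_isUnit_det _).1 ((T⁻¹).isUnit.neg.pow j)

variable [Fintype K] {q : ℕ} (hK : Fintype.card K = q ^ 2)

include hK in
theorem exists_GU_isConj (g : GL (Fin n) K) (hg : IsNilpotent ((g : Matrix (Fin n) (Fin n) K) - 1)) :
    ∃ B : Cfsg.GU n K q, IsConj g (B : GL (Fin n) K) := by
  classical
  obtain ⟨t, d, e, -, -, hJ⟩ := exists_jordanType (g : Matrix (Fin n) (Fin n) K) hg
  set J := Matrix.reindex e e (Cfsg.jordanTypeMatrix d K) with hJdef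
  have hnil : IsNilpotent (J - 1) := isNilpotent_reindex_sub_one d e
  obtain ⟨A, hA⟩ : IsUnit J := by
    rw [show J = 1 + (J - 1) by abel]
    exact hnil.isUnit_one_add
  have hmap : (A : Matrix (Fin n) (Fin n) K).map (fun x : K => x ^ q) = (A : Matrix (Fin n) (Fin n) K) := by
    rw [hA]
    ext i j
    show (J i j) ^ q = J i j
    simp only [hJdef, Cfsg.jordanTypeMatrix, Cfsg.jordanBlock, Matrix.reindex_apply, Matrix.submatrix_apply]
    rcases e.symm i with ⟨a, i'⟩
    rcases e.symm j with ⟨b, j'⟩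
    by_cases hab : a = b
    · subst hab
      simp only [Matrix.blockDiagonal'_apply_eq, Matrix.of_apply]
      split_ifs <;> simp [Unitary.q_ne_zero hK]
    · rw [Matrix.blockDiagonal'_apply_ne _ _ _ hab, zero_pow (Unitary.q_ne_zero hK)]
  have hdet : ((A : Matrix (Fin n) (Fin n) K))ᵀ.det ≠ 0 := by
    rw [Matrix.det_transpose]
    exact ((Matrix.isUnit_iff_isUnit_det _).1 A.isUnit).ne_zero
  let T : GL (Fin n) K := Matrix.GeneralLinearGroup.mkOfDetNeZero _ hdet
  have hTT : (T : Matrix (Fin n) (Fin n) K) - 1 = (J - 1)ᵀ := by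
    show (A : Matrix (Fin n) (Fin n) K)ᵀ - 1 = _
    rw [hA, Matrix.transpose_sub, Matrix.transpose_one]
  have hTi : ((A : Matrix (Fin n) (Fin n) K).map (fun x : K => x ^ q)).transpose⁻¹ =
      ((T⁻¹ : GL (Fin n) K) : Matrix (Fin n) (Fin n) K) := by
    rw [hmap, Matrix.coe_units_inv]
    rfl
  obtain ⟨B, hB⟩ := (Cfsg.Agent.S2588.result hK A).2 (by
    rw [hTi, hA]
    refine isConj_of_rank hnil ?_ fun j => ?_
    · obtain ⟨k, hk⟩ := hnil
      refine ⟨k, ?_⟩
      rw [inv_sub_one_pow, hTT, ← Matrix.transpose_pow, hk, Matrix.transpose_zero, mul_zero]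
    · rw [inv_sub_one_rank, hTT, ← Matrix.transpose_pow, Matrix.rank_transpose])
  refine ⟨B, IsConj.trans (isConj_iff.2 ?_) hB⟩
  obtain ⟨c, hc⟩ := hA ▸ hJ
  exact ⟨c⁻¹, by
    rw [inv_inv, mul_assoc, inv_mul_eq_iff_eq_mul]
    exact Units.ext hc.eq.symm⟩

end Cfsg.Agent.Lib.UnitaryUnipotent52
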